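import Cfsg.Agent.Lib.TwistedStr.Torus
import Cfsg.Agent.Lib.BNPair.Parabolic
import Cfsg.Agent.Lib.Twisted.FrobBuild

/-!
Twisted groups: the core of `B1` is trivial, perfectness from torus elements and from generators,
and simplicity by the criterion for groups with a (B, N)-pair.
-/

set_option autoImplicit false

namespace CfsgLib.Twisted

open Cfsg.Lie CfsgLib.ChevStr
open scoped MatrixGroups commutatorElement

variable {D : ChevalleyDatum} {F : Type*} [Field F] {C : ChevCore D F}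

/-- A positive product avoiding a fundamental root does not meet its root subgroup. -/
theorem simple_not_mem (C : ChevCore D F) (j : Fin D.rank) {s : F}
    (h : C.xGL (D.simple j.val) s ∈ C.Ucl {r | D.IsPosRoot r ∧ r ≠ D.simple j.val}) : s = 0 := by
  have h1 : C.nS j * C.xGL (D.simple j.val) s * (C.nS j)⁻¹ ∈ D.posUnipotent F := by
    refine C.conj_Ucl_le (ChevCore.Acts.moves C (C.acts_nS j)) (T := D.posUnipotent F)
      (fun r hr t => ?_) _ h
    exact C.xGL_mem_posUnipotent (C.hR.refl_pos j hr.1 hr.2) t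
  obtain ⟨u, hu⟩ := (ChevCore.Acts.moves C (C.acts_nS j)).2 (C.pRoot j) s
  have h2 : C.nS j * C.xGL (D.simple j.val) s * (C.nS j)⁻¹ = 1 := by
    refine (Subgroup.eq_bot_iff_forall _).1 C.borel_inf_negUnipotent _ (Subgroup.mem_inf.2
      ⟨le_sup_left (b := D.diagonalSubgroup F) h1, ?_⟩)
    rw [show C.nS j * C.xGL (D.simple j.val) s * (C.nS j)⁻¹ = _ from hu]
    refine C.xGL_mem_negUnipotent ?_ u
    show D.IsNegRoot (D.reflectRoot j.val (D.simple j.val))
    rw [C.hR.refl_simple_self, C.R.isNeg_neg_iff (C.R.simple_lt j)]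
    exact C.R.simple_pos j
  exact (C.xGL_eq_one_iff (C.R.simple_lt j)).1 (conj_eq_one_iff.1 h2)

/-- Conjugation of a word by a torus element. -/
theorem torus_conj_word (c : Fin D.rank → Fˣ) (L : List ℕ) (hL : ∀ r ∈ L, r < D.nroots) (t : ℕ → F) :
    C.R.torus c * C.word L t * (C.R.torus c)⁻¹ =
      C.word L fun r => (C.R.torusChar c (C.R.α r) : F) * t r := by
  induction L with
  | nil => simp [C.word_nil]
  | cons a L ih =>
    rw [C.word_cons, C.word_cons, ← ih fun r hr => hL r (List.mem_cons_of_mem _ hr),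
      ← C.acts_torus c ⟨a, hL a (List.mem_cons_self ..)⟩ (t a)]
    group

/-- A torus element moving every root of a closed set fixes nothing in its subgroup. -/
theorem eq_one_of_torus_commute {S : Set ℕ} (hS : C.R.IsClosed S) (c : Fin D.rank → Fˣ)
    (hc : ∀ r ∈ S, C.R.torusChar c (C.R.α r) ≠ 1) {u : GL D.Idx F} (hu : u ∈ C.Ucl S)
    (h : C.R.torus c * u * (C.R.torus c)⁻¹ = u) : u = 1 := by
  classical
  have hset := C.setOf_mem_rootList (S := S) fun r hr => (hS.1 r hr).1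
  have hmem : ∀ r ∈ C.rootList S, r ∈ S := fun r hr =>
    of_decide_eq_true (List.mem_filter.1 hr).2
  obtain ⟨t, ht⟩ := C.exists_word (L := C.rootList S) (ChevCore.sorted_filter _) (by rwa [hset]) u
    (by rwa [hset])
  subst ht
  rw [torus_conj_word c _ (fun r hr => (hS.1 r (hmem r hr)).1)] at h
  have h0 : ∀ r ∈ C.rootList S, t r = (fun _ : ℕ => (0 : F)) r := by
    intro r hr
    have h1 := C.word_injective (L := C.rootList S) (ChevCore.sorted_filter _)
      (fun r hr => hS.1 r (hmem r hr)) _ _ h r hr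
    by_contra hne
    exact hc r (hmem r hr) (Units.ext (mul_left_eq_self₀.1 h1 |>.resolve_right hne))
  rw [C.word_congr h0]
  refine List.prod_eq_one fun x hx => ?_
  simp only [List.map_map, List.mem_map, Function.comp] at hx
  obtain ⟨r, -, rfl⟩ := hx
  exact C.xGL_zero r

namespace Gens

variable {φ : Frob C} {I : Type} {O : OrbitData C.R φ.ρ I} {G1 : Subgroup (GL D.Idx F)} {d : ℕ}
  (g : Gens φ O G1 d)

include g

/-- The characters of a torus element of `G1` follow the endomorphism. -/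
theorem char_fixed {c : Fin D.rank → Fˣ} (hc : C.R.torus c ∈ G1) (r : Fin D.nroots) :
    C.R.torusChar c (C.R.α (φ.ρ r : Fin D.nroots)) = C.R.torusChar c (C.R.α r) ^ φ.e r := by
  obtain ⟨hG, hfix⟩ := g.le_fixed hc
  have hx := C.xGL_mem_group (r : ℕ) (1 : F)
  have e := congrArg φ.act (C.acts_torus c r 1)
  rw [φ.act_mul (mul_mem hG hx) (inv_mem hG), φ.act_mul hG hx, φ.act_inv hG, hfix, φ.act_x, φ.act_x,
    C.acts_torus] at e
  have h := C.xGL_injective (φ.ρ r).isLt e
  rw [one_pow, mul_one, mul_one, mul_comm, mul_right_inj' (φ.ε_ne r)] at h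
  exact Units.ext (by rw [Units.val_pow_eq_pow_val]; exact h)

variable [Fintype F]

/-- A torus element commuting with the fixed elements of `U` is trivial. -/
theorem core_eq_bot
    (helt : ∀ i, ∃ j ∈ O.J i, ∃ s : F, s ≠ 0 ∧
      ∃ y ∈ C.Ucl {r | D.IsPosRoot r ∧ r ≠ D.simple j.val}, C.xGL (D.simple j.val) s * y ∈ G1) :
    ((D.borelSubgroup F ⊓ G1).subgroupOf G1).normalCore = ⊥ := by
  obtain ⟨w, hw, hc, hneg⟩ := exists_longest_commute (φ := φ)
  obtain ⟨n, hnN, hn1, hmv⟩ := g.exists_rep_twist hw hc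
  refine g.twist.normalCore_eq_bot (w := n) ⟨hnN, hn1⟩ (fun u hu => ?_) (fun h hh hcomm => ?_)
  · show n * u * n⁻¹ ∈ D.negUnipotent F
    refine C.conj_Ucl_le hmv (T := D.negUnipotent F) (S := {r | D.IsPosRoot r})
      (fun r hr t => C.xGL_mem_negUnipotent (hneg r hr) t) u ?_
    rw [← C.posUnipotent_eq]; exact hu
  · obtain ⟨hhD, hh1⟩ := hh
    have hhD' : h ∈ C.R.torus.range := C.diagonalSubgroup_eq ▸ hhD
    obtain ⟨c, rfl⟩ := hhD'
    have hsimple : ∀ j : Fin D.rank, C.R.torusChar c (C.R.α (D.simple j.val)) = 1 := by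
      intro k
      obtain ⟨i, hi⟩ := O.cover k
      obtain ⟨j, hj, s, hs, y, hy, hmem⟩ := helt i
      have hyU : y ∈ D.posUnipotent F := by
        rw [C.posUnipotent_eq]; exact C.Ucl_mono (fun r hr => hr.1) hy
      have hu := hcomm _ ⟨mul_mem (C.xGL_mem_posUnipotent (C.R.simple_pos j) s) hyU, hmem⟩
      have hchar : C.R.torusChar c (C.R.α (D.simple j.val)) = 1 := by
        set χ : F := (C.R.torusChar c (C.R.α (D.simple j.val)) : F) with hχ
        set S := {r | D.IsPosRoot r ∧ r ≠ D.simple j.val}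
        have hy' : C.R.torus c * y * (C.R.torus c)⁻¹ ∈ C.Ucl S :=
          (Subgroup.mem_normalizer_iff.1 (C.torus_normalizes S ⟨c, rfl⟩) y).1 hy
        have e : C.xGL (D.simple j.val) (χ * s) * (C.R.torus c * y * (C.R.torus c)⁻¹) =
            C.xGL (D.simple j.val) s * y := by
          rw [show C.xGL (D.simple j.val) (χ * s) =
            C.R.torus c * C.xGL (D.simple j.val) s * (C.R.torus c)⁻¹ from (C.acts_torus c (C.pRoot j) s).symm]
          show C.R.torus c * C.xGL (D.simple j.val) s * (C.R.torus c)⁻¹ * _ = _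
          calc _ = C.R.torus c * (C.xGL (D.simple j.val) s * y) * (C.R.torus c)⁻¹ := by group
            _ = _ := by rw [hu]; group
        have h1 : C.xGL (D.simple j.val) (χ * s - s) ∈ C.Ucl S := by
          rw [show χ * s - s = -s + χ * s by ring, C.xGL_add,
            show C.xGL (D.simple j.val) (χ * s) = C.xGL (D.simple j.val) s * y *
              (C.R.torus c * y * (C.R.torus c)⁻¹)⁻¹ from eq_mul_inv_of_mul_eq e,
            ← C.xGL_inv]
          rw [show (C.xGL (D.simple j.val) s)⁻¹ * (C.xGL (D.simple j.val) s * y *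
              (C.R.torus c * y * (C.R.torus c)⁻¹)⁻¹) = y * (C.R.torus c * y * (C.R.torus c)⁻¹)⁻¹ by group]
          exact mul_mem hy (inv_mem hy')
        have h2 := simple_not_mem C j h1
        rw [sub_eq_zero, mul_left_eq_self₀] at h2
        exact Units.ext (h2.resolve_right hs)
      obtain ⟨m, hm⟩ := O.trans i j hj k hi
      have key : ∀ m : ℕ, C.R.torusChar c
          (C.R.α ((φ.ρ ^ m) ⟨D.simple j.val, C.R.simple_lt j⟩ : Fin D.nroots)) = 1 := by
        intro m
        induction m with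
        | zero => exact hchar
        | succ m ih => rw [pow_succ', Equiv.Perm.mul_apply, g.char_fixed hh1, ih, one_pow]
      have e := key m.val
      rwa [hm] at e
    refine (C.torus_eq_one_iff c).2 (funext fun k => ?_)
    rw [← hsimple k, C.R.torusChar_root c (C.R.simple_lt k)]
    rfl

/-- The fixed part of an orbit group consists of commutators when a torus element moves all its roots. -/
theorem fixU_le_commutator (i : I) {c : Fin D.rank → Fˣ} (hc : C.R.torus c ∈ G1)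
    (hne : ∀ r ∈ inRoots C.R (O.J i), C.R.torusChar c (C.R.α r) ≠ 1) :
    φ.fixU (inRoots C.R (O.J i)) ≤ ⁅G1, G1⁆ := by
  classical
  set S := inRoots C.R (O.J i)
  set h := C.R.torus c
  have hnorm : ∀ u ∈ φ.fixU S, h * u * h⁻¹ ∈ φ.fixU S := fun u hu =>
    Subgroup.mem_inf.2 ⟨(Subgroup.mem_normalizer_iff.1 (C.torus_normalizes S ⟨c, rfl⟩) u).1
      (Subgroup.mem_inf.1 hu).1,
      mul_mem (mul_mem (g.le_fixed hc) (Subgroup.mem_inf.1 hu).2) (inv_mem (g.le_fixed hc))⟩
  let f : φ.fixU S → φ.fixU S := fun u =>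
    ⟨h * u * h⁻¹ * (u : GL D.Idx F)⁻¹, mul_mem (hnorm u u.2) (inv_mem u.2)⟩
  have hinj : Function.Injective f := by
    intro u v huv
    have e : h * (u : GL D.Idx F) * h⁻¹ * (u : GL D.Idx F)⁻¹ = h * v * h⁻¹ * (v : GL D.Idx F)⁻¹ :=
      congrArg Subtype.val huv
    have e2 : h * ((v : GL D.Idx F)⁻¹ * u) * h⁻¹ = (v : GL D.Idx F)⁻¹ * u := by
      calc h * ((v : GL D.Idx F)⁻¹ * u) * h⁻¹
          = (h * v * h⁻¹)⁻¹ * (h * (u : GL D.Idx F) * h⁻¹ * (u : GL D.Idx F)⁻¹) * u := by group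
        _ = _ := by rw [e]; group
    refine Subtype.ext (inv_mul_eq_one.1 (eq_one_of_torus_commute (inRoots_closed _ _) c hne ?_ e2)).symm
    exact (Subgroup.mem_inf.1 (mul_mem (inv_mem v.2) u.2 : _ ∈ φ.fixU S)).1
  intro u hu
  obtain ⟨v, hv⟩ := Finite.surjective_of_injective hinj ⟨u, hu⟩
  rw [← show h * v * h⁻¹ * (v : GL D.Idx F)⁻¹ = u from congrArg Subtype.val hv]
  exact Subgroup.commutator_mem_commutator hc (g.pos_le i v.2)

/-- Perfectness from the orbit groups. -/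
theorem commutator_eq_top {W : Set (List (ℕ × F))} (hG : G1 = D.genSubgroup F W)
    (hW : ∀ w ∈ W, ∃ i, (∀ p ∈ w, p.1 ∈ inRoots C.R (O.J i)) ∨ ∀ p ∈ w, p.1 ∈ negRootsIn C.R (O.J i))
    (h : ∀ i, φ.fixU (inRoots C.R (O.J i)) ≤ ⁅G1, G1⁆) : commutator ↥G1 = ⊤ := by
  have key : G1 ≤ ⁅G1, G1⁆ := by
    conv_lhs => rw [hG]
    refine (Subgroup.closure_le _).2 ?_
    rintro x ⟨w, hw, hx⟩
    obtain rfl : x = C.wordGL w := Units.ext (hx.trans (C.coe_wordGL w).symm)
    have hxG : C.wordGL w ∈ G1 := by rw [hG]; exact C.wordGL_mem_gen hw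
    obtain ⟨i, hp | hp⟩ := hW w hw
    · exact h i (Subgroup.mem_inf.2 ⟨C.wordGL_mem_Ucl hp, g.le_fixed hxG⟩)
    · have hsG := g.s_mem i
      have hin : g.s i * C.wordGL w * (g.s i)⁻¹ ∈ C.Ucl (inRoots C.R (O.J i)) := by
        refine C.conj_Ucl_le (g.s_moves i) (T := C.Ucl (inRoots C.R (O.J i)))
          (fun r hr t => C.xGL_mem_Ucl (show _ ∈ inRoots C.R (O.J i) from ⟨?_, ?_⟩) t) _ (C.wordGL_mem_Ucl hp)
        · refine (C.R.pos_or_neg (g.wJ i r).isLt).resolve_right fun hneg => ?_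
          have h1 : (D.neg (r : ℕ)) ∈ inRoots C.R (O.J i) :=
            ⟨(C.R.isPos_neg_iff r.isLt).2 hr.1, fun m hm => by
              rw [C.R.α_neg _ r.isLt, Pi.neg_apply, hr.2 m hm, neg_zero]⟩
          have h2 := neg_of_supp C.hR (C.hR.weylSub_le _ (g.wJ_mem i)) (g.wJ_neg i)
            (s := ⟨D.neg r, C.R.neg_lt r r.isLt⟩) h1
          rw [C.hR.apply_neg (C.hR.weylSub_le _ (g.wJ_mem i)) r,
            C.R.isNeg_neg_iff (g.wJ i r).isLt] at h2
          exact C.R.not_pos_and_neg h2 hneg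
        · exact (suppIn_weyl C.hR (g.wJ_mem i) r).2 hr.2
      have hy := h i (Subgroup.mem_inf.2
        ⟨hin, g.le_fixed (mul_mem (mul_mem hsG hxG) (inv_mem hsG))⟩)
      have hc := Subgroup.commutator_mem_commutator (inv_mem hsG)
        (mul_mem (mul_mem hsG hxG) (inv_mem hsG))
      have := mul_mem hc hy
      simpa [commutatorElement_def, mul_assoc] using this
  apply Subgroup.map_injective G1.subtype_injective
  rw [commutator_def, Subgroup.map_commutator, ← MonoidHom.range_eq_map, Subgroup.range_subtype]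
  exact le_antisymm (Subgroup.commutator_le.2 fun a ha b hb => by
    rw [commutatorElement_def]; exact mul_mem (mul_mem (mul_mem ha hb) (inv_mem ha)) (inv_mem hb)) key

theorem wJ_eq (i : I) {w : Equiv.Perm (Fin D.nroots)} (hw : w ∈ C.hR.weylSub (O.J i))
    (hneg : ∀ j ∈ O.J i, D.IsNegRoot (w ⟨D.simple j.val, C.R.simple_lt j⟩)) : g.wJ i = w :=
  mul_left_cancel ((g.wJ_mul_self i).trans
    (mul_eq_one_of_neg C.hR (g.wJ_mem i) (g.wJ_neg i) hw hneg).symm)

/-- Tits's criterion for a twisted group. -/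
theorem isSimple [Nonempty I] (hperf : commutator ↥G1 = ⊤)
    (hcore : ((D.borelSubgroup F ⊓ G1).subgroupOf G1).normalCore = ⊥)
    (hconn : ∀ J : Set I, J.Nonempty → Jᶜ.Nonempty → ∃ i ∈ J, ∃ k ∉ J, ¬ Commute (g.wJ i) (g.wJ k)) :
    IsSimpleGroup ↥G1 ∧ ¬ IsMulCommutative ↥G1 := by
  classical
  obtain ⟨v, hv1, -, hvne⟩ := g.neg_elt (Classical.arbitrary I)
  have : Nontrivial ↥G1 := ⟨⟨⟨v, hv1⟩, 1, fun e => hvne (congrArg Subtype.val e)⟩⟩
  refine ⟨?_, ?_⟩
  · set P := g.reflections.bnPair with hP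
    refine CfsgLib.BNPair.isSimpleGroup_of_irreducible P ?_ ?_ hperf hcore
    · intro J hJ hne hne'
      set J' : Set I := {i | (⟨g.s i, g.s_mem i⟩ : ↥G1) ∈ J}
      have h1 : J'.Nonempty := by
        obtain ⟨x, hx⟩ := hne
        obtain ⟨i, rfl⟩ := hJ hx
        exact ⟨i, hx⟩
      have h2 : J'ᶜ.Nonempty := by
        obtain ⟨x, hxS, hxJ⟩ := hne'
        obtain ⟨i, rfl⟩ := hxS
        exact ⟨i, hxJ⟩
      obtain ⟨i, hi, k, hk, hnc⟩ := hconn J' h1 h2
      refine ⟨_, hi, ⟨g.s k, g.s_mem k⟩, ⟨⟨k, rfl⟩, hk⟩, fun hB => hnc ?_⟩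
      set n := g.s i * g.s k * (g.s i)⁻¹ * (g.s k)⁻¹
      have hnB : n ∈ D.borelSubgroup F := hB.1
      have hnN : n ∈ D.monomialSubgroup F := mul_mem (mul_mem (mul_mem (g.s_mem_N i) (g.s_mem_N k))
        (inv_mem (g.s_mem_N i))) (inv_mem (g.s_mem_N k))
      have hH : n ∈ C.R.torus.range := C.diagonalSubgroup_eq ▸ (chevAmbient C).B_inf_N hnB hnN
      obtain ⟨c, hc⟩ := hH
      have hm : C.Moves n (g.wJ i * g.wJ k * (g.wJ i)⁻¹ * (g.wJ k)⁻¹) :=
        ChevCore.Moves.mul C (ChevCore.Moves.mul C (ChevCore.Moves.mul C (g.s_moves i) (g.s_moves k))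
          (ChevCore.Moves.inv C (g.s_mem_N i) (g.s_moves i)))
          (ChevCore.Moves.inv C (g.s_mem_N k) (g.s_moves k))
      have h3 := ChevCore.Moves.unique C hm (hc ▸ C.moves_torus c)
      rw [mul_inv_eq_one, mul_inv_eq_iff_eq_mul] at h3
      exact h3
    · have : Group.IsSolvable ↥(D.borelSubgroup F) := C.borel_isSolvable
      exact Group.isSolvable_of_isSolvable_injective
        (f := (((G1.subtype).comp P.B.subtype).codRestrict (D.borelSubgroup F) fun x => x.2.1))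
        (fun a b e => by
          have e' := congrArg (fun z : ↥(D.borelSubgroup F) => (z : GL D.Idx F)) e
          exact Subtype.ext (Subtype.ext e'))
  · intro hcomm
    have h1 : commutator ↥G1 = ⊥ := by
      rw [commutator_def, Subgroup.commutator_eq_bot_iff_le_centralizer]
      intro x _
      rw [Subgroup.mem_centralizer_iff]
      intro y _
      exact hcomm.is_comm.comm y x
    rw [hperf] at h1
    exact top_ne_bot h1

end Gens

end CfsgLib.Twisted

namespace CfsgLib.Twisted.Gens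

open Cfsg.Lie CfsgLib.ChevStr
open scoped MatrixGroups

variable {D : ChevalleyDatum} {F : Type*} [Field F] {C : ChevCore D F} {φ : Frob C} {n : ℕ}
  {O : OrbitData C.R φ.ρ (Fin n)} {G1 : Subgroup (GL D.Idx F)} {d : ℕ}
  (g : Gens φ O G1 d) [Fintype F]

include g

/-- The longest elements of the orbits do not split, read off words. -/
theorem conn_of_words (L : Fin n → List (Fin D.rank)) (hmem : ∀ i, ∀ j ∈ L i, j ∈ O.J i)
    (hneg : ∀ i, ∀ j ∈ O.J i, D.IsNegRoot (C.hR.wordPerm (L i) ⟨D.simple j.val, C.R.simple_lt j⟩))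
    (h : ∀ b : Fin n → Bool, (∃ i, b i = true) → (∃ k, b k = false) → ∃ i k, b i = true ∧ b k = false ∧
      ¬ ∀ r, C.hR.wordPerm (L i) (C.hR.wordPerm (L k) r) = C.hR.wordPerm (L k) (C.hR.wordPerm (L i) r))
    (J : Set (Fin n)) (hne : J.Nonempty) (hne' : Jᶜ.Nonempty) :
    ∃ i ∈ J, ∃ k ∉ J, ¬ Commute (g.wJ i) (g.wJ k) := by
  classical
  have hw : ∀ i, g.wJ i = C.hR.wordPerm (L i) := fun i => g.wJ_eq i
    ((C.hR.weylSub _).list_prod_mem fun x hx => by
      obtain ⟨j, hj, rfl⟩ := List.mem_map.1 hx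
      exact C.hR.sPerm_mem_sub (hmem i j hj)) (hneg i)
  obtain ⟨i0, hi0⟩ := hne
  obtain ⟨k0, hk0⟩ := hne'
  obtain ⟨i, k, hi, hk, hnc⟩ := h (fun i => decide (i ∈ J)) ⟨i0, decide_eq_true hi0⟩
    ⟨k0, decide_eq_false hk0⟩
  refine ⟨i, of_decide_eq_true hi, k, of_decide_eq_false hk, fun hc => hnc fun r => ?_⟩
  rw [← hw, ← hw, ← Equiv.Perm.mul_apply, hc.eq, Equiv.Perm.mul_apply]

end CfsgLib.Twisted.Gens

namespace CfsgLib.Twisted.Gens

open Cfsg.Lie CfsgLib.ChevStr
open scoped MatrixGroups commutatorElement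

variable {D : ChevalleyDatum} {F : Type*} [Field F] {C : ChevCore D F} {φ : Frob C} {I : Type}
  {O : OrbitData C.R φ.ρ I} {G1 : Subgroup (GL D.Idx F)} {d : ℕ}
  (g : Gens φ O G1 d)

/-- A root fixed by the endomorphism, with `x_r(t) ↦ x_r(t ^ q)`. -/
structure FixedRoot (φ : Frob C) (q : ℕ) (a : Fin D.nroots) : Prop where
  pos : D.IsPosRoot a
  root : φ.ρ a = a
  exp : φ.e a = q
  sign : φ.ε a = 1

include g

theorem fixed_param {q : ℕ} {a : Fin D.nroots} (ha : FixedRoot φ q a) {t : F}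
    (h : C.xGL a t ∈ G1) : t ^ q = t := by
  have e := (g.le_fixed h).2
  rw [φ.act_x, ha.root, ha.exp, ha.sign, one_mul] at e
  exact C.xGL_injective a.isLt e

variable [Fintype F]

theorem fixed_mem {q : ℕ} {a : Fin D.nroots} (ha : FixedRoot φ q a) {t : F} (ht : t ^ q = t) :
    C.xGL a t ∈ G1 :=
  g.twist.U1_le _ (C.xGL_mem_posUnipotent ha.pos t)
    (show φ.act (C.xGL a t) = C.xGL a t by rw [φ.act_x, ha.root, ha.exp, ha.sign, one_mul, ht])

/-- The fixed part of the sum of two fixed roots consists of commutators. -/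
theorem long_le_commutator {q : ℕ} {a b k : Fin D.nroots} (ha : FixedRoot φ q a) (hb : FixedRoot φ q b)
    (hba : (b : ℕ) ≠ a) (hbn : (b : ℕ) ≠ D.neg a) (hqn : (-1 : F) ^ q = -1)
    (h : ∃ z ∈ [(1 : ℤ), -1], D.commTerms a b = [((k : ℕ), z, 1, 1)]) :
    ∀ u : F, u ^ q = u → C.xGL k u ∈ ⁅G1, G1⁆ := by
  intro u hu
  obtain ⟨z, hz, hterms⟩ := h
  have hA := g.fixed_mem ha (t := -1) hqn
  have hz' : (z : F) * (z : F) = 1 ∧ (z : F) ^ q = z := by
    rcases List.mem_pair.1 hz with rfl | rfl <;> simp [hqn]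
  have hB := g.fixed_mem hb (t := (z : F) * u) (by rw [mul_pow, hz'.2, hu])
  have e := C.xGL_comm a.isLt b.isLt hba hbn (-1) ((z : F) * u)
  have hw : C.wordGL (D.commWord F a b (-1) ((z : F) * u)) = C.xGL k u := by
    simp only [ChevalleyDatum.commWord, hterms, List.map_cons, List.map_nil, C.wordGL_cons,
      C.wordGL_nil, mul_one]
    rw [neg_neg, one_pow, mul_one, pow_one, ← mul_assoc, hz'.1, one_mul]
  rw [hw] at e
  rw [show C.xGL k u = ⁅(C.xGL b ((z : F) * u))⁻¹, (C.xGL a (-1))⁻¹⁆ by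
    rw [commutatorElement_def, inv_inv, inv_inv, mul_assoc _ (C.xGL b _) (C.xGL a _), e]; group]
  exact Subgroup.commutator_mem_commutator (inv_mem hB) (inv_mem hA)

omit [Fintype F] in
theorem mem_of_conj_commutator {n x : GL D.Idx F} (hn : n ∈ G1) (hx : x ∈ G1)
    (h : n * x * n⁻¹ ∈ ⁅G1, G1⁆) : x ∈ ⁅G1, G1⁆ := by
  have hc := Subgroup.commutator_mem_commutator (inv_mem hn) (mul_mem (mul_mem hn hx) (inv_mem hn))
  have := mul_mem hc h
  simpa [commutatorElement_def, mul_assoc] using this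

/-- Pulling commutators back along the representative of an orbit. -/
theorem pull_commutator (i : I) {q : ℕ} {a b : Fin D.nroots} (ha : FixedRoot φ q a)
    (hb : FixedRoot φ q b) (hab : g.wJ i a = b) (h : ∀ u : F, u ^ q = u → C.xGL b u ∈ ⁅G1, G1⁆) :
    ∀ t : F, t ^ q = t → C.xGL a t ∈ ⁅G1, G1⁆ := by
  intro t ht
  have hx := g.fixed_mem ha ht
  obtain ⟨u, hu⟩ := (g.s_moves i).2 a t
  rw [hab] at hu
  refine g.mem_of_conj_commutator (g.s_mem i) hx ?_
  rw [hu]
  exact h u (g.fixed_param hb (hu ▸ mul_mem (mul_mem (g.s_mem i) hx) (inv_mem (g.s_mem i))))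

omit g [Fintype F] in
/-- A fixed element of the group of one fixed root. -/
theorem fixU_single {q : ℕ} {a : Fin D.nroots} (ha : FixedRoot φ q a)
    (hcl : C.R.IsClosed (listSet [(a : ℕ)])) {u : GL D.Idx F} (hu : u ∈ φ.fixU (listSet [(a : ℕ)])) :
    ∃ t : F, t ^ q = t ∧ u = C.xGL a t := by
  obtain ⟨hu1, hu2⟩ := Subgroup.mem_inf.1 hu
  obtain ⟨v, rfl⟩ := C.exists_word (L := [(a : ℕ)]) (List.pairwise_singleton _ _) hcl u hu1
  have e : C.word [(a : ℕ)] v = C.xGL a (v a) := by rw [C.word_cons, C.word_nil, mul_one]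
  rw [e] at hu2 ⊢
  refine ⟨v a, ?_, rfl⟩
  have e2 := hu2.2
  rw [φ.act_x, ha.root, ha.exp, ha.sign, one_mul] at e2
  exact C.xGL_injective a.isLt e2

end CfsgLib.Twisted.Gens
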