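import Cfsg.Agent.Lib.TwistedStr.Weyl
import Cfsg.Agent.Lib.Twisted.TypeF4

/-! The twisted Weyl group of type ²F₄ and its Poincaré polynomial. -/

set_option autoImplicit false

namespace CfsgLib.Twisted

open Cfsg.Lie CfsgLib.ChevStr

/-- Words for the longest elements of the orbits. -/
def f4TwistWord : Fin 2 → List (Fin chevF4.rank)
  | 0 => [⟨0, by decide⟩, ⟨3, by decide⟩]
  | 1 => [⟨1, by decide⟩, ⟨2, by decide⟩, ⟨1, by decide⟩, ⟨2, by decide⟩]

/-- The lengths and words of the generators. -/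
def f4TwistWords : List (ℕ × List ℕ) := [(2, [0, 3]), (4, [1, 2, 1, 2])]

theorem f4_rho_neg : ∀ r : Fin chevF4.nroots, chevF4.IsNegRoot r → chevF4.IsNegRoot (rhoF4 r) := by
  decide +kernel

theorem f4_word_mem : ∀ i, ∀ j ∈ f4TwistWord i, j ∈ nodesF4 i := by decide +kernel

theorem f4_word_neg : ∀ i, ∀ j ∈ nodesF4 i, chevF4.IsNegRoot
    (reflDataF4.wordPerm (f4TwistWord i) ⟨chevF4.simple j.val, rootDataF4.simple_lt j⟩) := by
  decide +kernel

theorem f4_word_comm : ∀ i, ∀ r, rhoF4 (reflDataF4.wordPerm (f4TwistWord i) r) =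
    reflDataF4.wordPerm (f4TwistWord i) (rhoF4 r) := by
  decide +kernel

theorem f4_word_spec : f4TwistWords = (List.finRange 2).map fun i =>
    ((Finset.univ.filter fun s : Fin chevF4.nroots => chevF4.IsPosRoot s.val ∧
      chevF4.IsNegRoot (reflDataF4.wordPerm (f4TwistWord i) s)).card,
        (f4TwistWord i).map fun j : Fin chevF4.rank => j.val) := by
  decide +kernel

theorem f4_counts : twistCounts chevF4 f4TwistWords 24 =
    [1, 0, 1, 0, 1, 0, 2, 0, 1, 0, 1, 0, 2, 0, 1, 0, 1, 0, 2, 0, 1, 0, 1, 0, 1] := by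
  decide +kernel

theorem sum_twistSetF4 (f : ℕ → ℕ) :
    ∑ w ∈ twistSet reflDataF4 rhoF4, f (reflDataF4.invSet w).card =
      ∑ m ∈ Finset.range 25, ([1, 0, 1, 0, 1, 0, 2, 0, 1, 0, 1, 0, 2, 0, 1, 0, 1, 0, 2, 0, 1, 0, 1, 0, 1] : List ℕ).getD m 0 * f m := by
  rw [← f4_counts]
  refine sum_twistSet reflDataF4 orbF4 f4_rho_neg f4TwistWord
    (fun i => ⟨f4_word_mem i, f4_word_neg i, f4_word_comm i⟩) (List.finRange 2) List.mem_finRange _ ?_
    (by decide +kernel) f
  rw [f4_word_spec]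
  refine List.map_congr_left fun i _ => ?_
  congr 2

end CfsgLib.Twisted
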