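import Cfsg.Agent.Lib.TwistedStr.OrbitTorus
import Cfsg.Agent.Lib.TwistedStr.WeylF4
import Cfsg.Agent.Lib.ChevStr.Orders

/-! The torus and the order of ²F₄. -/

set_option autoImplicit false

namespace CfsgLib.Twisted

open Cfsg.Lie CfsgLib.ChevStr
open scoped MatrixGroups

/-- The fundamental root with a given number. -/
def nodeF4 (k : ℕ) (h : k < 4 := by omega) : Fin chevF4.rank := ⟨k, h⟩

/-- The permutation of the fundamental roots. -/
def piF4 : Equiv.Perm (Fin chevF4.rank) where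
  toFun j := [nodeF4 3, nodeF4 2, nodeF4 1, nodeF4 0].getD j.val j
  invFun j := [nodeF4 3, nodeF4 2, nodeF4 1, nodeF4 0].getD j.val j
  left_inv := by unfold Function.LeftInverse; decide +kernel
  right_inv := by unfold Function.RightInverse Function.LeftInverse; decide +kernel

/-- The exponents of the endomorphism on the fundamental roots. -/
def exF4 (m : ℕ) (j : Fin chevF4.rank) : ℕ := 2 ^ m * [2, 2, 1, 1].getD j.val 1

theorem piF4_root : ∀ j : Fin chevF4.rank,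
    (rhoF4 ⟨chevF4.simple j.val, rootDataF4.simple_lt j⟩ : ℕ) = chevF4.simple (piF4 j).val := by
  decide +kernel

theorem exF4_spec : ∀ j : Fin chevF4.rank,
    subF4.ex (chevF4.simple j.val) = [2, 2, 1, 1].getD j.val 1 := by decide +kernel

theorem piF4_sq : ∀ j, piF4 (piF4 j) = j := by decide +kernel

theorem piF4_vals : piF4 (nodeF4 0) = nodeF4 3 ∧ piF4 (nodeF4 1) = nodeF4 2 ∧
    piF4 (nodeF4 2) = nodeF4 1 ∧ piF4 (nodeF4 3) = nodeF4 0 := by decide +kernel

theorem nodeF4_cases : ∀ j : Fin chevF4.rank,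
    j = nodeF4 0 ∨ j = nodeF4 1 ∨ j = nodeF4 2 ∨ j = nodeF4 3 := by decide +kernel

theorem prod_nodeF4 {M : Type*} [CommMonoid M] (f : Fin chevF4.rank → M) :
    ∏ j, f j = f (nodeF4 0) * f (nodeF4 1) * f (nodeF4 2) * f (nodeF4 3) :=
  Fin.prod_univ_four f

theorem f4_simples : chevF4.simple 0 = f4p1 ∧ chevF4.simple 3 = f4p4 ∧ chevF4.neg f4p1 = f4m1 ∧
    chevF4.neg f4p4 = f4m4 := by decide +kernel

theorem f4_commPair : CommPair chevF4 (chevF4.simple 3) (chevF4.simple 0) := by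
  unfold CommPair
  decide +kernel

/-- The inverse Cartan matrix. -/
def invF4 : List (List ℤ) := [[2, 3, 2, 1], [3, 6, 4, 2], [4, 8, 6, 3], [2, 4, 3, 2]]

theorem invF4_spec : ∀ i j : Fin chevF4.rank,
    ∑ a : Fin chevF4.rank, tableEnt invF4 i.val a.val * chevF4.cartan j.val (chevF4.simple a.val) =
      if i = j then ((1 : ℕ) : ℤ) else 0 := by decide +kernel

/-- The longest element of the second orbit on the torus parameters. -/
def turnF4 : List (List ℤ) := [[1, 0, 0, 0], [2, -1, 0, 1], [2, 0, -1, 2], [0, 0, 0, 1]]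

theorem turnF4_spec : ∀ i j : Fin chevF4.rank,
    ∑ a, reflMat chevF4 (nodeF4 1) i a * (∑ b, reflMat chevF4 (nodeF4 2) a b *
      (∑ c, reflMat chevF4 (nodeF4 1) b c * reflMat chevF4 (nodeF4 2) c j)) =
      tableEnt turnF4 i.val j.val := by decide +kernel

theorem turnF4_word : ∀ j ∈ nodesF4 1, chevF4.IsNegRoot
    (reflDataF4.wordPerm (f4TwistWord 1) ⟨chevF4.simple j.val, rootDataF4.simple_lt j⟩) :=
  f4_word_neg 1

theorem node_mem_F4 : nodeF4 1 ∈ nodesF4 1 ∧ nodeF4 2 ∈ nodesF4 1 := by decide +kernel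

variable (K : Type*) [Field K] [Fintype K] [CharP K 2] {m : ℕ}
  (hn : Fintype.card K = 2 * (2 ^ m * 2 ^ m))

omit [Fintype K] in
theorem torusActF4 : TorusAct (frobF4 K m) piF4 (exF4 m) :=
  ⟨piF4_root, fun j => by
    show 2 ^ m * subF4.ex (chevF4.simple j.val) = _
    rw [exF4, exF4_spec]⟩

omit [CharP K 2] in
theorem fixF4_eq {c : Fin chevF4.rank → Kˣ} (h : ∀ j, c (piF4 j) = c j ^ exF4 m j) :
    c (nodeF4 0) = c (nodeF4 3) ^ 2 ^ m ∧ c (nodeF4 1) = c (nodeF4 2) ^ 2 ^ m := by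
  obtain ⟨-, -, e2, e3⟩ := piF4_vals
  have h2 := h (nodeF4 2); have h3 := h (nodeF4 3)
  rw [e2] at h2; rw [e3] at h3
  simp only [exF4, nodeF4, List.getD_cons_succ, List.getD_cons_zero, mul_one] at h2 h3
  exact ⟨h3, h2⟩

include hn

omit [CharP K 2] in
theorem unit_powF4 (u : Kˣ) : u ^ (2 * (2 ^ m * 2 ^ m)) = u := by
  refine Units.ext ?_
  rw [Units.val_pow_eq_pow_val, ← hn, FiniteField.pow_card]

theorem pairTorusF4 (c : Kˣ) :
    (coreF4 K).R.torus (Pi.mulSingle (nodeF4 3) c * Pi.mulSingle (nodeF4 0) (c ^ 2 ^ m)) ∈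
      twistedF4 K (2 ^ m) := by
  obtain ⟨s0, s3, m0, m3⟩ := f4_simples
  rw [map_mul]
  refine torusPair_mem (coreF4 K) (nodeF4 3) (nodeF4 0) f4_commPair
    (by rw [CharTwo.neg_eq, one_pow]) (fun t => ?_) c
  have hc := (f4_commPair).commute (coreF4 K)
  simp only [nodeF4, s0, s3, m0, m3] at hc ⊢
  constructor
  · have h := (coreF4 K).wordGL_mem_gen (W := f4Words K (2 ^ m)) (Or.inl ⟨t, Or.inl rfl⟩)
    simp only [f4PairWord, ChevCore.wordGL_cons, ChevCore.wordGL_nil, mul_one] at h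
    rwa [(hc f4p4 (by simp) f4p1 (by simp) t (t ^ 2 ^ m)).eq] at h
  · have h := (coreF4 K).wordGL_mem_gen (W := f4Words K (2 ^ m)) (Or.inl ⟨t, Or.inr rfl⟩)
    simp only [f4PairWord, ChevCore.wordGL_cons, ChevCore.wordGL_nil, mul_one] at h
    rwa [(hc f4m4 (by simp) f4m1 (by simp) t (t ^ 2 ^ m)).eq] at h

theorem classTorusF4 (v : Kˣ) :
    (coreF4 K).R.torus (Pi.mulSingle (nodeF4 1) (v ^ 2 ^ m) * Pi.mulSingle (nodeF4 2) v) ∈
      twistedF4 K (2 ^ m) := by
  classical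
  have hcop : Nat.Coprime (Nat.card Kˣ) (2 * (2 ^ m + 1)) := by
    rw [Nat.card_units, Nat.card_eq_fintype_card, hn]
    have hX : 1 ≤ 2 ^ m := Nat.one_le_two_pow
    obtain ⟨Y, hY⟩ : ∃ Y, 2 ^ m = Y + 1 := ⟨2 ^ m - 1, by omega⟩
    rw [hY, show 2 * ((Y + 1) * (Y + 1)) - 1 = 1 + (2 * Y) * (Y + 1 + 1) from by
      have : 2 * ((Y + 1) * (Y + 1)) = 1 + 2 * Y * (Y + 1 + 1) + 1 := by ring
      omega]
    refine Nat.Coprime.mul_right ?_ ?_
    · rw [Nat.coprime_comm]
      have : (1 + 2 * Y * (Y + 1 + 1)) = 1 + (Y * (Y + 1 + 1)) * 2 := by ring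
      rw [this, Nat.coprime_add_mul_right_right]
      exact Nat.coprime_one_right _
    · rw [Nat.coprime_comm, Nat.coprime_add_mul_right_right]
      exact Nat.coprime_one_right _
  obtain ⟨u, hu⟩ := (powCoprime hcop).surjective v
  rw [powCoprime_apply] at hu
  set C := coreF4 K
  set c0 : Fin chevF4.rank → Kˣ :=
    Pi.mulSingle (nodeF4 3) u * Pi.mulSingle (nodeF4 0) (u ^ 2 ^ m) with hc0
  have hmem := pairTorusF4 K hn u
  have hM : monMap (reflMat chevF4 (nodeF4 1)) (monMap (reflMat chevF4 (nodeF4 2))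
      (monMap (reflMat chevF4 (nodeF4 1)) (monMap (reflMat chevF4 (nodeF4 2)) c0))) =
      c0 * (Pi.mulSingle (nodeF4 1) (v ^ 2 ^ m) * Pi.mulSingle (nodeF4 2) v) := by
    simp only [monMap_monMap, turnF4_spec]
    funext i
    rw [monMap, prod_nodeF4]
    have hv : v ^ 2 ^ m = u ^ (2 * 2 ^ m + 1) := by
      rw [← hu, ← pow_mul, show 2 * (2 ^ m + 1) * 2 ^ m = 2 * (2 ^ m * 2 ^ m) + 2 * 2 ^ m by ring,
        pow_add, unit_powF4 K hn, ← pow_succ']
    rcases nodeF4_cases i with rfl | rfl | rfl | rfl <;>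
      simp [hc0, nodeF4, Pi.mulSingle_apply, Fin.ext_iff, tableEnt, turnF4, zpow_ofNat]
    · rw [hv, ← pow_mul, ← pow_succ, mul_comm]
    · rw [← hu, mul_add, mul_one, pow_add, mul_comm 2 (2 ^ m), ← pow_mul]
  have hw : C.Moves (C.nS (nodeF4 1) * (C.nS (nodeF4 2) * (C.nS (nodeF4 1) * C.nS (nodeF4 2))))
      (reflDataF4.wordPerm (f4TwistWord 1)) := by
    have h := ChevCore.Acts.mul C (C.acts_nS (nodeF4 1)) (ChevCore.Acts.mul C (C.acts_nS (nodeF4 2))
      (ChevCore.Acts.mul C (C.acts_nS (nodeF4 1)) (C.acts_nS (nodeF4 2))))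
    have h' := ChevCore.Acts.moves C h
    convert h' using 1
    simp [ReflData.wordPerm, f4TwistWord, nodeF4]
    rfl
  have hsub : reflDataF4.wordPerm (f4TwistWord 1) ∈ reflDataF4.weylSub (nodesF4 1) :=
    (reflDataF4.weylSub _).list_prod_mem fun x hx => by
      obtain ⟨j, hj, rfl⟩ := List.mem_map.1 hx
      exact reflDataF4.sPerm_mem_sub (f4_word_mem 1 j hj)
  have h := (gensF4 K hn).conj_torus_mem 1
    (n := C.nS (nodeF4 1) * (C.nS (nodeF4 2) * (C.nS (nodeF4 1) * C.nS (nodeF4 2))))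
    (mul_mem (C.nS_mem_monomial _) (mul_mem (C.nS_mem_monomial _)
      (mul_mem (C.nS_mem_monomial _) (C.nS_mem_monomial _)))) hw hsub turnF4_word c0 hmem
  have e : C.nS (nodeF4 1) * (C.nS (nodeF4 2) * (C.nS (nodeF4 1) * C.nS (nodeF4 2))) * C.R.torus c0 *
      (C.nS (nodeF4 1) * (C.nS (nodeF4 2) * (C.nS (nodeF4 1) * C.nS (nodeF4 2))))⁻¹ =
      C.R.torus (c0 * (Pi.mulSingle (nodeF4 1) (v ^ 2 ^ m) * Pi.mulSingle (nodeF4 2) v)) := by
    rw [← hM, ← nS_conj_monMap, ← nS_conj_monMap, ← nS_conj_monMap, ← nS_conj_monMap]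
    group
  rw [e, map_mul] at h
  have := mul_mem (inv_mem hmem) h
  rwa [inv_mul_cancel_left] at this

theorem fixTorus_leF4 : ∀ c ∈ fixTorus (F := K) piF4 (exF4 m),
    (coreF4 K).R.torus c ∈ twistedF4 K (2 ^ m) := by
  intro c hc
  obtain ⟨h0, h1⟩ := fixF4_eq K (mem_fixTorus.1 hc)
  have hc' : c = Pi.mulSingle (nodeF4 3) (c (nodeF4 3)) * Pi.mulSingle (nodeF4 0) (c (nodeF4 3) ^ 2 ^ m) *
      (Pi.mulSingle (nodeF4 1) (c (nodeF4 2) ^ 2 ^ m) * Pi.mulSingle (nodeF4 2) (c (nodeF4 2))) := by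
    funext j
    rcases nodeF4_cases j with rfl | rfl | rfl | rfl <;>
      simp [h0, h1, Pi.mulSingle_apply] <;> simp [nodeF4, Fin.ext_iff]
  rw [hc', map_mul]
  exact mul_mem (pairTorusF4 K hn _) (classTorusF4 K hn _)

theorem diag_infF4 : chevF4.diagonalSubgroup K ⊓ twistedF4 K (2 ^ m) =
    (fixTorus piF4 (exF4 m)).map (coreF4 K).R.torus := by
  refine (gensF4 K hn).diag_inf_eq (torusActF4 K) (fixTorus_leF4 K hn) (k := 2) (fun c => ?_)
    (m := 1) (by norm_num) (fun c hc => pow_eq_one_of_torus _ 1 invF4_spec hc)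
  funext j
  conv_lhs => rw [← piF4_sq j]
  simp only [Function.iterate_succ_apply', Function.iterate_zero, id_eq, torusTwist_apply]
  rw [← pow_mul]
  obtain ⟨e0, e1, e2, e3⟩ := piF4_vals
  have h := unit_powF4 K hn (c j)
  rcases nodeF4_cases j with rfl | rfl | rfl | rfl <;> simp only [e0, e1, e2, e3] <;>
    simpa [exF4, nodeF4, mul_comm, mul_left_comm] using h

theorem card_H1F4 : Nat.card ↥(chevF4.diagonalSubgroup K ⊓ twistedF4 K (2 ^ m)) =
    (Fintype.card K - 1) ^ 2 := by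
  classical
  rw [diag_infF4 K hn]
  have : Unique {c : Fin chevF4.rank → Kˣ //
      (∀ j, c (piF4 j) = c j ^ exF4 m j) ∧ (coreF4 K).R.torus c = 1} :=
    { default := ⟨1, fun j => by simp, map_one _⟩
      uniq := fun c => Subtype.ext (by simpa using pow_eq_one_of_torus _ 1 invF4_spec c.2.2) }
  have h := Gens.card_map_fixTorus (coreF4 K) piF4 (exF4 m)
  rw [Nat.card_unique, one_mul] at h
  rw [h]
  obtain ⟨e0, e1, e2, e3⟩ := piF4_vals
  let invFun : Kˣ × Kˣ → Fin chevF4.rank → Kˣ := fun x j =>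
    [x.1 ^ 2 ^ m, x.2 ^ 2 ^ m, x.2, x.1].getD j.val 1
  have hfix : ∀ x j, invFun x (piF4 j) = invFun x j ^ exF4 m j := by
    intro x j
    rcases nodeF4_cases j with rfl | rfl | rfl | rfl <;> simp only [e0, e1, e2, e3] <;>
      simp [invFun, nodeF4, exF4, ← pow_mul]
    all_goals rw [show 2 ^ m * (2 ^ m * 2) = 2 * (2 ^ m * 2 ^ m) by ring, unit_powF4 K hn]
  rw [Nat.card_congr (⟨fun c => (c.1 (nodeF4 3), c.1 (nodeF4 2)), fun x => ⟨invFun x, hfix x⟩,
    fun c => Subtype.ext (funext fun j => ?_), fun x => by simp [invFun, nodeF4]⟩ :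
      {c : Fin chevF4.rank → Kˣ // ∀ j, c (piF4 j) = c j ^ exF4 m j} ≃ Kˣ × Kˣ),
    Nat.card_prod, Nat.card_units, Nat.card_eq_fintype_card, sq]
  obtain ⟨h0, h1⟩ := fixF4_eq K c.2
  rcases nodeF4_cases j with rfl | rfl | rfl | rfl
  · exact h0.symm
  · exact h1.symm
  · rfl
  · rfl

theorem card_twistedF4 : Nat.card ↥(twistedF4 K (2 ^ m)) = Fintype.card K ^ 12 *
    (Fintype.card K - 1) * (Fintype.card K ^ 3 + 1) * (Fintype.card K ^ 4 - 1) *
      (Fintype.card K ^ 6 + 1) := by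
  have g := gensF4 K hn
  have hN : Set.ncard {r | chevF4.IsPosRoot r} = 24 := ncard_isPosRoot (by decide +kernel)
  have hU : Nat.card ↥(chevF4.posUnipotent K ⊓ twistedF4 K (2 ^ m)) = Fintype.card K ^ 12 := by
    refine Nat.pow_left_injective (show 2 ≠ 0 by norm_num) ?_
    show _ ^ 2 = _ ^ 2
    rw [g.card_U1, hN, Nat.card_eq_fintype_card]
    ring
  have hfix : ∀ w ∈ twistSet (coreF4 K).hR (frobF4 K m).ρ,
      Nat.card ↥((frobF4 K m).fixU ((coreF4 K).hR.invRoots w)) =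
        Fintype.card K ^ (((coreF4 K).hR.invSet w).card / 2) := by
    intro w hw
    obtain ⟨hwW, hc⟩ := mem_twistSet.1 hw
    have e := (g.fix_invRoots hwW hc).2
    rw [Nat.card_eq_fintype_card (α := K)] at e
    have hK : Fintype.card K = 2 ^ (2 * m + 1) := by rw [hn, pow_succ, two_mul m, pow_add, mul_comm]
    have heven : Even ((coreF4 K).hR.invSet w).card := by
      have h2 := congrArg (fun x : ℕ => x.factorization 2) e
      simp only [hK, Nat.factorization_pow, Nat.Prime.factorization_self Nat.prime_two,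
        Finsupp.smul_apply, smul_eq_mul, mul_one] at h2
      have hev : Even (((coreF4 K).hR.invSet w).card * (2 * m + 1)) := h2 ▸ even_two_mul _
      rcases Nat.even_mul.1 hev with h | h
      · exact h
      · simp [parity_simps] at h
    obtain ⟨k, hk⟩ := heven
    rw [hk, ← two_mul, Nat.mul_div_cancel_left _ (by norm_num : 0 < 2)]
    refine Nat.pow_left_injective (show 2 ≠ 0 by norm_num) ?_
    show _ ^ 2 = _ ^ 2
    rw [e, hk, ← pow_mul]
    congr 1
    omega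
  rw [g.card_G1_of _ hfix, hU, card_H1F4 K hn]
  rw [show ∑ w ∈ twistSet (coreF4 K).hR (frobF4 K m).ρ,
      Fintype.card K ^ (((coreF4 K).hR.invSet w).card / 2) = _ from
    sum_twistSetF4 fun k => Fintype.card K ^ (k / 2)]
  have hpos : 1 ≤ Fintype.card K := Fintype.card_pos
  generalize Fintype.card K = Q at hpos ⊢
  refine Nat.cast_injective (R := ℤ) ?_
  simp only [Finset.sum_range_succ, Finset.sum_range_zero, List.getD_cons_succ, List.getD_cons_zero]
  norm_num only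
  push_cast [Nat.cast_sub (Nat.one_le_pow _ Q hpos), Nat.cast_sub hpos]
  ring

end CfsgLib.Twisted
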