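import Cfsg.Agent.Lib.TwistedStr.Structure
import Cfsg.Agent.Lib.TwistedStr.TorusF4

/-! The core, perfectness and simplicity of ²F₄. -/

set_option autoImplicit false

namespace CfsgLib.Twisted

open Cfsg.Lie CfsgLib.ChevStr
open scoped MatrixGroups

theorem f4_pos_facts : ∀ rs ∈ [(f4p4, f4p1), (f4b, f4a), (f4ab, f4a), (f4aab, f4a)],
    chevF4.IsPosRoot rs.1 ∧ rs.1 ≠ rs.2 := by decide +kernel

theorem f4_neg_facts : ∀ i, ∀ r ∈ [[f4m1, f4m4], [f4ma, f4mb, f4mab, f4maab]].getD (i : Fin 2).val [],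
    chevF4.IsNegRoot r ∧ SuppIn rootDataF4 (nodesF4 i) r := by decide +kernel

theorem f4_node_simples : chevF4.simple (nodeF4 0).val = f4p1 ∧ chevF4.simple (nodeF4 1).val = f4a ∧
    nodeF4 0 ∈ nodesF4 0 ∧ nodeF4 1 ∈ nodesF4 1 := by decide +kernel

/-- The Cartan integers used for perfectness. -/
theorem f4_cartan_vals : ∀ r : Fin chevF4.nroots,
    ((r : ℕ) ∈ rootsF4 0 → (chevF4.cartan 1 r.val, chevF4.cartan 2 r.val) ∈ [((-1 : ℤ), (0 : ℤ)), (0, -1)]) ∧
    ((r : ℕ) ∈ rootsF4 1 → (chevF4.cartan 0 r.val, chevF4.cartan 3 r.val) ∈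
      [((-1 : ℤ), (0 : ℤ)), (0, -1), (-1, -1), (-2, -1)]) := by decide +kernel

theorem f4_conn : ∀ b : Fin 2 → Bool, (∃ i, b i = true) → (∃ k, b k = false) →
    ∃ i k, b i = true ∧ b k = false ∧ ¬ ∀ r, reflDataF4.wordPerm (f4TwistWord i)
      (reflDataF4.wordPerm (f4TwistWord k) r) = reflDataF4.wordPerm (f4TwistWord k)
        (reflDataF4.wordPerm (f4TwistWord i) r) := by decide +kernel

set_option maxHeartbeats 400000

variable (K : Type*) [Field K] [Fintype K] [CharP K 2] {m : ℕ}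
  (hn : Fintype.card K = 2 * (2 ^ m * 2 ^ m))

include hn

theorem core_eq_botF4 :
    ((chevF4.borelSubgroup K ⊓ twistedF4 K (2 ^ m)).subgroupOf (twistedF4 K (2 ^ m))).normalCore = ⊥ := by
  obtain ⟨s0, s1, n0, n1⟩ := f4_node_simples
  refine (gensF4 K hn).core_eq_bot fun i => ?_
  fin_cases i
  · refine ⟨nodeF4 0, n0, 1, one_ne_zero, (coreF4 K).wordGL [(f4p4, 1)],
      (coreF4 K).wordGL_mem_Ucl fun p hp => ?_, ?_⟩
    · rw [List.mem_singleton] at hp
      subst hp
      rw [s0]
      exact f4_pos_facts (f4p4, f4p1) (by simp)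
    · rw [s0]
      have h := (coreF4 K).wordGL_mem_gen (W := f4Words K (2 ^ m)) (Or.inl ⟨1, Or.inl rfl⟩)
      rw [f4PairWord, ChevCore.wordGL_cons, one_pow] at h
      exact h
  · refine ⟨nodeF4 1, n1, 1, one_ne_zero,
      (coreF4 K).wordGL (b2ClassWord (2 ^ m) f4a f4b f4ab f4aab (1 : K) 0).tail,
      (coreF4 K).wordGL_mem_Ucl fun p hp => ?_, ?_⟩
    · simp only [b2ClassWord, List.tail_cons, List.mem_cons, List.not_mem_nil, or_false] at hp
      rw [s1]
      rcases hp with rfl | rfl | rfl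
      exacts [f4_pos_facts (f4b, f4a) (by simp), f4_pos_facts (f4ab, f4a) (by simp),
        f4_pos_facts (f4aab, f4a) (by simp)]
    · rw [s1]
      have h := (coreF4 K).wordGL_mem_gen (W := f4Words K (2 ^ m)) (Or.inr ⟨1, 0, Or.inl rfl⟩)
      rw [b2ClassWord, ChevCore.wordGL_cons, one_pow] at h
      rw [b2ClassWord, List.tail_cons]
      simp only [one_pow] at h ⊢
      exact h

theorem perfectF4Twisted (hm : 1 ≤ m) : commutator ↥(twistedF4 K (2 ^ m)) = ⊤ := by
  have g := gensF4 K hn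
  refine g.commutator_eq_top (W := f4Words K (2 ^ m)) rfl ?_ fun i => ?_
  · rintro w (⟨t, rfl | rfl⟩ | ⟨t, u, rfl | rfl⟩)
    · refine ⟨0, Or.inl fun p hp => ?_⟩
      show p.1 ∈ inRoots (coreF4 K).R (nodesF4 0)
      rw [inF4]
      simp only [f4PairWord, List.mem_cons, List.not_mem_nil, or_false] at hp
      rcases hp with rfl | rfl <;> simp [listSet, rootsF4]
    · refine ⟨0, Or.inr fun p hp => f4_neg_facts 0 p.1 ?_⟩
      simp only [f4PairWord, List.mem_cons, List.not_mem_nil, or_false] at hp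
      rcases hp with rfl | rfl <;> simp
    · refine ⟨1, Or.inl fun p hp => ?_⟩
      show p.1 ∈ inRoots (coreF4 K).R (nodesF4 1)
      rw [inF4]
      simp only [b2ClassWord, List.mem_cons, List.not_mem_nil, or_false] at hp
      rcases hp with rfl | rfl | rfl | rfl <;> simp [listSet, rootsF4]
    · refine ⟨1, Or.inr fun p hp => f4_neg_facts 1 p.1 ?_⟩
      simp only [b2ClassWord, List.mem_cons, List.not_mem_nil, or_false] at hp
      rcases hp with rfl | rfl | rfl | rfl <;> simp
  · obtain ⟨l, hl⟩ := IsCyclic.exists_generator (α := Kˣ)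
    have hord : orderOf l = Fintype.card K - 1 := by
      rw [orderOf_eq_card_of_forall_mem_zpowers hl, Nat.card_units, Nat.card_eq_fintype_card]
    set X := 2 ^ m with hX
    have hX2 : 2 ≤ X := Nat.le_self_pow (by omega) 2
    have key : ∀ k : ℕ, 0 < k → k ≤ 2 * X + 1 → l ^ (-(k : ℤ)) ≠ 1 := fun k h1 h2 => by
      rw [zpow_neg, Ne, inv_eq_one, zpow_natCast]
      refine pow_ne_one_of_lt_orderOf h1.ne' ?_
      rw [hord, hn]
      have h4 : 2 * X ≤ X * X := Nat.mul_le_mul_right X hX2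
      omega
    have hchar : ∀ (j k : Fin chevF4.rank) (r : ℕ), r < chevF4.nroots →
        (coreF4 K).R.torusChar (Pi.mulSingle j (l ^ X) * Pi.mulSingle k l) ((coreF4 K).R.α r) =
          l ^ ((X : ℤ) * chevF4.cartan j.val r + chevF4.cartan k.val r) := fun j k r hr => by
      rw [(coreF4 K).R.torusChar_mul, (coreF4 K).R.torusChar_single j _ hr,
        (coreF4 K).R.torusChar_single k _ hr, ← zpow_natCast l X, ← zpow_mul, ← zpow_add]
    fin_cases i
    · have hmem : (coreF4 K).R.torus (Pi.mulSingle (nodeF4 1) (l ^ X) * Pi.mulSingle (nodeF4 2) l) ∈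
          twistedF4 K (2 ^ m) := classTorusF4 K hn l
      show (frobF4 K m).fixU (inRoots (coreF4 K).R (orbF4.J 0)) ≤ _
      refine g.fixU_le_commutator 0 hmem fun r hr => ?_
      have hr12 : r < chevF4.nroots := hr.1.1
      have hr' : r ∈ rootsF4 0 := by
        have : r ∈ inRoots (coreF4 K).R (nodesF4 0) := hr
        rwa [inF4] at this
      rw [hchar _ _ r hr12]
      have hc := (f4_cartan_vals ⟨r, hr12⟩).1 hr'
      simp only [List.mem_cons, Prod.mk.injEq, List.not_mem_nil, or_false] at hc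
      rcases hc with ⟨e0, e1⟩ | ⟨e0, e1⟩ <;> simp only [nodeF4] at e0 e1 ⊢ <;> rw [e0, e1]
      · convert key X (by omega) (by omega) using 2; ring
      · convert key 1 (by omega) (by omega) using 2; simp
    · have hmem : (coreF4 K).R.torus (Pi.mulSingle (nodeF4 0) (l ^ X) * Pi.mulSingle (nodeF4 3) l) ∈
          twistedF4 K (2 ^ m) := by
        have h := pairTorusF4 K hn l
        rw [mul_comm] at h
        exact h
      show (frobF4 K m).fixU (inRoots (coreF4 K).R (orbF4.J 1)) ≤ _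
      refine g.fixU_le_commutator 1 hmem fun r hr => ?_
      have hr12 : r < chevF4.nroots := hr.1.1
      have hr' : r ∈ rootsF4 1 := by
        have : r ∈ inRoots (coreF4 K).R (nodesF4 1) := hr
        rwa [inF4] at this
      rw [hchar _ _ r hr12]
      have hc := (f4_cartan_vals ⟨r, hr12⟩).2 hr'
      simp only [List.mem_cons, Prod.mk.injEq, List.not_mem_nil, or_false] at hc
      rcases hc with ⟨e0, e1⟩ | ⟨e0, e1⟩ | ⟨e0, e1⟩ | ⟨e0, e1⟩ <;> simp only [nodeF4] at e0 e1 ⊢ <;>
        rw [e0, e1]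
      · convert key X (by omega) (by omega) using 2; ring
      · convert key 1 (by omega) (by omega) using 2; simp
      · convert key (X + 1) (by omega) (by omega) using 2; push_cast; ring
      · convert key (2 * X + 1) (by omega) (by omega) using 2; push_cast; ring

theorem isSimpleF4 (hm : 1 ≤ m) :
    IsSimpleGroup ↥(twistedF4 K (2 ^ m)) ∧ ¬ IsMulCommutative ↥(twistedF4 K (2 ^ m)) :=
  (gensF4 K hn).isSimple (perfectF4Twisted K hn hm) (core_eq_botF4 K hn)
    ((gensF4 K hn).conn_of_words f4TwistWord f4_word_mem f4_word_neg f4_conn)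

end CfsgLib.Twisted
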