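import Cfsg.Agent.Lib.TwistedStr.Tits

/-!
²F₄(2)′ is perfect of index two, and simple.
-/

set_option autoImplicit false

namespace CfsgLib.BNPair

open scoped Pointwise commutatorElement

variable {G : Type*} [Group G] (P : Cfsg.BNPair G)

/-- In an irreducible (B, N)-pair a normal subgroup outside the core supplements `B`. -/
theorem sup_eq_top_of_irreducible (hirr : P.Irreducible) (hcore : P.B.normalCore = ⊥)
    {K : Subgroup G} (hK : K.Normal) (hKne : K ≠ ⊥) : P.B ⊔ K = ⊤ := by
  set J := P.S ∩ ((P.B ⊔ K : Subgroup G) : Set G) with hJdef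
  have hJ : J ⊆ P.S := Set.inter_subset_left
  have hBK : P.B ⊔ K = P.parabolic J := eq_parabolic P _ le_sup_left
  rcases J.eq_empty_or_nonempty with h0 | hne
  · refine absurd ?_ hKne
    rw [eq_bot_iff, ← hcore]
    refine Subgroup.normal_le_normalCore.2 ?_
    calc K ≤ P.B ⊔ K := le_sup_right
      _ ≤ P.B := by rw [hBK, h0, Cfsg.BNPair.parabolic, Subgroup.closure_empty, sup_bot_eq]
  by_cases hI : (P.S \ J).Nonempty
  · exfalso
    obtain ⟨r, hr, s, hsI, hnc⟩ := hirr J hJ hne hI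
    have hrS := hJ hr
    have hsS := hsI.1
    let rr : P.S := ⟨r, hrS⟩
    let ss : P.S := ⟨s, hsS⟩
    have hrs : rr ≠ ss := fun e => hsI.2 (by
      have e' : r = s := congrArg Subtype.val e
      rwa [← e'])
    -- an element of `K` in the cell of `r`
    have hr' : r ∈ P.B ⊔ K := hr.2
    rw [← SetLike.mem_coe, Subgroup.mul_normal] at hr'
    obtain ⟨b, hb, k, hk, e⟩ := hr'
    have hkc : k ∈ cell P (simp' P rr) := by
      have := mul_mem_cell P (inv_mem hb) (simp_mem_cell P rr) (one_mem P.B)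
      rw [mul_one] at this
      convert this using 1
      show k = b⁻¹ * r
      rw [← e]; group
    obtain ⟨n, hn, c, hc, c', hc', ek⟩ := hkc
    have hnr : ((⟨r, P.subset hrS⟩ : P.N) : G)⁻¹ * n ∈ P.B := (wcl_eq_iff P).1 hn.symm
    -- lengths
    have hle : len P (simp' P rr) ≤ len P (simp' P ss * simp' P rr) := by
      rcases len_simp_mul_cases P ss (simp' P rr) with h | h
      · omega
      · rw [len_simp] at h
        have h2 := len_eq_zero P (w := simp' P ss * simp' P rr) (by omega)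
        rw [mul_eq_one_iff_eq_inv, simp_inv] at h2
        exact absurd (simp_injective P h2).symm hrs
    have hsk : s * k ∈ cell P (simp' P ss * simp' P rr) := by
      have := simp_mul_of_len_le P ss hle (one_mem P.B) (⟨n, hn, c, hc, c', hc', ek⟩ : k ∈ cell P (simp' P rr))
      simpa using this
    have hs' : s⁻¹ ∈ cell P (simp' P ss) := by
      simpa [simp_inv] using inv_mem_cell P (simp_mem_cell P ss)
    have hsks : s * k * s⁻¹ ∈ P.parabolic J :=
      hBK ▸ Subgroup.mem_sup_right (hK.conj_mem k hk s)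
    obtain ⟨m, hm, hmc⟩ := exists_cell_of_mem P hJ hsks
    obtain ⟨L, hLJ, hL⟩ := exists_word_of_mem_closure P hJ m hm
    have hsub : ∀ M : List P.S, (∀ t ∈ M, (t : G) ∈ J) → ∀ n : P.N, wcl P n = prodW P M → (n : G) ∈ P.parabolic J := by
      intro M
      induction M with
      | nil => exact fun _ n hn => B_le_parabolic P _ ((mem_hSub P).1 ((QuotientGroup.eq_one_iff _).1 hn))
      | cons t M ih =>
        intro hM n hn
        have h3 := ih (fun u hu => hM u (List.mem_cons_of_mem _ hu)) (⟨t.1, P.subset t.2⟩⁻¹ * n) (by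
          show (simp' P t)⁻¹ * wcl P n = _
          rw [hn, prodW_cons, inv_mul_cancel_left])
        have h4 := mul_mem (subset_parabolic P J (hM t List.mem_cons_self)) h3
        change (t : G) * ((t : G)⁻¹ * n) ∈ _ at h4
        rwa [mul_inv_cancel_left] at h4
    have hsP : s ∉ P.parabolic J := fun h => hsI.2 (mem_of_mem_parabolic P hJ hsS h)
    rcases mul_cell_simp_cases P ss hs' hsk with h | h
    · have hw := cell_injective P h hmc
      -- `srs` is a word in `J`, and one in `{r, s}`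
      let sN : P.N := ⟨s, P.subset hsS⟩
      let rN : P.N := ⟨r, P.subset hrS⟩
      have hw' : wcl P (sN * rN * sN) = prodW P L := by rw [hL, ← hw]; rfl
      have h1 : s * r * s ∈ P.parabolic J := hsub L hLJ (sN * rN * sN) hw'
      have h2 : s * r * s ∈ P.parabolic {r, s} :=
        mul_mem (mul_mem (subset_parabolic P _ (Or.inr rfl)) (subset_parabolic P _ (Or.inl rfl)))
          (subset_parabolic P _ (Or.inr rfl))
      have h3 : s * r * s ∈ P.parabolic {r} := by
        have := (parabolic_inf P hJ (K := {r, s}) (Set.pair_subset hrS hsS)).le ⟨h1, h2⟩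
        refine (parabolic_le_parabolic_iff P (Set.inter_subset_left.trans hJ) (Set.singleton_subset_iff.2 hrS)).2 ?_ this
        rintro x ⟨hxJ, hx | hx⟩
        · exact hx
        · exact absurd (hx ▸ hxJ) hsI.2
      rw [← SetLike.mem_coe, parabolic_singleton_eq P rr, ← cell_wcl P rN] at h3
      have h5 : ((sN * rN * sN : P.N) : G) ∈ cell P (simp' P ss * simp' P rr * simp' P ss) := mem_cell_self P _
      rcases h3 with h3 | h3
      · have h4 := cell_injective P h5 ((mem_cell_one P).2 h3)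
        apply simp_ne_one P rr
        have := congrArg (fun w => simp' P ss * w * simp' P ss) h4
        simpa [mul_assoc, simp_mul_self, simp_mul_cancel] using this
      · have h4 := cell_injective P h5 h3
        apply hnc
        have h6 : simp' P rr * simp' P ss * (simp' P rr)⁻¹ * (simp' P ss)⁻¹ = 1 := by
          rw [simp_inv, simp_inv, mul_assoc, mul_assoc, ← mul_assoc (simp' P ss), h4]
          exact simp_mul_self P rr
        have h7 : wcl P (rN * sN * rN⁻¹ * sN⁻¹) = 1 := h6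
        exact (mem_hSub P).1 ((QuotientGroup.eq_one_iff _).1 h7)
    · have hw := cell_injective P h hmc
      let sN : P.N := ⟨s, P.subset hsS⟩
      let rN : P.N := ⟨r, P.subset hrS⟩
      have h1 : s * r ∈ P.parabolic J := hsub L hLJ (sN * rN) (by rw [hL, ← hw]; rfl)
      exact hsP ((Subgroup.mul_mem_cancel_right _ (subset_parabolic P J hr)).1 h1)
  · have hJS : J = P.S := subset_antisymm hJ fun x hx => by
      by_contra h
      exact hI ⟨x, hx, h⟩
    rw [hBK, hJS, parabolic_S]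

/-- Every nontrivial normal subgroup contains the derived group when that is perfect. -/
theorem derived_le_normal (hirr : P.Irreducible) (hsolv : Group.IsSolvable P.B)
    (hcore : P.B.normalCore = ⊥) (hperf : ⁅commutator G, commutator G⁆ = commutator G)
    {K : Subgroup G} (hK : K.Normal) (hKne : K ≠ ⊥) : commutator G ≤ K := by
  have htop := sup_eq_top_of_irreducible P hirr hcore hK hKne
  let f := (QuotientGroup.mk' K).comp P.B.subtype
  have hf : Function.Surjective f := by
    intro x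
    obtain ⟨y, rfl⟩ := QuotientGroup.mk'_surjective K x
    have hy : y ∈ P.B ⊔ K := htop ▸ Subgroup.mem_top y
    rw [← SetLike.mem_coe, Subgroup.mul_normal] at hy
    obtain ⟨b, hb, k, hk, rfl⟩ := hy
    exact ⟨⟨b, hb⟩, QuotientGroup.eq.2 (by simpa using hk)⟩
  have hsolvQ : Group.IsSolvable (G ⧸ K) := Group.isSolvable_of_surjective hf
  set E := (commutator G).map (QuotientGroup.mk' K) with hE
  have hperf' : ⁅E, E⁆ = E := by rw [hE, ← Subgroup.map_commutator, hperf]
  have hbot : E = ⊥ := by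
    by_contra hEne
    exact (Group.IsSolvable.commutator_lt_of_ne_bot hEne).ne hperf'
  have h := (Subgroup.map_eq_bot_iff _).1 hbot
  rwa [QuotientGroup.ker_mk'] at h

end CfsgLib.BNPair

namespace CfsgLib

open scoped commutatorElement

variable {G : Type*} [Group G]

/-- A derived group with a cyclic complement modulo its own derived group is perfect. -/
theorem derived_index_two {t : G}
    (h : ⁅commutator G, commutator G⁆ ⊔ Subgroup.zpowers t = ⊤)
    (ht2 : t * t ∈ ⁅commutator G, commutator G⁆) (ht : t ∉ commutator G) :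
    ⁅commutator G, commutator G⁆ = commutator G ∧ (commutator G).index = 2 := by
  have : Fact (Nat.Prime 2) := ⟨Nat.prime_two⟩
  set M := ⁅commutator G, commutator G⁆ with hM
  have htop : Subgroup.zpowers (QuotientGroup.mk' M t) = ⊤ := by
    rw [← Subgroup.map_top_of_surjective _ (QuotientGroup.mk'_surjective M), ← h, Subgroup.map_sup,
      QuotientGroup.map_mk'_self, bot_sup_eq, MonoidHom.map_zpowers]
  have hperf : M = commutator G := by
    refine le_antisymm (Subgroup.commutator_mono le_top le_top) ?_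
    rw [commutator_def, Subgroup.commutator_le]
    intro a _ b _
    rw [← QuotientGroup.eq_one_iff, ← QuotientGroup.mk'_apply, map_commutatorElement,
      commutatorElement_eq_one_iff_commute]
    obtain ⟨m, hm⟩ := htop.ge (Subgroup.mem_top (QuotientGroup.mk' M a))
    obtain ⟨n, hn⟩ := htop.ge (Subgroup.mem_top (QuotientGroup.mk' M b))
    rw [← hm, ← hn]
    exact Commute.zpow_zpow_self _ m n
  refine ⟨hperf, ?_⟩
  rw [← hperf]
  have hord : orderOf (QuotientGroup.mk' M t) = 2 := by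
    refine orderOf_eq_prime ?_ fun e => ht (hperf ▸ (QuotientGroup.eq_one_iff _).1 e)
    rw [pow_two, ← map_mul, QuotientGroup.mk'_apply, QuotientGroup.eq_one_iff]
    exact ht2
  rw [Subgroup.index, ← Subgroup.card_top, ← htop, Nat.card_zpowers, hord]

/-- A perfect derived group of index two in which every nontrivial normal subgroup of the whole
group lies is simple, unless its order is a square. -/
theorem derived_simple (hperf : ⁅commutator G, commutator G⁆ = commutator G)
    (hidx : (commutator G).index = 2)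
    (hnormal : ∀ K : Subgroup G, K.Normal → K ≠ ⊥ → commutator G ≤ K)
    (hone : 1 < Nat.card ↥(commutator G)) (hsquare : ∀ n : ℕ, n * n ≠ Nat.card ↥(commutator G)) :
    IsSimpleGroup ↥(commutator G) ∧ ¬ IsMulCommutative ↥(commutator G) := by
  set D := commutator G with hD
  have : Finite ↥D := Nat.finite_of_card_ne_zero (by omega)
  have : Nontrivial ↥D := Finite.one_lt_card_iff_nontrivial.1 hone
  have : D.Normal := Subgroup.commutator_normal ⊤ ⊤
  obtain ⟨t, htD⟩ : ∃ t, t ∉ D := by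
    by_contra hc
    push Not at hc
    rw [(Subgroup.eq_top_iff' D).2 hc, Subgroup.index_top] at hidx
    omega
  refine ⟨IsSimpleGroup.mk fun N hN => ?_, fun hcomm => ?_⟩
  · set N1 : Subgroup G := N.map D.subtype
    set N2 : Subgroup G := N1.map (MulAut.conj t).toMonoidHom
    have hN1D : N1 ≤ D := Subgroup.map_subtype_le N
    have hN2D : N2 ≤ D := by
      rintro _ ⟨y, hy, rfl⟩
      exact Subgroup.Normal.conj_mem ‹D.Normal› y (hN1D hy) t
    have h1 : ∀ x ∈ D, ∀ y ∈ N1, x * y * x⁻¹ ∈ N1 := by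
      rintro x hx _ ⟨y, hy, rfl⟩
      exact ⟨⟨x, hx⟩ * y * ⟨x, hx⟩⁻¹, hN.conj_mem y hy ⟨x, hx⟩, rfl⟩
    have h2 : ∀ x ∈ D, ∀ y ∈ N2, x * y * x⁻¹ ∈ N2 := by
      rintro x hx _ ⟨y, hy, rfl⟩
      have hx' : t⁻¹ * x * t⁻¹⁻¹ ∈ D := Subgroup.Normal.conj_mem ‹D.Normal› x hx t⁻¹
      refine ⟨t⁻¹ * x * t⁻¹⁻¹ * y * (t⁻¹ * x * t⁻¹⁻¹)⁻¹, h1 _ hx' y hy, ?_⟩
      simp only [MulEquiv.toMonoidHom_eq_coe, MonoidHom.coe_coe, MulAut.conj_apply]
      group
    have hsq : t * t ∈ D := (Subgroup.mul_mem_iff_of_index_two hidx).2 Iff.rfl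
    have h21 : ∀ y ∈ N2, t * y * t⁻¹ ∈ N1 := by
      rintro _ ⟨y, hy, rfl⟩
      have := h1 _ hsq y hy
      simp only [MulEquiv.toMonoidHom_eq_coe, MonoidHom.coe_coe, MulAut.conj_apply]
      convert this using 1; group
    have hnorm : ∀ {L : Subgroup G}, (∀ x ∈ D, ∀ y ∈ L, x * y * x⁻¹ ∈ L) →
        (∀ y ∈ L, t * y * t⁻¹ ∈ L) → L.Normal := fun {L} a b => ⟨fun y hy x => by
      by_cases hx : x ∈ D
      · exact a x hx y hy
      · have hx' : t⁻¹ * x ∈ D := (Subgroup.mul_mem_iff_of_index_two hidx).2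
          (iff_of_false (fun h => htD (D.inv_mem_iff.1 h)) hx)
        have := b _ (a _ hx' y hy)
        convert this using 1; group⟩
    by_cases hb : N1 ⊓ N2 = ⊥
    · refine Or.inl ?_
      by_contra hNne
      have hN1ne : N1 ≠ ⊥ := fun e => hNne
        ((Subgroup.map_eq_bot_iff_of_injective N D.subtype_injective).1 e)
      have hconj : ∀ x : G, (N1.map (MulAut.conj x).toMonoidHom ≤ N1 ⊔ N2) →
          (N2.map (MulAut.conj x).toMonoidHom ≤ N1 ⊔ N2) → ∀ y ∈ N1 ⊔ N2, x * y * x⁻¹ ∈ N1 ⊔ N2 :=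
        fun x a b y hy => by
          have h : (N1 ⊔ N2).map (MulAut.conj x).toMonoidHom ≤ N1 ⊔ N2 := by
            rw [Subgroup.map_sup]; exact sup_le a b
          exact h ⟨y, hy, rfl⟩
      have hsup : (N1 ⊔ N2).Normal := hnorm
        (fun x hx => hconj x (by rintro _ ⟨z, hz, rfl⟩; exact Subgroup.mem_sup_left (h1 x hx z hz))
          (by rintro _ ⟨z, hz, rfl⟩; exact Subgroup.mem_sup_right (h2 x hx z hz)))
        (hconj t le_sup_right (by rintro _ ⟨z, hz, rfl⟩; exact Subgroup.mem_sup_left (h21 z hz)))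
      have htop : N1 ⊔ N2 = D := le_antisymm (sup_le hN1D hN2D)
        (hnormal _ hsup fun e => hN1ne (le_bot_iff.1 (le_sup_left.trans e.le)))
      have hn12 : N1 ≤ Subgroup.normalizer (N2 : Set G) :=
        Subgroup.le_normalizer_iff.2 fun x hx y hy => h2 x (hN1D hx) y hy
      let f : ↥N1 × ↥N2 → ↥(N1 ⊔ N2) := fun p => ⟨p.1 * p.2, Subgroup.mul_mem_sup p.1.2 p.2.2⟩
      have hf : Function.Bijective f := by
        refine ⟨fun p q e => ?_, fun x => ?_⟩
        · have e' : (p.1 : G) * p.2 = q.1 * q.2 := congrArg Subtype.val e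
          have h3 : (q.1 : G)⁻¹ * p.1 = q.2 * (p.2 : G)⁻¹ := by
            rw [eq_mul_inv_iff_mul_eq, mul_assoc, e', inv_mul_cancel_left]
          have h4 : (q.1 : G)⁻¹ * p.1 = 1 := (Subgroup.eq_bot_iff_forall _).1 hb _
            (Subgroup.mem_inf.2 ⟨N1.mul_mem (N1.inv_mem q.1.2) p.1.2,
              by rw [h3]; exact N2.mul_mem q.2.2 (N2.inv_mem p.2.2)⟩)
          have h5 : q.1 = p.1 := Subtype.ext (inv_mul_eq_one.1 h4)
          rw [h5] at e'
          exact Prod.ext h5.symm (Subtype.ext (mul_left_cancel e'))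
        · obtain ⟨a, ha, b, hb', e⟩ := (Set.ext_iff.1
            (Subgroup.coe_mul_of_left_le_normalizer_right _ _ hn12) (x : G)).1 x.2
          exact ⟨(⟨a, ha⟩, ⟨b, hb'⟩), Subtype.ext e⟩
      refine hsquare (Nat.card N1) ?_
      have hc := Nat.card_eq_of_bijective f hf
      rw [Nat.card_prod, htop] at hc
      rwa [show Nat.card ↥N2 = Nat.card ↥N1 from Nat.card_congr
        (N1.equivMapOfInjective _ (MulAut.conj t).injective).symm.toEquiv] at hc
    · refine Or.inr (Subgroup.map_injective D.subtype_injective ?_)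
      rw [← MonoidHom.range_eq_map, Subgroup.range_subtype]
      refine le_antisymm hN1D ((hnormal _ (hnorm (L := N1 ⊓ N2)
        (fun x hx y hy => ⟨h1 x hx y hy.1, h2 x hx y hy.2⟩)
        (fun y hy => ⟨h21 y hy.2, ⟨y, hy.1, rfl⟩⟩)) hb).trans inf_le_left)
  · have h1 : ⁅D, D⁆ = ⊥ := by
      rw [Subgroup.commutator_eq_bot_iff_le_centralizer]
      intro x hx
      rw [Subgroup.mem_centralizer_iff]
      intro y hy
      exact congrArg Subtype.val (hcomm.is_comm.comm (⟨y, hy⟩ : ↥D) ⟨x, hx⟩)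
    rw [hperf] at h1
    rw [h1, Subgroup.card_bot] at hone
    omega

end CfsgLib

namespace CfsgLib.Twisted.Gens

open Cfsg.Lie CfsgLib.ChevStr
open scoped MatrixGroups commutatorElement

variable {D : ChevalleyDatum} {F : Type*} [Field F] {C : ChevCore D F} {φ : Frob C} {I : Type}
  {O : OrbitData C.R φ.ρ I} {G1 : Subgroup (GL D.Idx F)} {d : ℕ}
  (g : Gens φ O G1 d) [Fintype F]

include g

/-- A perfect derived group lies in every nontrivial normal subgroup of a twisted group. -/
theorem derived_le_normal (hperf : ⁅commutator ↥G1, commutator ↥G1⁆ = commutator ↥G1)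
    (hcore : ((D.borelSubgroup F ⊓ G1).subgroupOf G1).normalCore = ⊥)
    (hconn : ∀ J : Set I, J.Nonempty → Jᶜ.Nonempty → ∃ i ∈ J, ∃ k ∉ J, ¬ Commute (g.wJ i) (g.wJ k))
    {K : Subgroup ↥G1} (hK : K.Normal) (hne : K ≠ ⊥) : commutator ↥G1 ≤ K := by
  classical
  set P := g.reflections.bnPair with hP
  refine CfsgLib.BNPair.derived_le_normal P ?_ ?_ hcore hperf hK hne
  · intro J hJ hne hne'
    set J' : Set I := {i | (⟨g.s i, g.s_mem i⟩ : ↥G1) ∈ J}
    have h1 : J'.Nonempty := by
      obtain ⟨x, hx⟩ := hne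
      obtain ⟨i, rfl⟩ := hJ hx
      exact ⟨i, hx⟩
    have h2 : J'ᶜ.Nonempty := by
      obtain ⟨x, hxS, hxJ⟩ := hne'
      obtain ⟨i, rfl⟩ := hxS
      exact ⟨i, hxJ⟩
    obtain ⟨i, hi, k, hk, hnc⟩ := hconn J' h1 h2
    refine ⟨_, hi, ⟨g.s k, g.s_mem k⟩, ⟨⟨k, rfl⟩, hk⟩, fun hB => hnc ?_⟩
    set n := g.s i * g.s k * (g.s i)⁻¹ * (g.s k)⁻¹
    have hnB : n ∈ D.borelSubgroup F := hB.1
    have hnN : n ∈ D.monomialSubgroup F := mul_mem (mul_mem (mul_mem (g.s_mem_N i) (g.s_mem_N k))
      (inv_mem (g.s_mem_N i))) (inv_mem (g.s_mem_N k))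
    have hH : n ∈ C.R.torus.range := C.diagonalSubgroup_eq ▸ (chevAmbient C).B_inf_N hnB hnN
    obtain ⟨c, hc⟩ := hH
    have hm : C.Moves n (g.wJ i * g.wJ k * (g.wJ i)⁻¹ * (g.wJ k)⁻¹) :=
      ChevCore.Moves.mul C (ChevCore.Moves.mul C (ChevCore.Moves.mul C (g.s_moves i) (g.s_moves k))
        (ChevCore.Moves.inv C (g.s_mem_N i) (g.s_moves i)))
        (ChevCore.Moves.inv C (g.s_mem_N k) (g.s_moves k))
    have h3 := ChevCore.Moves.unique C hm (hc ▸ C.moves_torus c)
    rw [mul_inv_eq_one, mul_inv_eq_iff_eq_mul] at h3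
    exact h3
  · have : Group.IsSolvable ↥(D.borelSubgroup F) := C.borel_isSolvable
    exact Group.isSolvable_of_isSolvable_injective
      (f := (((G1.subtype).comp P.B.subtype).codRestrict (D.borelSubgroup F) fun x => x.2.1))
      (fun a b e => by
        have e' := congrArg (fun z : ↥(D.borelSubgroup F) => (z : GL D.Idx F)) e
        exact Subtype.ext (Subtype.ext e'))

end CfsgLib.Twisted.Gens

namespace CfsgLib.Twisted

open Cfsg.Lie CfsgLib.ChevStr CfsgLib.RankThree
open scoped MatrixGroups commutatorElement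

theorem conj_mem_commutator {G : Type*} [Group G] {A : Subgroup G} {g : G}
    (h : ∀ x ∈ A, g * x * g⁻¹ ∈ A) : ∀ x ∈ ⁅A, A⁆, g * x * g⁻¹ ∈ ⁅A, A⁆ := by
  intro x hx
  have hle : A.map (MulAut.conj g).toMonoidHom ≤ A := by
    rintro _ ⟨y, hy, rfl⟩
    exact h y hy
  have := Subgroup.mem_map_of_mem (MulAut.conj g).toMonoidHom hx
  rw [Subgroup.map_commutator] at this
  exact Subgroup.commutator_mono hle hle this

/-- The derived group of ²F₄(2), among the matrices. -/
noncomputable def D2 : Subgroup (GL chevF4.Idx (ZMod 2)) := ⁅G2F4, G2F4⁆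

theorem D2_le : D2 ≤ G2F4 := Subgroup.commutator_le.2 fun a ha b hb => by
  rw [commutatorElement_def]; exact mul_mem (mul_mem (mul_mem ha hb) (inv_mem ha)) (inv_mem hb)

theorem D2_conj {g : GL chevF4.Idx (ZMod 2)} (hg : g ∈ G2F4) :
    ∀ x ∈ D2, g * x * g⁻¹ ∈ D2 :=
  conj_mem_commutator fun _ hx => mul_mem (mul_mem hg hx) (inv_mem hg)

theorem M2_conj {g : GL chevF4.Idx (ZMod 2)} (hg : g ∈ G2F4) :
    ∀ x ∈ ⁅D2, D2⁆, g * x * g⁻¹ ∈ ⁅D2, D2⁆ :=
  conj_mem_commutator (D2_conj hg)

theorem W_comm_word (a b : List ℕ) :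
    W C2 (a.reverse ++ b.reverse ++ a ++ b) = ⁅(W C2 a)⁻¹, (W C2 b)⁻¹⁆ := by
  rw [W_append, W_append, W_append, W_reverse, W_reverse, commutatorElement_def, inv_inv, inv_inv]

theorem W_turn {i : Fin 2} {w : List ℕ} (h : ∀ r ∈ w, r < chevF4.nroots) :
    W C2 (turn i w ++ w.reverse) = ⁅gens2.s i, W C2 w⁆ := by
  rw [W_append, W_reverse, commutatorElement_def, s2_conj_W i w h]

theorem S2_le_D2 : S2 ≤ D2 := by
  have hval : ∀ w ∈ derWords, W C2 w ∈ D2 := by
    intro w hw
    rcases List.mem_append.1 hw with h | h <;> obtain ⟨e, he, rfl⟩ := List.mem_map.1 h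
    · obtain ⟨h1, h2, h3⟩ := titsComm_ok e he
      rw [← sameWord_W h3, W_comm_word]
      exact Subgroup.commutator_mem_commutator (inv_mem (gElt_mem h1).2) (inv_mem (gElt_mem h2).2)
    · obtain ⟨h1, h2⟩ := titsTurn_ok e he
      rw [← sameWord_W h2, W_turn (fun r hr => ?_)]
      · exact Subgroup.commutator_mem_commutator (gens2.s_mem _) (W_fixed h1).2
      · simp only [fixedOK, Bool.and_eq_true, List.all_eq_true] at h1
        have := h1.2 r hr
        simp only [upper, Bool.and_eq_true, decide_eq_true_eq] at this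
        exact this.2
  refine tail_le (by norm_num) fun j h1 h2 => ?_
  obtain ⟨k, rfl⟩ : ∃ k, j = k + 1 := ⟨j - 1, by omega⟩
  obtain ⟨ha, hb⟩ := titsDer_ok ⟨k, by omega⟩
  rw [gElt, sameWord_W hb]
  refine W_expand_mem fun a ha' => hval _ ?_
  rw [List.getD_eq_getElem _ _ (ha a ha')]
  exact List.getElem_mem _

theorem S2_le_M2 : S2 ≤ ⁅D2, D2⁆ := by
  have hcomm : ∀ e ∈ titsComm2, W C2 e.2.2 ∈ ⁅D2, D2⁆ := fun e he => by
    obtain ⟨h1, h2, h3, h4, h5⟩ := titsComm2_ok e he
    rw [← sameWord_W h5, W_comm_word]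
    exact Subgroup.commutator_mem_commutator (inv_mem (S2_le_D2 (gElt_mem_tail h1 h2)))
      (inv_mem (S2_le_D2 (gElt_mem_tail h3 h4)))
  have h0 : W C2 (titsComm2.getD 0 (0, 0, [])).2.2 ∈ ⁅D2, D2⁆ :=
    hcomm _ (by decide +kernel)
  have hval : ∀ w ∈ derWords2, W C2 w ∈ ⁅D2, D2⁆ := by
    intro w hw
    rcases List.mem_append.1 hw with h | h <;> obtain ⟨e, he, rfl⟩ := List.mem_map.1 h
    · exact hcomm e he
    · obtain ⟨h1, h2⟩ := titsTurn2_ok e he
      rw [← sameWord_W h2, ← s2_conj_W _ _ h1]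
      exact M2_conj (gens2.s_mem _) _ h0
  refine tail_le (by norm_num) fun j h1 h2 => ?_
  obtain ⟨k, rfl⟩ : ∃ k, j = k + 1 := ⟨j - 1, by omega⟩
  obtain ⟨ha, hb⟩ := titsDer2_ok ⟨k, by omega⟩
  rw [gElt, sameWord_W hb]
  refine W_expand_mem fun a ha' => hval _ ?_
  rw [List.getD_eq_getElem _ _ (ha a ha')]
  exact List.getElem_mem _

theorem G2F4_le_sup : G2F4 ≤ ⁅D2, D2⁆ ⊔ Subgroup.zpowers t2 := by
  set K := ⁅D2, D2⁆ ⊔ Subgroup.zpowers t2
  have hU : U2 ≤ K := U2_le_of_gens fun j hj => by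
    rcases Nat.eq_zero_or_pos j with rfl | h
    · exact Subgroup.mem_sup_right (Subgroup.mem_zpowers t2)
    · exact Subgroup.mem_sup_left (S2_le_M2 (gElt_mem_tail h hj))
  have hconj : ∀ (i : Fin 2), ∀ y ∈ U2, gens2.s i * y * (gens2.s i)⁻¹ ∈ K := by
    intro i y hy
    have hle : U2 ≤ K.comap (MulAut.conj (gens2.s i)).toMonoidHom := U2_le_of_gens fun j hj => by
      show gens2.s i * gElt j * (gens2.s i)⁻¹ ∈ K
      rcases Nat.eq_zero_or_pos j with rfl | h
      · obtain ⟨hp, hb⟩ := titsTurn_first i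
        refine hU (Subgroup.mem_inf.2 ⟨?_, mul_mem (mul_mem (gens2.s_mem i) (gElt_mem hj).2)
          (inv_mem (gens2.s_mem i))⟩)
        rw [gElt, s2_conj_W i _ hb, C2.posUnipotent_eq]
        exact C2.Ucl_mono (fun r hr => (hp r hr).2) (C2.word_mem _ _)
      · exact Subgroup.mem_sup_left (M2_conj (gens2.s_mem i) _ (S2_le_M2 (gElt_mem_tail h hj)))
    have h := Subgroup.mem_comap.1 (hle hy)
    rwa [MulEquiv.coe_toMonoidHom, MulAut.conj_apply] at h
  refine (Subgroup.closure_le _).2 ?_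
  rintro x ⟨w, hw, hx⟩
  obtain rfl : x = C2.wordGL w := Units.ext (hx.trans (C2.coe_wordGL w).symm)
  have hwG : C2.wordGL w ∈ G2F4 := C2.wordGL_mem_gen hw
  have hcase : (∃ i, ∀ p ∈ w, p.1 ∈ rootsF4 i) ∨ ∃ i : Fin 2, ∀ p ∈ w,
      p.1 ∈ [[f4m1, f4m4], [f4ma, f4mb, f4mab, f4maab]].getD i.val [] := by
    rcases hw with ⟨a, rfl | rfl⟩ | ⟨a, b, rfl | rfl⟩
    · exact Or.inl ⟨0, fun p hp => by
        simp only [f4PairWord, List.mem_cons, List.not_mem_nil, or_false] at hp
        rcases hp with rfl | rfl <;> simp [rootsF4]⟩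
    · exact Or.inr ⟨0, fun p hp => by
        simp only [f4PairWord, List.mem_cons, List.not_mem_nil, or_false] at hp
        rcases hp with rfl | rfl <;> simp⟩
    · exact Or.inl ⟨1, fun p hp => by
        simp only [b2ClassWord, List.mem_cons, List.not_mem_nil, or_false] at hp
        rcases hp with rfl | rfl | rfl | rfl <;> simp [rootsF4]⟩
    · exact Or.inr ⟨1, fun p hp => by
        simp only [b2ClassWord, List.mem_cons, List.not_mem_nil, or_false] at hp
        rcases hp with rfl | rfl | rfl | rfl <;> simp⟩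
  rcases hcase with ⟨i, hp⟩ | ⟨i, hp⟩
  · refine hU (Subgroup.mem_inf.2 ⟨Ucl_in_le C2 (nodesF4 i) (C2.wordGL_mem_Ucl fun p hp' => ?_), hwG⟩)
    rw [inF4]
    exact hp p hp'
  · have hy : gens2.s i * C2.wordGL w * (gens2.s i)⁻¹ ∈ U2 := by
      refine Subgroup.mem_inf.2 ⟨?_, mul_mem (mul_mem (gens2.s_mem i) hwG) (inv_mem (gens2.s_mem i))⟩
      refine C2.conj_Ucl_le (s2_moves i)
        (S := listSet ([[f4m1, f4m4], [f4ma, f4mb, f4mab, f4maab]].getD i.val []))
        (fun r hr t => C2.xGL_mem_posUnipotent ?_ t) _ (C2.wordGL_mem_Ucl hp)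
      rw [titsMap_eq]
      exact titsMap_roots i r hr
    have h := hconj i _ hy
    rw [← mul_assoc, ← mul_assoc, s2_sq, one_mul, mul_assoc, ← mul_inv_rev, s2_sq, inv_one,
      mul_one] at h
    exact h

/-- The derived group of ²F₄(2) as a subgroup of it. -/
theorem map_derived : (commutator ↥G2F4).map G2F4.subtype = D2 ∧
    (⁅commutator ↥G2F4, commutator ↥G2F4⁆).map G2F4.subtype = ⁅D2, D2⁆ := by
  have hD : (commutator ↥G2F4).map G2F4.subtype = D2 := by
    rw [commutator_def, Subgroup.map_commutator, ← MonoidHom.range_eq_map, Subgroup.range_subtype, D2]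
  exact ⟨hD, by rw [Subgroup.map_commutator, hD]⟩

theorem derived_facts :
    ⁅commutator ↥G2F4, commutator ↥G2F4⁆ = commutator ↥G2F4 ∧ (commutator ↥G2F4).index = 2 := by
  have ht : t2 ∈ G2F4 := (gElt_mem (by norm_num : (0 : ℕ) < 12)).2
  obtain ⟨hD, hM⟩ := map_derived
  refine CfsgLib.derived_index_two (t := (⟨t2, ht⟩ : ↥G2F4)) ?_ ?_ t2_not_mem_derived
  · apply Subgroup.map_injective G2F4.subtype_injective
    rw [Subgroup.map_sup, hM, MonoidHom.map_zpowers, ← MonoidHom.range_eq_map,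
      Subgroup.range_subtype, Subgroup.coe_subtype]
    exact le_antisymm (sup_le ((Subgroup.commutator_mono D2_le D2_le).trans D2_le)
      (Subgroup.zpowers_le.2 ht)) G2F4_le_sup
  · have hsq : t2 * t2 ∈ ⁅D2, D2⁆ := S2_le_M2 (gElt_sq (by norm_num : (0 : ℕ) < 12))
    rw [← hM, Subgroup.mem_map] at hsq
    obtain ⟨y, hy, e⟩ := hsq
    obtain rfl : y = ⟨t2, ht⟩ * ⟨t2, ht⟩ := Subtype.ext e
    exact hy

theorem card_tits : Nat.card ↥(commutator ↥G2F4) = 17971200 := by
  have h := (commutator ↥G2F4).card_mul_index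
  rw [derived_facts.2, card_2F4] at h
  omega

section general

variable (K : Type*) [Field K] [Fintype K] [CharP K 2] {m : ℕ}
  (hn : Fintype.card K = 2 * (2 ^ m * 2 ^ m))

include hn

theorem derived_le_normalF4
    (hperf : ⁅commutator ↥(twistedF4 K (2 ^ m)), commutator ↥(twistedF4 K (2 ^ m))⁆ =
      commutator ↥(twistedF4 K (2 ^ m)))
    {N : Subgroup ↥(twistedF4 K (2 ^ m))} (hN : N.Normal) (hne : N ≠ ⊥) :
    commutator ↥(twistedF4 K (2 ^ m)) ≤ N :=
  (gensF4 K hn).derived_le_normal hperf (core_eq_botF4 K hn)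
    ((gensF4 K hn).conn_of_words f4TwistWord f4_word_mem f4_word_neg f4_conn) hN hne

end general

theorem derived_le_normal {N : Subgroup ↥G2F4} (hN : N.Normal) (hne : N ≠ ⊥) :
    commutator ↥G2F4 ≤ N := by
  have h := fun hp (N' : Subgroup ↥(twistedF4 (ZMod 2) (2 ^ 0))) =>
    derived_le_normalF4 (ZMod 2) (m := 0) hn2 hp (N := N')
  rw [pow_zero] at h
  exact h derived_facts.1 N hN hne

theorem tits_simple :
    IsSimpleGroup TitsGroup ∧ ¬ IsMulCommutative TitsGroup := by
  refine CfsgLib.derived_simple derived_facts.1 derived_facts.2 (fun K hK h => derived_le_normal hK h)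
    (by rw [card_tits]; norm_num) fun n hn => ?_
  rw [card_tits] at hn
  rcases Nat.lt_or_ge n 4240 with h | h
  · have := Nat.mul_le_mul (Nat.le_of_lt_succ h) (Nat.le_of_lt_succ h)
    omega
  · have := Nat.mul_le_mul h h
    omega

end CfsgLib.Twisted
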