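import Cfsg.Agent.Lib.TwistedStr.Weyl
import Cfsg.Agent.Lib.Twisted.TypeD4

/-! The twisted Weyl group of type ³D₄ and its Poincaré polynomial. -/

set_option autoImplicit false

namespace CfsgLib.Twisted

open Cfsg.Lie CfsgLib.ChevStr

/-- Words for the longest elements of the orbits. -/
def d4TwistWord : Fin 2 → List (Fin chevD4.rank)
  | 0 => [⟨0, by decide⟩, ⟨2, by decide⟩, ⟨3, by decide⟩]
  | 1 => [⟨1, by decide⟩]

/-- The lengths and words of the generators. -/
def d4TwistWords : List (ℕ × List ℕ) := [(3, [0, 2, 3]), (1, [1])]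

theorem d4_rho_neg : ∀ r : Fin chevD4.nroots, chevD4.IsNegRoot r → chevD4.IsNegRoot (rhoD4 r) := by
  decide +kernel

theorem d4_word_mem : ∀ i, ∀ j ∈ d4TwistWord i, j ∈ nodesD4 i := by decide +kernel

theorem d4_word_neg : ∀ i, ∀ j ∈ nodesD4 i, chevD4.IsNegRoot
    (reflDataD4.wordPerm (d4TwistWord i) ⟨chevD4.simple j.val, rootDataD4.simple_lt j⟩) := by
  decide +kernel

theorem d4_word_comm : ∀ i, ∀ r, rhoD4 (reflDataD4.wordPerm (d4TwistWord i) r) =
    reflDataD4.wordPerm (d4TwistWord i) (rhoD4 r) := by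
  decide +kernel

theorem d4_word_spec : d4TwistWords = (List.finRange 2).map fun i =>
    ((Finset.univ.filter fun s : Fin chevD4.nroots => chevD4.IsPosRoot s.val ∧
      chevD4.IsNegRoot (reflDataD4.wordPerm (d4TwistWord i) s)).card,
        (d4TwistWord i).map fun j : Fin chevD4.rank => j.val) := by
  decide +kernel

theorem d4_counts : twistCounts chevD4 d4TwistWords 12 =
    [1, 1, 0, 1, 2, 1, 0, 1, 2, 1, 0, 1, 1] := by
  decide +kernel

theorem sum_twistSetD4 (f : ℕ → ℕ) :
    ∑ w ∈ twistSet reflDataD4 rhoD4, f (reflDataD4.invSet w).card =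
      ∑ m ∈ Finset.range 13, ([1, 1, 0, 1, 2, 1, 0, 1, 2, 1, 0, 1, 1] : List ℕ).getD m 0 * f m := by
  rw [← d4_counts]
  refine sum_twistSet reflDataD4 orbD4 d4_rho_neg d4TwistWord
    (fun i => ⟨d4_word_mem i, d4_word_neg i, d4_word_comm i⟩) (List.finRange 2) List.mem_finRange _ ?_
    (by decide +kernel) f
  rw [d4_word_spec]
  refine List.map_congr_left fun i _ => ?_
  congr 2

end CfsgLib.Twisted
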