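import Cfsg.Agent.Lib.TwistedStr.OrbitTorus
import Cfsg.Agent.Lib.TwistedStr.WeylD4
import Cfsg.Agent.Lib.ChevStr.Orders

/-! The torus and the order of ³D₄. -/

set_option autoImplicit false

namespace CfsgLib.Twisted

open Cfsg.Lie CfsgLib.ChevStr
open scoped MatrixGroups

/-- The fundamental root with a given number. -/
def nodeD4 (k : ℕ) (h : k < 4 := by omega) : Fin chevD4.rank := ⟨k, h⟩

/-- The permutation of the fundamental roots. -/
def piD4 : Equiv.Perm (Fin chevD4.rank) where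
  toFun j := [nodeD4 2, nodeD4 1, nodeD4 3, nodeD4 0].getD j.val j
  invFun j := [nodeD4 3, nodeD4 1, nodeD4 0, nodeD4 2].getD j.val j
  left_inv := by unfold Function.LeftInverse; decide +kernel
  right_inv := by unfold Function.RightInverse Function.LeftInverse; decide +kernel

theorem piD4_root : ∀ j : Fin chevD4.rank,
    (rhoD4 ⟨chevD4.simple j.val, rootDataD4.simple_lt j⟩ : ℕ) = chevD4.simple (piD4 j).val := by
  decide +kernel

theorem piD4_cube : ∀ j, piD4 (piD4 (piD4 j)) = j := by decide +kernel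

theorem piD4_vals : piD4 (nodeD4 0) = nodeD4 2 ∧ piD4 (nodeD4 1) = nodeD4 1 ∧
    piD4 (nodeD4 2) = nodeD4 3 ∧ piD4 (nodeD4 3) = nodeD4 0 := by decide +kernel

theorem nodeD4_cases : ∀ j : Fin chevD4.rank,
    j = nodeD4 0 ∨ j = nodeD4 1 ∨ j = nodeD4 2 ∨ j = nodeD4 3 := by decide +kernel

theorem prod_nodeD4 {M : Type*} [CommMonoid M] (f : Fin chevD4.rank → M) :
    ∏ j, f j = f (nodeD4 0) * f (nodeD4 1) * f (nodeD4 2) * f (nodeD4 3) :=
  Fin.prod_univ_four f

theorem d4_simples : chevD4.simple 0 = d4p1 ∧ chevD4.simple 1 = d4p2 ∧ chevD4.simple 2 = d4p3 ∧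
    chevD4.simple 3 = d4p4 ∧ chevD4.neg d4p1 = d4m1 ∧ chevD4.neg d4p2 = d4m2 ∧
    chevD4.neg d4p3 = d4m3 ∧ chevD4.neg d4p4 = d4m4 := by decide +kernel

theorem d4_commPairs : CommPair chevD4 (chevD4.simple 0) (chevD4.simple 2) ∧
    CommPair chevD4 (chevD4.simple 0) (chevD4.simple 3) ∧
    CommPair chevD4 (chevD4.simple 2) (chevD4.simple 3) := by
  unfold CommPair
  decide +kernel

/-- Twice the inverse Cartan matrix. -/
def invD4 : List (List ℤ) := [[2, 2, 1, 1], [2, 4, 2, 2], [1, 2, 2, 1], [1, 2, 1, 2]]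

theorem invD4_spec : ∀ i j : Fin chevD4.rank,
    ∑ a : Fin chevD4.rank, tableEnt invD4 i.val a.val * chevD4.cartan j.val (chevD4.simple a.val) =
      if i = j then ((2 : ℕ) : ℤ) else 0 := by decide +kernel

theorem d4_centre_row : ∀ j : Fin chevD4.rank,
    chevD4.cartan j.val (chevD4.simple 1) = if j = nodeD4 1 then 2 else -1 := by decide +kernel

variable (K : Type*) [Field K] [Fintype K] {p n : ℕ} [ExpChar K p]
  (hn : Fintype.card K = (p ^ n) * (p ^ n) * (p ^ n))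

theorem torusActD4 : TorusAct (frobD4 K p n) piD4 (fun _ => p ^ n) :=
  ⟨piD4_root, fun _ => rfl⟩

include hn

theorem unit_pow_cube (u : Kˣ) : ((u ^ p ^ n) ^ p ^ n) ^ p ^ n = u := by
  refine Units.ext ?_
  rw [← pow_mul, ← pow_mul, Units.val_pow_eq_pow_val,
    show p ^ n * (p ^ n * p ^ n) = Fintype.card K by rw [hn, mul_assoc], FiniteField.pow_card]

omit hn [ExpChar K p] in
theorem fixD4_eq {c : Fin chevD4.rank → Kˣ} (h : ∀ j, c (piD4 j) = c j ^ p ^ n) :
    c (nodeD4 2) = c (nodeD4 0) ^ p ^ n ∧ c (nodeD4 3) = (c (nodeD4 0) ^ p ^ n) ^ p ^ n ∧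
      c (nodeD4 1) ^ p ^ n = c (nodeD4 1) := by
  obtain ⟨e0, e1, e2, -⟩ := piD4_vals
  have h0 := h (nodeD4 0); have h1 := h (nodeD4 1); have h2 := h (nodeD4 2)
  rw [e0] at h0; rw [e1] at h1; rw [e2] at h2
  exact ⟨h0, by rw [h2, h0], h1.symm⟩

theorem fixTorus_leD4 : ∀ c ∈ fixTorus (F := K) piD4 (fun _ => p ^ n),
    (coreD4 K).R.torus c ∈ twistedD4 K (p ^ n) := by
  intro c hc
  obtain ⟨h2, h3, h1⟩ := fixD4_eq K (mem_fixTorus.1 hc)
  have hq : (-1 : K) ^ p ^ n = -1 := neg_one_pow_expChar p n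
  obtain ⟨s0, s1, s2, s3, m0, m1, m2, m3⟩ := d4_simples
  obtain ⟨k02, k03, k23⟩ := d4_commPairs
  have hc' : c = Pi.mulSingle (nodeD4 0) (c (nodeD4 0)) *
      (Pi.mulSingle (nodeD4 2) (c (nodeD4 0) ^ p ^ n) *
        Pi.mulSingle (nodeD4 3) (c (nodeD4 0) ^ (p ^ n) ^ 2)) *
      Pi.mulSingle (nodeD4 1) (c (nodeD4 1)) := by
    funext j
    rcases nodeD4_cases j with rfl | rfl | rfl | rfl <;>
      simp [h2, h3, sq, pow_mul, Pi.mulSingle_apply] <;> simp [nodeD4, Fin.ext_iff]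
  rw [hc', map_mul, map_mul, map_mul]
  refine mul_mem (torusTriple_mem (coreD4 K) (nodeD4 0) (nodeD4 2) (nodeD4 3) k02 k03 k23 hq
    (by rw [sq, pow_mul, hq, hq]) (fun t => ?_) _)
    (torusSingle_mem (coreD4 K) (nodeD4 1) hq (fun t ht => ?_) _ h1)
  · simp only [nodeD4, s0, s2, s3, m0, m2, m3]
    constructor
    · have h := (coreD4 K).wordGL_mem_gen (W := d4Words K (p ^ n))
        (Or.inr ⟨t, (d4p1, d4p3, d4p4), by simp, rfl⟩)
      simp only [ChevCore.wordGL_cons, ChevCore.wordGL_nil, mul_one] at h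
      exact h
    · have h := (coreD4 K).wordGL_mem_gen (W := d4Words K (p ^ n))
        (Or.inr ⟨t, (d4m1, d4m3, d4m4), by simp, rfl⟩)
      simp only [ChevCore.wordGL_cons, ChevCore.wordGL_nil, mul_one] at h
      exact h
  · simp only [nodeD4, s1, m1]
    constructor
    · have h := (coreD4 K).wordGL_mem_gen (W := d4Words K (p ^ n))
        (Or.inl ⟨t, ht, d4p2, by simp, rfl⟩)
      simp only [ChevCore.wordGL_cons, ChevCore.wordGL_nil, mul_one] at h
      exact h
    · have h := (coreD4 K).wordGL_mem_gen (W := d4Words K (p ^ n))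
        (Or.inl ⟨t, ht, d4m2, by simp, rfl⟩)
      simp only [ChevCore.wordGL_cons, ChevCore.wordGL_nil, mul_one] at h
      exact h

theorem diag_infD4 (hq : 2 ≤ p ^ n) : chevD4.diagonalSubgroup K ⊓ twistedD4 K (p ^ n) =
    (fixTorus piD4 (fun _ => p ^ n)).map (coreD4 K).R.torus := by
  refine (gensD4 K hn hq).diag_inf_eq (torusActD4 K) (fixTorus_leD4 K hn) (k := 3) (fun c => ?_)
    (m := 2) (by norm_num) (fun c hc => pow_eq_one_of_torus _ 2 invD4_spec hc)
  funext j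
  conv_lhs => rw [← piD4_cube j]
  simp only [Function.iterate_succ_apply', Function.iterate_zero, id_eq, torusTwist_apply]
  exact unit_pow_cube K hn _

theorem card_H1D4 (hq : 2 ≤ p ^ n) :
    Nat.card ↥(chevD4.diagonalSubgroup K ⊓ twistedD4 K (p ^ n)) =
      (p ^ n - 1) * ((p ^ n) ^ 3 - 1) := by
  classical
  rw [diag_infD4 K hn hq]
  have hker : Nat.card {c : Fin chevD4.rank → Kˣ //
      (∀ j, c (piD4 j) = c j ^ p ^ n) ∧ (coreD4 K).R.torus c = 1} = 1 := by
    have hu : ∀ c : Fin chevD4.rank → Kˣ, (∀ j, c (piD4 j) = c j ^ p ^ n) →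
        (coreD4 K).R.torus c = 1 → c = 1 := by
      intro c hc ht
      obtain ⟨h2, h3, h1⟩ := fixD4_eq K hc
      have hsq : ∀ j, c j ^ 2 = 1 := fun j => congrFun (pow_eq_one_of_torus _ 2 invD4_spec ht) j
      have hodd : ∀ u : Kˣ, u ^ 2 = 1 → u ^ p ^ n = u := by
        intro u hu
        have h := congrArg (fun x : Kˣ => (x : K)) hu
        simp only [Units.val_pow_eq_pow_val, Units.val_one, sq_eq_one_iff] at h
        refine Units.ext ?_
        rcases h with h | h <;> simp [h, neg_one_pow_expChar p n]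
      rw [hodd _ (hsq _)] at h2 h3
      rw [hodd _ (hsq _)] at h3
      have hrow := congrFun (((coreD4 K).torus_eq_one_iff c).1 ht) (nodeD4 1)
      rw [monMap] at hrow
      have e : ∀ j : Fin chevD4.rank, c j ^ chevD4.cartan j.val (chevD4.simple (nodeD4 1).val) =
          if j = nodeD4 1 then 1 else c j := by
        intro j
        show c j ^ chevD4.cartan j.val (chevD4.simple 1) = _
        rw [d4_centre_row]
        split_ifs with h
        · subst h; exact_mod_cast hsq _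
        · rw [zpow_neg_one, inv_eq_of_mul_eq_one_right (by rw [← sq]; exact hsq j)]
      simp only [e] at hrow
      rw [prod_nodeD4, h2, h3] at hrow
      have h0 : c (nodeD4 0) = 1 := by
        have := hsq (nodeD4 0)
        rw [sq] at this
        simp only [nodeD4] at this
        simp [nodeD4, Fin.ext_iff] at hrow
        rw [this, one_mul] at hrow
        exact hrow
      funext j
      rcases nodeD4_cases j with rfl | rfl | rfl | rfl
      · exact h0
      · have hcol := congrFun (((coreD4 K).torus_eq_one_iff c).1 ht) (nodeD4 0)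
        rw [monMap, prod_nodeD4, h2, h3, h0] at hcol
        have hz : chevD4.cartan 1 (chevD4.simple 0) = -1 ∧ chevD4.cartan 2 (chevD4.simple 0) = 0 ∧
            chevD4.cartan 3 (chevD4.simple 0) = 0 := by decide +kernel
        simpa [nodeD4, hz] using hcol
      · rw [h2, h0]; rfl
      · rw [h3, h0]; rfl
    have : Unique {c : Fin chevD4.rank → Kˣ //
        (∀ j, c (piD4 j) = c j ^ p ^ n) ∧ (coreD4 K).R.torus c = 1} :=
      { default := ⟨1, fun j => by simp, map_one _⟩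
        uniq := fun c => Subtype.ext (hu c.1 c.2.1 c.2.2) }
    exact Nat.card_unique
  have h := Gens.card_map_fixTorus (coreD4 K) piD4 (fun _ => p ^ n)
  rw [hker, one_mul] at h
  rw [h]
  obtain ⟨e0, e1, e2, e3⟩ := piD4_vals
  let toFun : {c : Fin chevD4.rank → Kˣ // ∀ j, c (piD4 j) = c j ^ p ^ n} →
      Kˣ × (powMonoidHom (p ^ n - 1) : Kˣ →* Kˣ).ker := fun c =>
    (c.1 (nodeD4 0), ⟨c.1 (nodeD4 1), by
      rw [MonoidHom.mem_ker, powMonoidHom_apply]
      refine mul_right_cancel (b := c.1 (nodeD4 1)) ?_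
      rw [← pow_succ, Nat.sub_add_cancel (by omega), one_mul, (fixD4_eq K c.2).2.2]⟩)
  let invFun : Kˣ × (powMonoidHom (p ^ n - 1) : Kˣ →* Kˣ).ker →
      Fin chevD4.rank → Kˣ := fun x j =>
    [x.1, (x.2 : Kˣ), x.1 ^ p ^ n, (x.1 ^ p ^ n) ^ p ^ n].getD j.val 1
  have hfix : ∀ x j, invFun x (piD4 j) = invFun x j ^ p ^ n := by
    intro x j
    have hx : (x.2 : Kˣ) ^ p ^ n = x.2 := by
      have := MonoidHom.mem_ker.1 x.2.2
      rw [powMonoidHom_apply] at this
      calc (x.2 : Kˣ) ^ p ^ n = (x.2 : Kˣ) ^ (p ^ n - 1 + 1) := by rw [Nat.sub_add_cancel (by omega)]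
        _ = x.2 := by rw [pow_succ, this, one_mul]
    rcases nodeD4_cases j with rfl | rfl | rfl | rfl <;> simp only [e0, e1, e2, e3] <;>
      simp [invFun, nodeD4, hx, unit_pow_cube K hn]
  rw [Nat.card_congr (⟨toFun, fun x => ⟨invFun x, hfix x⟩, fun c => Subtype.ext (funext fun j => ?_),
    fun x => by simp [toFun, invFun, nodeD4]⟩ :
      {c : Fin chevD4.rank → Kˣ // ∀ j, c (piD4 j) = c j ^ p ^ n} ≃
        Kˣ × (powMonoidHom (p ^ n - 1) : Kˣ →* Kˣ).ker),
    Nat.card_prod, IsCyclic.card_powMonoidHom_ker, Nat.card_units, Nat.card_eq_fintype_card, hn,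
    show p ^ n * p ^ n * p ^ n = (p ^ n) ^ 3 by ring,
    Nat.gcd_eq_right (by simpa using Nat.sub_dvd_pow_sub_pow (p ^ n) 1 3), mul_comm]
  obtain ⟨h2, h3, -⟩ := fixD4_eq K c.2
  rcases nodeD4_cases j with rfl | rfl | rfl | rfl
  · rfl
  · rfl
  · exact h2.symm
  · exact h3.symm

theorem card_twistedD4 (hq : 2 ≤ p ^ n) :
    Nat.card ↥(twistedD4 K (p ^ n)) = (p ^ n) ^ 12 * ((p ^ n) ^ 2 - 1) * ((p ^ n) ^ 6 - 1) *
      ((p ^ n) ^ 8 + (p ^ n) ^ 4 + 1) := by
  have g := gensD4 K hn hq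
  have hN : Set.ncard {r | chevD4.IsPosRoot r} = 12 := ncard_isPosRoot (by decide +kernel)
  have hU : Nat.card ↥(chevD4.posUnipotent K ⊓ twistedD4 K (p ^ n)) = (p ^ n) ^ 12 := by
    refine Nat.pow_left_injective (show 3 ≠ 0 by norm_num) ?_
    show _ ^ 3 = _ ^ 3
    rw [g.card_U1, hN, Nat.card_eq_fintype_card, hn]
    ring
  rw [g.card_G1 (q := p ^ n) (by rw [Nat.card_eq_fintype_card, hn]; ring) (by norm_num), hU,
    card_H1D4 K hn hq]
  rw [show ∑ w ∈ twistSet (coreD4 K).hR (frobD4 K p n).ρ, (p ^ n) ^ ((coreD4 K).hR.invSet w).card =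
    ∑ m ∈ Finset.range 13, [1, 1, 0, 1, 2, 1, 0, 1, 2, 1, 0, 1, 1].getD m 0 * (p ^ n) ^ m from
      sum_twistSetD4 ((p ^ n) ^ ·)]
  clear hU g hn
  generalize p ^ n = Q at hq ⊢
  have h1 : ∀ k, 1 ≤ Q ^ k := fun k => Nat.one_le_pow _ _ (by omega)
  refine Nat.cast_injective (R := ℤ) ?_
  simp only [Finset.sum_range_succ, Finset.sum_range_zero, List.getD_cons_succ, List.getD_cons_zero]
  push_cast [Nat.cast_sub (h1 _), Nat.cast_sub (show 1 ≤ Q by omega)]
  ring

end CfsgLib.Twisted
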