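import Cfsg.Agent.Lib.TwistedStr.Structure
import Cfsg.Agent.Lib.TwistedStr.TorusD4

/-! The core, perfectness and simplicity of ³D₄. -/

set_option autoImplicit false

namespace CfsgLib.Twisted

open Cfsg.Lie CfsgLib.ChevStr
open scoped MatrixGroups

theorem d4_pos_facts : ∀ r ∈ [d4p3, d4p4], chevD4.IsPosRoot r ∧ r ≠ d4p1 := by decide +kernel

theorem d4_neg_facts : ∀ i, ∀ r ∈ [[d4m1, d4m3, d4m4], [d4m2]].getD (i : Fin 2).val [],
    chevD4.IsNegRoot r ∧ SuppIn rootDataD4 (nodesD4 i) r := by decide +kernel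

theorem d4_node_simples : chevD4.simple (nodeD4 0).val = d4p1 ∧ chevD4.simple (nodeD4 1).val = d4p2 ∧
    nodeD4 0 ∈ nodesD4 0 ∧ nodeD4 1 ∈ nodesD4 1 := by decide +kernel

/-- The Cartan integers used for perfectness. -/
theorem d4_cartan_vals : ∀ r : Fin chevD4.nroots, (r : ℕ) ∈ rootsD4 0 →
    (chevD4.cartan 0 r.val, chevD4.cartan 2 r.val, chevD4.cartan 3 r.val) ∈
      [((2 : ℤ), (0 : ℤ), (0 : ℤ)), (0, 2, 0), (0, 0, 2)] := by
  decide +kernel

theorem d4_chain : ∃ a : Fin chevD4.nroots, ∃ b : Fin chevD4.nroots,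
    reflDataD4.wordPerm (d4TwistWord 0) ⟨d4p2, by decide⟩ = a ∧
      reflDataD4.wordPerm (d4TwistWord 1) a = b ∧
      (∃ z ∈ [(1 : ℤ), -1], chevD4.commTerms d4p2 a = [((b : ℕ), z, 1, 1)]) ∧
      (a : ℕ) ≠ d4p2 ∧ (a : ℕ) ≠ chevD4.neg d4p2 ∧
      (chevD4.IsPosRoot a ∧ rhoD4 a = a ∧ d4aSym.sign a = 1) ∧
      chevD4.IsPosRoot b ∧ rhoD4 b = b ∧ d4aSym.sign b = 1 := by decide +kernel

theorem d4_fixed_facts : ∃ h : d4p2 < chevD4.nroots,
    chevD4.IsPosRoot d4p2 ∧ rhoD4 ⟨d4p2, h⟩ = ⟨d4p2, h⟩ ∧ d4aSym.sign d4p2 = 1 := by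
  decide +kernel

theorem d4_conn : ∀ b : Fin 2 → Bool, (∃ i, b i = true) → (∃ k, b k = false) →
    ∃ i k, b i = true ∧ b k = false ∧ ¬ ∀ r, reflDataD4.wordPerm (d4TwistWord i)
      (reflDataD4.wordPerm (d4TwistWord k) r) = reflDataD4.wordPerm (d4TwistWord k)
        (reflDataD4.wordPerm (d4TwistWord i) r) := by decide +kernel

variable (K : Type*) [Field K] [Fintype K] {p n : ℕ} [ExpChar K p]
  (hn : Fintype.card K = (p ^ n) * (p ^ n) * (p ^ n)) (hq : 2 ≤ p ^ n)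

omit [Fintype K] in
theorem fixedRootD4 {r : ℕ} (h : r < chevD4.nroots) (hp : chevD4.IsPosRoot r)
    (hr : rhoD4 ⟨r, h⟩ = ⟨r, h⟩) (hs : d4aSym.sign r = 1) :
    Gens.FixedRoot (frobD4 K p n) (p ^ n) ⟨r, h⟩ :=
  ⟨hp, hr, rfl, by show ((d4aSym.sign r : ℤ) : K) = 1; rw [hs, Int.cast_one]⟩

include hn hq

theorem core_eq_botD4 :
    ((chevD4.borelSubgroup K ⊓ twistedD4 K (p ^ n)).subgroupOf (twistedD4 K (p ^ n))).normalCore = ⊥ := by
  obtain ⟨s0, s1, n0, n1⟩ := d4_node_simples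
  refine (gensD4 K hn hq).core_eq_bot fun i => ?_
  fin_cases i
  · refine ⟨nodeD4 0, n0, 1, one_ne_zero, (coreD4 K).wordGL [(d4p3, 1), (d4p4, 1)],
      (coreD4 K).wordGL_mem_Ucl fun x hx => ?_, ?_⟩
    · rw [s0]
      rcases List.mem_pair.1 hx with rfl | rfl <;> exact d4_pos_facts _ (by simp)
    · rw [s0]
      have h := (coreD4 K).wordGL_mem_gen (W := d4Words K (p ^ n))
        (Or.inr ⟨1, (d4p1, d4p3, d4p4), by simp, rfl⟩)
      rw [ChevCore.wordGL_cons] at h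
      simp only [one_pow] at h
      exact h
  · refine ⟨nodeD4 1, n1, 1, one_ne_zero, 1, one_mem _, ?_⟩
    rw [s1]
    have h := (coreD4 K).wordGL_mem_gen (W := d4Words K (p ^ n)) (Or.inl ⟨1, one_pow _, d4p2, by simp, rfl⟩)
    rw [ChevCore.wordGL_cons, ChevCore.wordGL_nil] at h
    exact h

theorem perfectD4Twisted : commutator ↥(twistedD4 K (p ^ n)) = ⊤ := by
  have g := gensD4 K hn hq
  refine g.commutator_eq_top (W := d4Words K (p ^ n)) rfl ?_ fun i => ?_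
  · have pos : ∀ i, ∀ r ∈ rootsD4 i, r ∈ inRoots (coreD4 K).R (nodesD4 i) := fun i r hr => by
      rw [inD4]; exact hr
    rintro w (⟨t, -, r, hr, rfl⟩ | ⟨t, rs, hrs, rfl⟩)
    · simp only [List.mem_cons, List.not_mem_nil, or_false] at hr
      rcases hr with rfl | rfl
      · exact ⟨1, Or.inl fun x hx => pos 1 x.1 (by simp_all [rootsD4])⟩
      · exact ⟨1, Or.inr fun x hx => d4_neg_facts 1 x.1 (by simp_all)⟩
    · simp only [List.mem_cons, List.not_mem_nil, or_false] at hrs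
      rcases hrs with rfl | rfl
      · exact ⟨0, Or.inl fun x hx => pos 0 x.1 (by
          simp only [List.mem_cons, List.not_mem_nil, or_false] at hx
          rcases hx with rfl | rfl | rfl <;> simp [rootsD4])⟩
      · exact ⟨0, Or.inr fun x hx => d4_neg_facts 0 x.1 (by
          simp only [List.mem_cons, List.not_mem_nil, or_false] at hx
          rcases hx with rfl | rfl | rfl <;> simp)⟩
  · obtain ⟨u, hu⟩ : ∃ u : Kˣ, u ^ 2 ≠ 1 := by
      obtain ⟨l, hl⟩ := IsCyclic.exists_generator (α := Kˣ)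
      refine ⟨l, pow_ne_one_of_lt_orderOf two_ne_zero ?_⟩
      rw [orderOf_eq_card_of_forall_mem_zpowers hl, Nat.card_units, Nat.card_eq_fintype_card, hn]
      have := Nat.mul_le_mul (Nat.mul_le_mul hq hq) hq
      omega
    have hu1 : (u ^ p ^ n) ^ 2 ≠ 1 := fun h => hu (by
      rw [← unit_pow_cube K hn u, ← pow_mul, ← pow_mul, ← pow_mul]
      rw [← pow_mul] at h
      calc u ^ (p ^ n * (p ^ n * (p ^ n * 2))) = (u ^ (p ^ n * 2)) ^ (p ^ n * p ^ n) := by
            rw [← pow_mul]; congr 1; ring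
        _ = 1 := by rw [h, one_pow])
    have hu2 : ((u ^ p ^ n) ^ p ^ n) ^ 2 ≠ 1 := fun h => hu (by
      rw [← unit_pow_cube K hn u, ← pow_mul, ← pow_mul, ← pow_mul]
      rw [← pow_mul, ← pow_mul] at h
      calc u ^ (p ^ n * (p ^ n * (p ^ n * 2))) = (u ^ (p ^ n * (p ^ n * 2))) ^ (p ^ n) := by
            rw [← pow_mul]; congr 1; ring
        _ = 1 := by rw [h, one_pow])
    obtain ⟨e0, e1, e2, e3⟩ := piD4_vals
    have hfix : (coreD4 K).R.torus (fun j => [u, 1, u ^ p ^ n, (u ^ p ^ n) ^ p ^ n].getD j.val 1) ∈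
        twistedD4 K (p ^ n) := by
      refine fixTorus_leD4 K hn _ (mem_fixTorus.2 fun j => ?_)
      rcases nodeD4_cases j with rfl | rfl | rfl | rfl <;>
        simp only [e0, e1, e2, e3] <;> simp [nodeD4, unit_pow_cube K hn]
    obtain ⟨a, b, ha, hb, hterms, hne, hnn, ⟨a1, a2, a3⟩, b1, b2, b3⟩ := d4_chain
    obtain ⟨hc, c1, c2, c3⟩ := d4_fixed_facts
    have fa := fixedRootD4 K (p := p) (n := n) a.isLt a1 a2 a3
    have fb := fixedRootD4 K (p := p) (n := n) b.isLt b1 b2 b3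
    have fc := fixedRootD4 K (p := p) (n := n) hc c1 c2 c3
    have hlong := g.long_le_commutator fc fa hne hnn (neg_one_pow_expChar p n) hterms
    have hw : ∀ i, g.wJ i = reflDataD4.wordPerm (d4TwistWord i) := fun i => g.wJ_eq i
      ((reflDataD4.weylSub _).list_prod_mem fun x hx => by
        obtain ⟨j, hj, rfl⟩ := List.mem_map.1 hx
        exact reflDataD4.sPerm_mem_sub (d4_word_mem i j hj)) (d4_word_neg i)
    fin_cases i
    · show (frobD4 K p n).fixU (inRoots (coreD4 K).R (orbD4.J 0)) ≤ _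
      refine g.fixU_le_commutator 0 hfix fun r hr => ?_
      have hr12 : r < chevD4.nroots := hr.1.1
      have hr' : r ∈ rootsD4 0 := by
        have : r ∈ inRoots (coreD4 K).R (nodesD4 0) := hr
        rwa [inD4] at this
      have hv := d4_cartan_vals ⟨r, hr12⟩ hr'
      simp only [List.mem_cons, Prod.mk.injEq, List.not_mem_nil, or_false] at hv
      rw [(coreD4 K).R.torusChar_root _ hr12, prod_nodeD4]
      rcases hv with ⟨v0, v1, v2⟩ | ⟨v0, v1, v2⟩ | ⟨v0, v1, v2⟩ <;>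
        simp [nodeD4, v0, v1, v2, zpow_ofNat, hu, hu1, hu2]
    · show (frobD4 K p n).fixU (inRoots (coreD4 K).R (nodesD4 1)) ≤ _
      intro x hx
      rw [inD4] at hx
      obtain ⟨t, ht, rfl⟩ := Gens.fixU_single (a := ⟨d4p2, hc⟩) fc
        (show (coreD4 K).R.IsClosed (listSet (rootsD4 1)) from inD4 K 1 ▸ inRoots_closed _ _) hx
      exact g.pull_commutator 0 fc fa (by rw [hw]; exact ha)
        (g.pull_commutator 1 fa fb (by rw [hw]; exact hb) hlong) t ht

theorem isSimpleD4 :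
    IsSimpleGroup ↥(twistedD4 K (p ^ n)) ∧ ¬ IsMulCommutative ↥(twistedD4 K (p ^ n)) :=
  (gensD4 K hn hq).isSimple (perfectD4Twisted K hn hq) (core_eq_botD4 K hn hq)
    ((gensD4 K hn hq).conn_of_words d4TwistWord d4_word_mem d4_word_neg d4_conn)

end CfsgLib.Twisted
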