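import Cfsg.Agent.Lib.TwistedStr.Weyl
import Cfsg.Agent.Lib.Twisted.TypeE6

/-! The twisted Weyl group of type ²E₆ and its Poincaré polynomial. -/

set_option autoImplicit false

namespace CfsgLib.Twisted

open Cfsg.Lie CfsgLib.ChevStr

/-- Words for the longest elements of the orbits. -/
def e6TwistWord : Fin 4 → List (Fin chevE6.rank)
  | 0 => [⟨0, by decide⟩, ⟨5, by decide⟩]
  | 1 => [⟨2, by decide⟩, ⟨4, by decide⟩]
  | 2 => [⟨3, by decide⟩]
  | 3 => [⟨1, by decide⟩]

/-- The lengths and words of the generators. -/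
def e6TwistWords : List (ℕ × List ℕ) := [(2, [0, 5]), (2, [2, 4]), (1, [3]), (1, [1])]

theorem e6_rho_neg : ∀ r : Fin chevE6.nroots, chevE6.IsNegRoot r → chevE6.IsNegRoot (rhoE6 r) := by
  decide +kernel

theorem e6_word_mem : ∀ i, ∀ j ∈ e6TwistWord i, j ∈ nodesE6 i := by decide +kernel

theorem e6_word_neg : ∀ i, ∀ j ∈ nodesE6 i, chevE6.IsNegRoot
    (reflDataE6.wordPerm (e6TwistWord i) ⟨chevE6.simple j.val, rootDataE6.simple_lt j⟩) := by
  decide +kernel

theorem e6_word_comm : ∀ i, ∀ r, rhoE6 (reflDataE6.wordPerm (e6TwistWord i) r) =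
    reflDataE6.wordPerm (e6TwistWord i) (rhoE6 r) := by
  decide +kernel

theorem e6_word_spec : e6TwistWords = (List.finRange 4).map fun i =>
    ((Finset.univ.filter fun s : Fin chevE6.nroots => chevE6.IsPosRoot s.val ∧
      chevE6.IsNegRoot (reflDataE6.wordPerm (e6TwistWord i) s)).card,
        (e6TwistWord i).map fun j : Fin chevE6.rank => j.val) := by
  decide +kernel

theorem e6_counts : twistCounts chevE6 e6TwistWords 36 =
    [1, 2, 4, 6, 9, 13, 17, 22, 26, 32, 37, 43, 47, 51, 55, 58, 61, 61, 62, 61, 61, 58, 55, 51, 47, 43, 37, 32, 26, 22, 17, 13, 9, 6, 4, 2, 1] := by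
  decide +kernel

theorem sum_twistSetE6 (f : ℕ → ℕ) :
    ∑ w ∈ twistSet reflDataE6 rhoE6, f (reflDataE6.invSet w).card =
      ∑ m ∈ Finset.range 37, ([1, 2, 4, 6, 9, 13, 17, 22, 26, 32, 37, 43, 47, 51, 55, 58, 61, 61, 62, 61, 61, 58, 55, 51, 47, 43, 37, 32, 26, 22, 17, 13, 9, 6, 4, 2, 1] : List ℕ).getD m 0 * f m := by
  rw [← e6_counts]
  refine sum_twistSet reflDataE6 orbE6 e6_rho_neg e6TwistWord
    (fun i => ⟨e6_word_mem i, e6_word_neg i, e6_word_comm i⟩) (List.finRange 4) List.mem_finRange _ ?_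
    (by decide +kernel) f
  rw [e6_word_spec]
  refine List.map_congr_left fun i _ => ?_
  congr 2

end CfsgLib.Twisted
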