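import Cfsg.Agent.Lib.TwistedStr.OrbitTorus
import Cfsg.Agent.Lib.TwistedStr.WeylE6
import Cfsg.Agent.Lib.ChevStr.Orders

/-! The torus and the order of ²E₆. -/

set_option autoImplicit false

namespace CfsgLib.Twisted

open Cfsg.Lie CfsgLib.ChevStr
open scoped MatrixGroups

/-- The fundamental root with a given number. -/
def nodeE6 (k : ℕ) (h : k < 6 := by omega) : Fin chevE6.rank := ⟨k, h⟩

/-- The permutation of the fundamental roots. -/
def piE6 : Equiv.Perm (Fin chevE6.rank) where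
  toFun j := [nodeE6 5, nodeE6 1, nodeE6 4, nodeE6 3, nodeE6 2, nodeE6 0].getD j.val j
  invFun j := [nodeE6 5, nodeE6 1, nodeE6 4, nodeE6 3, nodeE6 2, nodeE6 0].getD j.val j
  left_inv := by unfold Function.LeftInverse; decide +kernel
  right_inv := by unfold Function.RightInverse Function.LeftInverse; decide +kernel

theorem piE6_root : ∀ j : Fin chevE6.rank,
    (rhoE6 ⟨chevE6.simple j.val, rootDataE6.simple_lt j⟩ : ℕ) = chevE6.simple (piE6 j).val := by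
  decide +kernel

theorem piE6_sq : ∀ j, piE6 (piE6 j) = j := by decide +kernel

theorem piE6_vals : piE6 (nodeE6 0) = nodeE6 5 ∧ piE6 (nodeE6 1) = nodeE6 1 ∧
    piE6 (nodeE6 2) = nodeE6 4 ∧ piE6 (nodeE6 3) = nodeE6 3 ∧ piE6 (nodeE6 4) = nodeE6 2 ∧
    piE6 (nodeE6 5) = nodeE6 0 := by decide +kernel

theorem nodeE6_cases : ∀ j : Fin chevE6.rank, j = nodeE6 0 ∨ j = nodeE6 1 ∨ j = nodeE6 2 ∨
    j = nodeE6 3 ∨ j = nodeE6 4 ∨ j = nodeE6 5 := by decide +kernel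

theorem prod_nodeE6 {M : Type*} [CommMonoid M] (f : Fin chevE6.rank → M) :
    ∏ j, f j = f (nodeE6 0) * f (nodeE6 1) * f (nodeE6 2) * f (nodeE6 3) * f (nodeE6 4) * f (nodeE6 5) :=
  Fin.prod_univ_six f

theorem e6_simples : chevE6.simple 0 = e6p1 ∧ chevE6.simple 1 = e6p2 ∧ chevE6.simple 2 = e6p3 ∧
    chevE6.simple 3 = e6p4 ∧ chevE6.simple 4 = e6p5 ∧ chevE6.simple 5 = e6p6 ∧
    chevE6.neg e6p1 = e6m1 ∧ chevE6.neg e6p2 = e6m2 ∧ chevE6.neg e6p3 = e6m3 ∧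
    chevE6.neg e6p4 = e6m4 ∧ chevE6.neg e6p5 = e6m5 ∧ chevE6.neg e6p6 = e6m6 := by decide +kernel

theorem e6_commPairs : CommPair chevE6 (chevE6.simple 0) (chevE6.simple 5) ∧
    CommPair chevE6 (chevE6.simple 2) (chevE6.simple 4) := by
  unfold CommPair
  decide +kernel

/-- Three times the inverse Cartan matrix. -/
def invE6 : List (List ℤ) := [[4, 3, 5, 6, 4, 2], [3, 6, 6, 9, 6, 3], [5, 6, 10, 12, 8, 4],
  [6, 9, 12, 18, 12, 6], [4, 6, 8, 12, 10, 5], [2, 3, 4, 6, 5, 4]]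

theorem invE6_spec : ∀ i j : Fin chevE6.rank,
    ∑ a : Fin chevE6.rank, tableEnt invE6 i.val a.val * chevE6.cartan j.val (chevE6.simple a.val) =
      if i = j then ((3 : ℕ) : ℤ) else 0 := by decide +kernel

/-- The Cartan matrix. -/
def cartE6 : List (List ℤ) := [[2, 0, -1, 0, 0, 0], [0, 2, 0, -1, 0, 0], [-1, 0, 2, -1, 0, 0],
  [0, -1, -1, 2, -1, 0], [0, 0, 0, -1, 2, -1], [0, 0, 0, 0, -1, 2]]

theorem cartE6_spec : ∀ i j : Fin chevE6.rank,
    chevE6.cartan j.val (chevE6.simple i.val) = tableEnt cartE6 i.val j.val := by decide +kernel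

variable (K : Type*) [Field K] [Fintype K] {p n : ℕ} [ExpChar K p]
  (hn : Fintype.card K = (p ^ n) * (p ^ n))

omit [Fintype K] in
theorem torusActE6 : TorusAct (frobE6 K p n) piE6 (fun _ => p ^ n) :=
  ⟨piE6_root, fun _ => rfl⟩

omit [ExpChar K p] in
theorem fixE6_eq {c : Fin chevE6.rank → Kˣ} (h : ∀ j, c (piE6 j) = c j ^ p ^ n) :
    c (nodeE6 5) = c (nodeE6 0) ^ p ^ n ∧ c (nodeE6 4) = c (nodeE6 2) ^ p ^ n ∧
      c (nodeE6 3) ^ p ^ n = c (nodeE6 3) ∧ c (nodeE6 1) ^ p ^ n = c (nodeE6 1) := by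
  obtain ⟨e0, e1, e2, e3, -⟩ := piE6_vals
  have h0 := h (nodeE6 0); have h1 := h (nodeE6 1); have h2 := h (nodeE6 2); have h3 := h (nodeE6 3)
  rw [e0] at h0; rw [e1] at h1; rw [e2] at h2; rw [e3] at h3
  exact ⟨h0, h2, h3.symm, h1.symm⟩

theorem fixTorus_leE6 : ∀ c ∈ fixTorus (F := K) piE6 (fun _ => p ^ n),
    (coreE6 K).R.torus c ∈ twistedE6 K (p ^ n) := by
  intro c hc
  obtain ⟨h5, h4, h3, h1⟩ := fixE6_eq K (mem_fixTorus.1 hc)
  have hq : (-1 : K) ^ p ^ n = -1 := neg_one_pow_expChar p n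
  obtain ⟨s0, s1, s2, s3, s4, s5, m0, m1, m2, m3, m4, m5⟩ := e6_simples
  obtain ⟨k05, k24⟩ := e6_commPairs
  have hc' : c = Pi.mulSingle (nodeE6 0) (c (nodeE6 0)) * Pi.mulSingle (nodeE6 5) (c (nodeE6 0) ^ p ^ n) *
      (Pi.mulSingle (nodeE6 2) (c (nodeE6 2)) * Pi.mulSingle (nodeE6 4) (c (nodeE6 2) ^ p ^ n)) *
      Pi.mulSingle (nodeE6 3) (c (nodeE6 3)) * Pi.mulSingle (nodeE6 1) (c (nodeE6 1)) := by
    funext j
    rcases nodeE6_cases j with rfl | rfl | rfl | rfl | rfl | rfl <;>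
      simp [h5, h4, Pi.mulSingle_apply] <;> simp [nodeE6, Fin.ext_iff]
  rw [hc', map_mul, map_mul, map_mul, map_mul, map_mul]
  have gen : ∀ a b : ℕ, (a, b) ∈ [(e6p1, e6p6), (e6m1, e6m6), (e6p3, e6p5), (e6m3, e6m5)] → ∀ t : K,
      (coreE6 K).xGL a t * (coreE6 K).xGL b (t ^ p ^ n) ∈ twistedE6 K (p ^ n) := fun a b hab t => by
    have h := (coreE6 K).wordGL_mem_gen (W := e6Words K (p ^ n)) (Or.inr ⟨t, (a, b), hab, rfl⟩)
    simp only [ChevCore.wordGL_cons, ChevCore.wordGL_nil, mul_one] at h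
    exact h
  have gen1 : ∀ a : ℕ, a ∈ [e6p2, e6m2, e6p4, e6m4] → ∀ t : K, t ^ p ^ n = t →
      (coreE6 K).xGL a t ∈ twistedE6 K (p ^ n) := fun a ha t ht => by
    have h := (coreE6 K).wordGL_mem_gen (W := e6Words K (p ^ n)) (Or.inl ⟨t, ht, a, ha, rfl⟩)
    simp only [ChevCore.wordGL_cons, ChevCore.wordGL_nil, mul_one] at h
    exact h
  refine mul_mem (mul_mem (mul_mem
    (torusPair_mem (coreE6 K) (nodeE6 0) (nodeE6 5) k05 hq (fun t => ?_) _)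
    (torusPair_mem (coreE6 K) (nodeE6 2) (nodeE6 4) k24 hq (fun t => ?_) _))
    (torusSingle_mem (coreE6 K) (nodeE6 3) hq (fun t ht => ?_) _ h3))
    (torusSingle_mem (coreE6 K) (nodeE6 1) hq (fun t ht => ?_) _ h1)
  · simp only [nodeE6, s0, s5, m0, m5]
    exact ⟨gen _ _ (by simp) t, gen _ _ (by simp) t⟩
  · simp only [nodeE6, s2, s4, m2, m4]
    exact ⟨gen _ _ (by simp) t, gen _ _ (by simp) t⟩
  · simp only [nodeE6, s3, m3]
    exact ⟨gen1 _ (by simp) t ht, gen1 _ (by simp) t ht⟩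
  · simp only [nodeE6, s1, m1]
    exact ⟨gen1 _ (by simp) t ht, gen1 _ (by simp) t ht⟩

include hn

omit [ExpChar K p] in
theorem unit_pow_sq (u : Kˣ) : (u ^ p ^ n) ^ p ^ n = u := by
  refine Units.ext ?_
  rw [← pow_mul, Units.val_pow_eq_pow_val, ← hn, FiniteField.pow_card]

theorem diag_infE6 (hq : 2 ≤ p ^ n) : chevE6.diagonalSubgroup K ⊓ twistedE6 K (p ^ n) =
    (fixTorus piE6 (fun _ => p ^ n)).map (coreE6 K).R.torus := by
  refine (gensE6 K hn hq).diag_inf_eq (torusActE6 K) (fixTorus_leE6 K) (k := 2) (fun c => ?_)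
    (m := 3) (by norm_num) (fun c hc => pow_eq_one_of_torus _ 3 invE6_spec hc)
  funext j
  conv_lhs => rw [← piE6_sq j]
  simp only [Function.iterate_succ_apply', Function.iterate_zero, id_eq, torusTwist_apply]
  exact unit_pow_sq K hn _

theorem card_kerE6 (hq : 2 ≤ p ^ n) :
    Nat.card {c : Fin chevE6.rank → Kˣ // (∀ j, c (piE6 j) = c j ^ p ^ n) ∧ (coreE6 K).R.torus c = 1} =
      Nat.gcd 3 (p ^ n + 1) := by
  classical
  obtain ⟨e0, e1, e2, e3, e4, e5⟩ := piE6_vals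
  have key : ∀ c : Fin chevE6.rank → Kˣ, (∀ j, c (piE6 j) = c j ^ p ^ n) →
      (coreE6 K).R.torus c = 1 → c (nodeE6 0) ^ Nat.gcd 3 (p ^ n + 1) = 1 ∧
      c (nodeE6 1) = 1 ∧ c (nodeE6 2) = c (nodeE6 0) ^ 2 ∧ c (nodeE6 3) = 1 ∧
      c (nodeE6 4) = c (nodeE6 0) ∧ c (nodeE6 5) = c (nodeE6 0) ^ 2 := by
    intro c hc ht
    have h3 : ∀ j, c j ^ 3 = 1 := fun j => congrFun (pow_eq_one_of_torus _ 3 invE6_spec ht) j
    have row : ∀ i : Fin chevE6.rank, ∏ j, c j ^ tableEnt cartE6 i.val j.val = 1 := fun i => by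
      have h := congrFun (((coreE6 K).torus_eq_one_iff c).1 ht) i
      simp only [monMap, cartE6_spec] at h
      exact h
    have r0 := row (nodeE6 0); have r1 := row (nodeE6 1); have r2 := row (nodeE6 2)
    have r3 := row (nodeE6 3); have r5 := row (nodeE6 5)
    simp only [prod_nodeE6] at r0 r1 r2 r3 r5
    simp [nodeE6, tableEnt, cartE6] at r0 r1 r2 r3 r5
    have a2 : c (nodeE6 2) = c (nodeE6 0) ^ 2 := (mul_inv_eq_one.1 r0).symm
    have a3 : c (nodeE6 3) = 1 := by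
      have e : c (nodeE6 3) = (c (nodeE6 0))⁻¹ * c (nodeE6 2) ^ 2 := (mul_inv_eq_one.1 r2).symm
      rw [e, a2, ← pow_mul, pow_succ (c (nodeE6 0)) 3, h3, one_mul, inv_mul_cancel]
    have a1 : c (nodeE6 1) = 1 := by
      have e : c (nodeE6 1) ^ 2 = c (nodeE6 3) := mul_inv_eq_one.1 r1
      rw [a3] at e
      have := h3 (nodeE6 1)
      rwa [pow_succ, e, one_mul] at this
    have a4 : c (nodeE6 4) = c (nodeE6 5) ^ 2 := (inv_mul_eq_one.1 r5)
    have a5 : c (nodeE6 5) = c (nodeE6 0) ^ 2 := by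
      have e : (c (nodeE6 1))⁻¹ * (c (nodeE6 2))⁻¹ * c (nodeE6 3) ^ 2 * (c (nodeE6 4))⁻¹ = 1 := r3
      rw [a1, a3, a2, a4] at e
      simp only [inv_one, one_mul, one_pow, mul_one] at e
      rw [← mul_inv_rev, inv_eq_one] at e
      have e5 : c (nodeE6 5) ^ 2 = c (nodeE6 0) := by
        rw [eq_inv_of_mul_eq_one_left e]
        refine inv_eq_of_mul_eq_one_right ?_
        rw [← pow_succ, h3]
      calc c (nodeE6 5) = (c (nodeE6 5) ^ 2) ^ 2 := by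
            rw [← pow_mul, pow_succ, h3, one_mul]
        _ = _ := by rw [e5]
    refine ⟨pow_gcd_eq_one.2 ⟨h3 _, ?_⟩, a1, a2, a3, ?_, a5⟩
    · have h5 := (fixE6_eq K hc).1
      rw [a5] at h5
      rw [pow_succ, ← h5, ← pow_succ]
      exact h3 _
    · rw [a4, a5, ← pow_mul, pow_succ, h3, one_mul]
  let invFun : Kˣ → Fin chevE6.rank → Kˣ := fun z j => [z, 1, z ^ 2, 1, z, z ^ 2].getD j.val 1
  have hinv : ∀ z : (powMonoidHom (Nat.gcd 3 (p ^ n + 1)) : Kˣ →* Kˣ).ker,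
      (∀ j, invFun z (piE6 j) = invFun z j ^ p ^ n) ∧ (coreE6 K).R.torus (invFun z) = 1 := by
    rintro ⟨z, hz⟩
    rw [MonoidHom.mem_ker, powMonoidHom_apply] at hz
    obtain ⟨a, ha⟩ := Nat.gcd_dvd_left 3 (p ^ n + 1)
    obtain ⟨b, hb⟩ := Nat.gcd_dvd_right 3 (p ^ n + 1)
    have z3 : z ^ 3 = 1 := by rw [ha, pow_mul, hz, one_pow]
    have zq : z ^ p ^ n = z ^ 2 := by
      refine mul_right_cancel (b := z) ?_
      rw [← pow_succ, ← pow_succ, hb, pow_mul, hz, one_pow, z3]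
    have zq2 : (z ^ 2) ^ p ^ n = z := by
      rw [← pow_mul, mul_comm, pow_mul, zq, ← pow_mul, pow_succ, z3, one_mul]
    refine ⟨fun j => ?_, ((coreE6 K).torus_eq_one_iff _).2 (funext fun i => ?_)⟩
    · rcases nodeE6_cases j with rfl | rfl | rfl | rfl | rfl | rfl <;>
        simp only [e0, e1, e2, e3, e4, e5] <;> simp [invFun, nodeE6, zq, zq2]
    · simp only [monMap, cartE6_spec, prod_nodeE6]
      have zi : z⁻¹ = z ^ 2 := inv_eq_of_mul_eq_one_right (by rw [← pow_succ', z3])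
      rcases nodeE6_cases i with rfl | rfl | rfl | rfl | rfl | rfl <;>
        simp [invFun, nodeE6, tableEnt, cartE6, ← inv_pow, zi] <;>
        simp only [← pow_mul, ← pow_succ, ← pow_succ', ← pow_add] <;>
        simp [pow_eq_pow_mod _ z3]
  rw [Nat.card_congr (⟨fun c => ⟨c.1 (nodeE6 0), MonoidHom.mem_ker.2 (key c.1 c.2.1 c.2.2).1⟩,
    fun z => ⟨invFun z, hinv z⟩, fun c => Subtype.ext (funext fun j => ?_),
    fun z => by simp [invFun, nodeE6]⟩ :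
      {c : Fin chevE6.rank → Kˣ // (∀ j, c (piE6 j) = c j ^ p ^ n) ∧ (coreE6 K).R.torus c = 1} ≃
        (powMonoidHom (Nat.gcd 3 (p ^ n + 1)) : Kˣ →* Kˣ).ker),
    IsCyclic.card_powMonoidHom_ker, Nat.card_units, Nat.card_eq_fintype_card, hn]
  · refine Nat.gcd_eq_right ((Nat.gcd_dvd_right _ _).trans ⟨p ^ n - 1, ?_⟩)
    have := Nat.sq_sub_sq (p ^ n) 1
    simpa [sq] using this
  obtain ⟨-, h1, h2, h3, h4, h5⟩ := key c.1 c.2.1 c.2.2
  rcases nodeE6_cases j with rfl | rfl | rfl | rfl | rfl | rfl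
  · rfl
  · exact h1.symm
  · exact h2.symm
  · exact h3.symm
  · exact h4.symm
  · exact h5.symm

theorem card_H1E6 (hq : 2 ≤ p ^ n) :
    Nat.gcd 3 (p ^ n + 1) * Nat.card ↥(chevE6.diagonalSubgroup K ⊓ twistedE6 K (p ^ n)) =
      (p ^ n - 1) ^ 2 * (p ^ n * p ^ n - 1) ^ 2 := by
  classical
  rw [diag_infE6 K hn hq, ← card_kerE6 K hn hq, Gens.card_map_fixTorus (coreE6 K) piE6 (fun _ => p ^ n)]
  obtain ⟨e0, e1, e2, e3, e4, e5⟩ := piE6_vals
  have hmem : ∀ u : Kˣ, u ^ p ^ n = u → u ∈ (powMonoidHom (p ^ n - 1) : Kˣ →* Kˣ).ker := fun u hu => by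
    rw [MonoidHom.mem_ker, powMonoidHom_apply]
    refine mul_right_cancel (b := u) ?_
    rw [← pow_succ, Nat.sub_add_cancel (by omega), one_mul, hu]
  let toFun : {c : Fin chevE6.rank → Kˣ // ∀ j, c (piE6 j) = c j ^ p ^ n} →
      (Kˣ × Kˣ) × ((powMonoidHom (p ^ n - 1) : Kˣ →* Kˣ).ker × (powMonoidHom (p ^ n - 1) : Kˣ →* Kˣ).ker) :=
    fun c => ((c.1 (nodeE6 0), c.1 (nodeE6 2)), (⟨c.1 (nodeE6 3), hmem _ (fixE6_eq K c.2).2.2.1⟩,
      ⟨c.1 (nodeE6 1), hmem _ (fixE6_eq K c.2).2.2.2⟩))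
  let invFun : (Kˣ × Kˣ) × ((powMonoidHom (p ^ n - 1) : Kˣ →* Kˣ).ker × (powMonoidHom (p ^ n - 1) : Kˣ →* Kˣ).ker) →
      Fin chevE6.rank → Kˣ := fun x j =>
    [x.1.1, (x.2.2 : Kˣ), x.1.2, (x.2.1 : Kˣ), x.1.2 ^ p ^ n, x.1.1 ^ p ^ n].getD j.val 1
  have hfix : ∀ x j, invFun x (piE6 j) = invFun x j ^ p ^ n := by
    intro x j
    have hx : ∀ u : (powMonoidHom (p ^ n - 1) : Kˣ →* Kˣ).ker, (u : Kˣ) ^ p ^ n = u := fun u => by
      have := MonoidHom.mem_ker.1 u.2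
      rw [powMonoidHom_apply] at this
      calc (u : Kˣ) ^ p ^ n = (u : Kˣ) ^ (p ^ n - 1 + 1) := by rw [Nat.sub_add_cancel (by omega)]
        _ = u := by rw [pow_succ, this, one_mul]
    rcases nodeE6_cases j with rfl | rfl | rfl | rfl | rfl | rfl <;>
      simp only [e0, e1, e2, e3, e4, e5] <;> simp [invFun, nodeE6, hx, unit_pow_sq K hn]
  rw [Nat.card_congr (⟨toFun, fun x => ⟨invFun x, hfix x⟩, fun c => Subtype.ext (funext fun j => ?_),
    fun x => by simp [toFun, invFun, nodeE6]⟩ :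
      {c : Fin chevE6.rank → Kˣ // ∀ j, c (piE6 j) = c j ^ p ^ n} ≃
        (Kˣ × Kˣ) × ((powMonoidHom (p ^ n - 1) : Kˣ →* Kˣ).ker × (powMonoidHom (p ^ n - 1) : Kˣ →* Kˣ).ker)),
    Nat.card_prod, Nat.card_prod, Nat.card_prod, IsCyclic.card_powMonoidHom_ker, Nat.card_units,
    Nat.card_eq_fintype_card, hn, Nat.gcd_eq_right (by simpa [sq] using Nat.sub_dvd_pow_sub_pow (p ^ n) 1 2)]
  · ring
  obtain ⟨h5, h4, -, -⟩ := fixE6_eq K c.2
  rcases nodeE6_cases j with rfl | rfl | rfl | rfl | rfl | rfl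
  · rfl
  · rfl
  · rfl
  · rfl
  · exact h4.symm
  · exact h5.symm

theorem card_twistedE6 (hq : 2 ≤ p ^ n) :
    Nat.gcd 3 (p ^ n + 1) * Nat.card ↥(twistedE6 K (p ^ n)) =
      (p ^ n) ^ 36 * ((p ^ n) ^ 2 - 1) * ((p ^ n) ^ 5 + 1) * ((p ^ n) ^ 6 - 1) * ((p ^ n) ^ 8 - 1) *
        ((p ^ n) ^ 9 + 1) * ((p ^ n) ^ 12 - 1) := by
  have g := gensE6 K hn hq
  have hN : Set.ncard {r | chevE6.IsPosRoot r} = 36 := ncard_isPosRoot (by decide +kernel)
  have hU : Nat.card ↥(chevE6.posUnipotent K ⊓ twistedE6 K (p ^ n)) = (p ^ n) ^ 36 := by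
    refine Nat.pow_left_injective (show 2 ≠ 0 by norm_num) ?_
    show _ ^ 2 = _ ^ 2
    rw [g.card_U1, hN, Nat.card_eq_fintype_card, hn]
    ring
  rw [g.card_G1 (q := p ^ n) (by rw [Nat.card_eq_fintype_card, hn]; ring) (by norm_num), hU,
    ← mul_assoc, mul_left_comm, card_H1E6 K hn hq]
  rw [show ∑ w ∈ twistSet (coreE6 K).hR (frobE6 K p n).ρ, (p ^ n) ^ ((coreE6 K).hR.invSet w).card =
    ∑ m ∈ Finset.range 37, _ from sum_twistSetE6 ((p ^ n) ^ ·)]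
  clear hU g hn
  generalize p ^ n = Q at hq ⊢
  have h1 : ∀ k, 1 ≤ Q ^ k := fun k => Nat.one_le_pow _ _ (by omega)
  refine Nat.cast_injective (R := ℤ) ?_
  simp only [Finset.sum_range_succ, Finset.sum_range_zero, List.getD_cons_succ, List.getD_cons_zero]
  push_cast [Nat.cast_sub (h1 _), Nat.cast_sub (show 1 ≤ Q * Q by nlinarith),
    Nat.cast_sub (show 1 ≤ Q by omega)]
  ring

end CfsgLib.Twisted
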