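import Cfsg.Agent.Lib.TwistedStr.Structure
import Cfsg.Agent.Lib.TwistedStr.TorusE6

/-! The core, perfectness and simplicity of ²E₆. -/

set_option autoImplicit false

namespace CfsgLib.Twisted

open Cfsg.Lie CfsgLib.ChevStr
open scoped MatrixGroups

theorem e6_pos_facts : ∀ rs ∈ [(e6p6, e6p1), (e6p5, e6p3)],
    chevE6.IsPosRoot rs.1 ∧ rs.1 ≠ rs.2 := by decide +kernel

theorem e6_neg_facts : ∀ i, ∀ r ∈ [[e6m1, e6m6], [e6m3, e6m5], [e6m4], [e6m2]].getD (i : Fin 4).val [],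
    chevE6.IsNegRoot r ∧ SuppIn rootDataE6 (nodesE6 i) r := by decide +kernel

theorem e6_node_simples : chevE6.simple (nodeE6 0).val = e6p1 ∧ chevE6.simple (nodeE6 2).val = e6p3 ∧
    chevE6.simple (nodeE6 3).val = e6p4 ∧ chevE6.simple (nodeE6 1).val = e6p2 ∧
    nodeE6 0 ∈ nodesE6 0 ∧ nodeE6 2 ∈ nodesE6 1 ∧ nodeE6 3 ∈ nodesE6 2 ∧ nodeE6 1 ∈ nodesE6 3 := by
  decide +kernel

/-- The Cartan integers used for perfectness. -/
theorem e6_cartan_vals : ∀ r : Fin chevE6.nroots,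
    ((r : ℕ) ∈ rootsE6 0 → (chevE6.cartan 2 r.val, chevE6.cartan 4 r.val) ∈ [((-1 : ℤ), (0 : ℤ)), (0, -1)]) ∧
    ((r : ℕ) ∈ rootsE6 1 → (chevE6.cartan 0 r.val, chevE6.cartan 5 r.val) ∈ [((-1 : ℤ), (0 : ℤ)), (0, -1)]) := by
  decide +kernel

theorem e6_chain : ∃ k : Fin chevE6.nroots,
    (∃ z ∈ [(1 : ℤ), -1], chevE6.commTerms e6p2 e6p4 = [((k : ℕ), z, 1, 1)]) ∧
      reflDataE6.wordPerm (e6TwistWord 3) ⟨e6p4, by decide⟩ = k ∧
      reflDataE6.wordPerm (e6TwistWord 2) ⟨e6p2, by decide⟩ = k ∧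
      chevE6.IsPosRoot k ∧ rhoE6 k = k ∧ e6Sym.sign k = 1 := by decide +kernel

theorem e6_fixed_facts : ∀ r ∈ [e6p2, e6p4],
    ∃ h : r < chevE6.nroots, chevE6.IsPosRoot r ∧ rhoE6 ⟨r, h⟩ = ⟨r, h⟩ ∧ e6Sym.sign r = 1 := by
  decide +kernel

theorem e6_conn : ∀ b : Fin 4 → Bool, (∃ i, b i = true) → (∃ k, b k = false) →
    ∃ i k, b i = true ∧ b k = false ∧ ¬ ∀ r, reflDataE6.wordPerm (e6TwistWord i)
      (reflDataE6.wordPerm (e6TwistWord k) r) = reflDataE6.wordPerm (e6TwistWord k)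
        (reflDataE6.wordPerm (e6TwistWord i) r) := by decide +kernel

variable (K : Type*) [Field K] [Fintype K] {p n : ℕ} [ExpChar K p]
  (hn : Fintype.card K = (p ^ n) * (p ^ n)) (hq : 2 ≤ p ^ n)

omit [Fintype K] in
theorem fixedRootE6 {r : ℕ} (h : r < chevE6.nroots) (hp : chevE6.IsPosRoot r)
    (hr : rhoE6 ⟨r, h⟩ = ⟨r, h⟩) (hs : e6Sym.sign r = 1) :
    Gens.FixedRoot (frobE6 K p n) (p ^ n) ⟨r, h⟩ :=
  ⟨hp, hr, rfl, by show ((e6Sym.sign r : ℤ) : K) = 1; rw [hs, Int.cast_one]⟩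

include hn hq

theorem core_eq_botE6 :
    ((chevE6.borelSubgroup K ⊓ twistedE6 K (p ^ n)).subgroupOf (twistedE6 K (p ^ n))).normalCore = ⊥ := by
  obtain ⟨s0, s1, s2, s3, n0, n1, n2, n3⟩ := e6_node_simples
  refine (gensE6 K hn hq).core_eq_bot fun i => ?_
  fin_cases i
  · refine ⟨nodeE6 0, n0, 1, one_ne_zero, (coreE6 K).wordGL [(e6p6, 1)],
      (coreE6 K).wordGL_mem_Ucl fun x hx => ?_, ?_⟩
    · rw [List.mem_singleton] at hx
      subst hx
      rw [s0]
      exact e6_pos_facts (e6p6, e6p1) (by simp)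
    · rw [s0]
      have h := (coreE6 K).wordGL_mem_gen (W := e6Words K (p ^ n)) (Or.inr ⟨1, (e6p1, e6p6), by simp, rfl⟩)
      rw [ChevCore.wordGL_cons] at h
      simp only [one_pow] at h
      exact h
  · refine ⟨nodeE6 2, n1, 1, one_ne_zero, (coreE6 K).wordGL [(e6p5, 1)],
      (coreE6 K).wordGL_mem_Ucl fun x hx => ?_, ?_⟩
    · rw [List.mem_singleton] at hx
      subst hx
      rw [s1]
      exact e6_pos_facts (e6p5, e6p3) (by simp)
    · rw [s1]
      have h := (coreE6 K).wordGL_mem_gen (W := e6Words K (p ^ n)) (Or.inr ⟨1, (e6p3, e6p5), by simp, rfl⟩)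
      rw [ChevCore.wordGL_cons] at h
      simp only [one_pow] at h
      exact h
  · refine ⟨nodeE6 3, n2, 1, one_ne_zero, 1, one_mem _, ?_⟩
    rw [s2]
    have h := (coreE6 K).wordGL_mem_gen (W := e6Words K (p ^ n)) (Or.inl ⟨1, one_pow _, e6p4, by simp, rfl⟩)
    rw [ChevCore.wordGL_cons, ChevCore.wordGL_nil] at h
    exact h
  · refine ⟨nodeE6 1, n3, 1, one_ne_zero, 1, one_mem _, ?_⟩
    rw [s3]
    have h := (coreE6 K).wordGL_mem_gen (W := e6Words K (p ^ n)) (Or.inl ⟨1, one_pow _, e6p2, by simp, rfl⟩)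
    rw [ChevCore.wordGL_cons, ChevCore.wordGL_nil] at h
    exact h

theorem perfectE6Twisted : commutator ↥(twistedE6 K (p ^ n)) = ⊤ := by
  have g := gensE6 K hn hq
  refine g.commutator_eq_top (W := e6Words K (p ^ n)) rfl ?_ fun i => ?_
  · have pos : ∀ i, ∀ r ∈ rootsE6 i, r ∈ inRoots (coreE6 K).R (nodesE6 i) := fun i r hr => by
      rw [inE6]; exact hr
    rintro w (⟨t, -, r, hr, rfl⟩ | ⟨t, rs, hrs, rfl⟩)
    · simp only [List.mem_cons, List.not_mem_nil, or_false] at hr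
      rcases hr with rfl | rfl | rfl | rfl
      · exact ⟨3, Or.inl fun x hx => pos 3 x.1 (by simp_all [rootsE6])⟩
      · exact ⟨3, Or.inr fun x hx => e6_neg_facts 3 x.1 (by simp_all)⟩
      · exact ⟨2, Or.inl fun x hx => pos 2 x.1 (by simp_all [rootsE6])⟩
      · exact ⟨2, Or.inr fun x hx => e6_neg_facts 2 x.1 (by simp_all)⟩
    · simp only [List.mem_cons, List.not_mem_nil, or_false] at hrs
      rcases hrs with rfl | rfl | rfl | rfl
      · exact ⟨0, Or.inl fun x hx => pos 0 x.1 (by rcases List.mem_pair.1 hx with rfl | rfl <;> simp [rootsE6])⟩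
      · exact ⟨0, Or.inr fun x hx => e6_neg_facts 0 x.1 (by rcases List.mem_pair.1 hx with rfl | rfl <;> simp)⟩
      · exact ⟨1, Or.inl fun x hx => pos 1 x.1 (by rcases List.mem_pair.1 hx with rfl | rfl <;> simp [rootsE6])⟩
      · exact ⟨1, Or.inr fun x hx => e6_neg_facts 1 x.1 (by rcases List.mem_pair.1 hx with rfl | rfl <;> simp)⟩
  · obtain ⟨u, hu⟩ : ∃ u : Kˣ, u ≠ 1 := by
      classical
      refine Fintype.exists_ne_of_one_lt_card ?_ 1
      rw [Fintype.card_units, hn]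
      have := Nat.mul_le_mul hq hq
      omega
    have hu' : u ^ p ^ n ≠ 1 := fun h => hu (by rw [← unit_pow_sq K hn u, h, one_pow])
    obtain ⟨e0, e1, e2, e3, e4, e5⟩ := piE6_vals
    have hfix : ∀ a b : Kˣ, (coreE6 K).R.torus
        (fun j => [a, 1, b, 1, b ^ p ^ n, a ^ p ^ n].getD j.val 1) ∈ twistedE6 K (p ^ n) := fun a b => by
      refine fixTorus_leE6 K _ (mem_fixTorus.2 fun j => ?_)
      rcases nodeE6_cases j with rfl | rfl | rfl | rfl | rfl | rfl <;>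
        simp only [e0, e1, e2, e3, e4, e5] <;> simp [nodeE6, unit_pow_sq K hn]
    have hchar : ∀ (a b : Kˣ) (r : ℕ), r < chevE6.nroots →
        (coreE6 K).R.torusChar (fun j => [a, 1, b, 1, b ^ p ^ n, a ^ p ^ n].getD j.val 1)
          ((coreE6 K).R.α r) = a ^ chevE6.cartan 0 r * b ^ chevE6.cartan 2 r *
            (b ^ p ^ n) ^ chevE6.cartan 4 r * (a ^ p ^ n) ^ chevE6.cartan 5 r := fun a b r hr => by
      rw [(coreE6 K).R.torusChar_root _ hr, prod_nodeE6]
      simp [nodeE6]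
    obtain ⟨k, hk, hk1, hk2, hk3, hk4, hk5⟩ := e6_chain
    obtain ⟨ha, a1, a2, a3⟩ := e6_fixed_facts e6p2 (by simp)
    obtain ⟨hb, b1, b2, b3⟩ := e6_fixed_facts e6p4 (by simp)
    have fa := fixedRootE6 K (p := p) (n := n) ha a1 a2 a3
    have fb := fixedRootE6 K (p := p) (n := n) hb b1 b2 b3
    have fk := fixedRootE6 K (p := p) (n := n) k.isLt hk3 hk4 hk5
    have hlong := g.long_le_commutator fa fb (show e6p4 ≠ e6p2 by decide)
      (show e6p4 ≠ chevE6.neg e6p2 by decide) (neg_one_pow_expChar p n) hk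
    have hw : ∀ i, g.wJ i = reflDataE6.wordPerm (e6TwistWord i) := fun i => g.wJ_eq i
      ((reflDataE6.weylSub _).list_prod_mem fun x hx => by
        obtain ⟨j, hj, rfl⟩ := List.mem_map.1 hx
        exact reflDataE6.sPerm_mem_sub (e6_word_mem i j hj)) (e6_word_neg i)
    fin_cases i
    · show (frobE6 K p n).fixU (inRoots (coreE6 K).R (orbE6.J 0)) ≤ _
      refine g.fixU_le_commutator 0 (hfix 1 u) fun r hr => ?_
      have hr12 : r < chevE6.nroots := hr.1.1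
      have hr' : r ∈ rootsE6 0 := by
        have : r ∈ inRoots (coreE6 K).R (nodesE6 0) := hr
        rwa [inE6] at this
      have hc := (e6_cartan_vals ⟨r, hr12⟩).1 hr'
      simp only [List.mem_cons, Prod.mk.injEq, List.not_mem_nil, or_false] at hc
      rw [hchar _ _ r hr12]
      rcases hc with ⟨c0, c1⟩ | ⟨c0, c1⟩ <;> simp [c0, c1, hu, hu']
    · show (frobE6 K p n).fixU (inRoots (coreE6 K).R (orbE6.J 1)) ≤ _
      refine g.fixU_le_commutator 1 (hfix u 1) fun r hr => ?_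
      have hr12 : r < chevE6.nroots := hr.1.1
      have hr' : r ∈ rootsE6 1 := by
        have : r ∈ inRoots (coreE6 K).R (nodesE6 1) := hr
        rwa [inE6] at this
      have hc := (e6_cartan_vals ⟨r, hr12⟩).2 hr'
      simp only [List.mem_cons, Prod.mk.injEq, List.not_mem_nil, or_false] at hc
      rw [hchar _ _ r hr12]
      rcases hc with ⟨c0, c1⟩ | ⟨c0, c1⟩ <;> simp [c0, c1, hu, hu']
    · show (frobE6 K p n).fixU (inRoots (coreE6 K).R (nodesE6 2)) ≤ _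
      intro x hx
      rw [inE6] at hx
      obtain ⟨t, ht, rfl⟩ := Gens.fixU_single (a := ⟨e6p4, hb⟩) fb
        (show (coreE6 K).R.IsClosed (listSet (rootsE6 2)) from inE6 K 2 ▸ inRoots_closed _ _) hx
      exact g.pull_commutator 3 fb fk (by rw [hw]; exact hk1) hlong t ht
    · show (frobE6 K p n).fixU (inRoots (coreE6 K).R (nodesE6 3)) ≤ _
      intro x hx
      rw [inE6] at hx
      obtain ⟨t, ht, rfl⟩ := Gens.fixU_single (a := ⟨e6p2, ha⟩) fa
        (show (coreE6 K).R.IsClosed (listSet (rootsE6 3)) from inE6 K 3 ▸ inRoots_closed _ _) hx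
      exact g.pull_commutator 2 fa fk (by rw [hw]; exact hk2) hlong t ht

theorem isSimpleE6 :
    IsSimpleGroup ↥(twistedE6 K (p ^ n)) ∧ ¬ IsMulCommutative ↥(twistedE6 K (p ^ n)) :=
  (gensE6 K hn hq).isSimple (perfectE6Twisted K hn hq) (core_eq_botE6 K hn hq)
    ((gensE6 K hn hq).conn_of_words e6TwistWord e6_word_mem e6_word_neg e6_conn)

end CfsgLib.Twisted
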