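import Cfsg.Agent.Lib.TwistedStr.Structure
import Cfsg.Agent.Lib.SmallRee.Torus

/-! The core, perfectness and simplicity of ²G₂. -/

set_option autoImplicit false

namespace CfsgLib.Twisted

open Cfsg.Lie CfsgLib.ChevStr
open scoped MatrixGroups

theorem g2_rootList_cases : ∀ r : Fin chevG2.nroots, (r : ℕ) ∈ rootsG2 →
    (chevG2.cartan 0 r.val, chevG2.cartan 1 r.val) ∈
      [((2 : ℤ), (-1 : ℤ)), (-3, 2), (-1, 1), (1, 0), (3, -1), (0, 1)] := by decide +kernel

theorem g2_pos_facts : ∀ r ∈ [g2b, g2ab, g2aab, g2aaab, g2aaabb],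
    chevG2.IsPosRoot r ∧ r ≠ chevG2.simple 0 := by decide +kernel

theorem g2_neg_facts : ∀ r ∈ [g2ma, g2mb, g2mab, g2maab, g2maaab, g2maaabb],
    chevG2.IsNegRoot r ∧ SuppIn rootDataG2 (nodesG2 0) r := by decide +kernel

variable (K : Type*) [Field K] [Fintype K] [CharP K 3] {m : ℕ}
  (hn : Fintype.card K = 3 * (3 ^ m * 3 ^ m))

include hn

theorem core_eq_botG2 :
    ((chevG2.borelSubgroup K ⊓ twistedG2 K (3 ^ m)).subgroupOf (twistedG2 K (3 ^ m))).normalCore = ⊥ := by
  refine (gensG2 K hn).core_eq_bot fun i => ⟨⟨0, by decide⟩, Finset.mem_univ _, 1, one_ne_zero,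
    (coreG2 K).wordGL ((reeWordU (3 ^ m) (1 : K) 0 0).tail), (coreG2 K).wordGL_mem_Ucl fun p hp => ?_, ?_⟩
  · simp only [reeWordU, List.tail_cons, List.mem_cons, List.not_mem_nil, or_false] at hp
    show chevG2.IsPosRoot p.1 ∧ p.1 ≠ chevG2.simple 0
    rcases hp with rfl | rfl | rfl | rfl | rfl <;> exact g2_pos_facts _ (by simp)
  · have h := (coreG2 K).wordGL_mem_gen (W := g2Words K (3 ^ m)) ⟨1, 0, 0, Or.inl rfl⟩
    rw [reeWordU, ChevCore.wordGL_cons, one_pow] at h
    rw [reeWordU, List.tail_cons, show chevG2.simple 0 = g2a by decide]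
    exact h

theorem perfectG2Twisted (hm : 1 ≤ m) : commutator ↥(twistedG2 K (3 ^ m)) = ⊤ := by
  classical
  have g := gensG2 K hn
  refine g.commutator_eq_top (W := g2Words K (3 ^ m)) rfl ?_ fun i => ?_
  · rintro w ⟨t, u, v, rfl | rfl⟩
    · refine ⟨0, Or.inl fun p hp => ?_⟩
      show p.1 ∈ inRoots (coreG2 K).R (nodesG2 0)
      rw [inG2]
      simp only [reeWordU, List.mem_cons, List.not_mem_nil, or_false] at hp
      rcases hp with rfl | rfl | rfl | rfl | rfl | rfl <;> simp [listSet, rootsG2]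
    · refine ⟨0, Or.inr fun p hp => g2_neg_facts p.1 ?_⟩
      rw [reeWordV_eq] at hp
      simp only [List.mem_cons, List.not_mem_nil, or_false] at hp
      rcases hp with rfl | rfl | rfl | rfl | rfl | rfl <;> simp
  · obtain ⟨l, hl⟩ := IsCyclic.exists_generator (α := Kˣ)
    have hord : orderOf l = Fintype.card K - 1 := by
      rw [orderOf_eq_card_of_forall_mem_zpowers hl, Nat.card_units, Nat.card_eq_fintype_card]
    set X := 3 ^ m with hX
    have hX3 : 3 ≤ X := Nat.le_self_pow (by omega) 3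
    refine g.fixU_le_commutator i (c := CfsgLib.SmallRee.tauVec K m l)
      (Subgroup.mem_inf.1 (CfsgLib.SmallRee.tau_mem_H1 K hn l)).2 fun r hr => ?_
    have hr12 : r < chevG2.nroots := hr.1.1
    have hr' : r ∈ rootsG2 := by
      have : r ∈ inRoots (coreG2 K).R (nodesG2 i) := hr
      rwa [inG2] at this
    have hval : (coreG2 K).R.torusChar (CfsgLib.SmallRee.tauVec K m l) ((coreG2 K).R.α r) =
        l ^ ((2 * (X : ℤ) + 1) * chevG2.cartan 0 r + (3 * (X : ℤ) + 2) * chevG2.cartan 1 r) := by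
      show CfsgLib.SmallRee.chr K _ r = _
      rw [CfsgLib.SmallRee.chr_eq K _ (show r < 12 from hr12)]
      simp only [CfsgLib.SmallRee.tauVec, MonoidHom.coe_mk, OneHom.coe_mk, if_true, Nat.one_ne_zero,
        if_false]
      rw [show (l ^ 3 ^ m) ^ 2 * l = l ^ ((2 * (X : ℤ) + 1)) by
          rw [← pow_mul, ← pow_succ, ← zpow_natCast, hX]; congr 1; push_cast; ring,
        show (l ^ 3 ^ m) ^ 3 * l ^ 2 = l ^ ((3 * (X : ℤ) + 2)) by
          rw [← pow_mul, ← pow_add, ← zpow_natCast, hX]; congr 1; push_cast; ring,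
        ← zpow_mul, ← zpow_mul, ← zpow_add]
    rw [hval]
    have key : ∀ k : ℕ, 0 < k → k ≤ 3 * X + 2 → l ^ (k : ℤ) ≠ 1 := fun k h1 h2 => by
      rw [zpow_natCast]
      refine pow_ne_one_of_lt_orderOf h1.ne' ?_
      rw [hord, hn]
      have h9 : 3 * X ≤ X * X := Nat.mul_le_mul_right X hX3
      omega
    have hc := g2_rootList_cases ⟨r, hr12⟩ hr'
    simp only [List.mem_cons, Prod.mk.injEq, List.not_mem_nil, or_false] at hc
    rcases hc with ⟨e0, e1⟩ | ⟨e0, e1⟩ | ⟨e0, e1⟩ | ⟨e0, e1⟩ | ⟨e0, e1⟩ | ⟨e0, e1⟩ <;> rw [e0, e1]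
    · convert key X (by omega) (by omega) using 2; push_cast; ring
    · convert key 1 (by omega) (by omega) using 2; push_cast; ring
    · convert key (X + 1) (by omega) (by omega) using 2; push_cast; ring
    · convert key (2 * X + 1) (by omega) (by omega) using 2; push_cast; ring
    · convert key (3 * X + 1) (by omega) (by omega) using 2; push_cast; ring
    · convert key (3 * X + 2) (by omega) (by omega) using 2; push_cast; ring

theorem isSimpleG2 (hm : 1 ≤ m) :
    IsSimpleGroup ↥(twistedG2 K (3 ^ m)) ∧ ¬ IsMulCommutative ↥(twistedG2 K (3 ^ m)) := by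
  refine (gensG2 K hn).isSimple (perfectG2Twisted K hn hm) (core_eq_botG2 K hn) fun J hne hne' => ?_
  exfalso
  obtain ⟨i, hi⟩ := hne
  obtain ⟨k, hk⟩ := hne'
  exact hk (Subsingleton.elim i k ▸ hi)

end CfsgLib.Twisted
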