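import Cfsg.Agent.Lib.Twisted.Orbits

/-!
The order of a twisted group: `|G1| = |U1| |H1| ∑_w q ^ l(w)`, the sum over the Weyl elements
commuting with the root permutation.
-/

set_option autoImplicit false

namespace CfsgLib.Twisted

open Cfsg.Lie CfsgLib.ChevStr
open scoped MatrixGroups

variable {D : ChevalleyDatum}

/-- The Weyl elements commuting with a root permutation. -/
noncomputable def twistSet {R : RootData D} (hR : ReflData R) (ρ : Equiv.Perm (Fin D.nroots)) :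
    Finset (Equiv.Perm (Fin D.nroots)) :=
  (Set.toFinite {w : Equiv.Perm (Fin D.nroots) | w ∈ hR.weyl ∧ Commute ρ w}).toFinset

theorem mem_twistSet {R : RootData D} {hR : ReflData R} {ρ w : Equiv.Perm (Fin D.nroots)} :
    w ∈ twistSet hR ρ ↔ w ∈ hR.weyl ∧ Commute ρ w := by
  simp [twistSet]

namespace Gens

variable {F : Type*} [Field F] {C : ChevCore D F} {φ : Frob C} {I : Type}
  {O : OrbitData C.R φ.ρ I} {G1 : Subgroup (GL D.Idx F)} {d : ℕ} (g : Gens φ O G1 d) [Fintype F]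

include g

/-- Every element of the twisted Weyl group has a representative in `G1`. -/
theorem exists_rep_twist {w : Equiv.Perm (Fin D.nroots)} (hw : w ∈ C.hR.weyl) (hc : Commute φ.ρ w) :
    ∃ n, n ∈ D.monomialSubgroup F ∧ n ∈ G1 ∧ C.Moves n w := by
  induction hn : (C.hR.invSet w).card using Nat.strong_induction_on generalizing w with
  | _ k ih =>
    by_cases h0 : C.hR.invSet w = ∅
    · rw [C.hR.eq_one_of_invSet_eq_empty hw h0]
      exact ⟨1, one_mem _, one_mem _, ChevCore.Acts.moves C C.acts_one⟩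
    obtain ⟨i, hneg⟩ := Gens.exists_orbit_neg (O := O) hw hc h0
    obtain ⟨hcard, hpos⟩ := g.all_neg_descent hw i hneg
    obtain ⟨n, h1, h2, h3⟩ := ih _ (by omega) (mul_mem hw (C.hR.weylSub_le _ (g.wJ_mem i)))
      (hc.mul_right (g.wJ_commute i)) rfl
    refine ⟨n * g.s i, mul_mem h1 (g.s_mem_N i), mul_mem h2 (g.s_mem i), ?_⟩
    have := ChevCore.Moves.mul C h3 (g.s_moves i)
    rwa [mul_assoc, g.wJ_mul_self, mul_one] at this

omit g [Fintype F] in
/-- The elements of `U` that `n` moves into `V` are those of `U_w`. -/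
theorem mem_invRoots_of_conj {n v : GL D.Idx F} (hn : n ∈ D.monomialSubgroup F)
    {w : Equiv.Perm (Fin D.nroots)} (hmv : C.Moves n w) (hv : v ∈ D.posUnipotent F)
    (hV : n * v * n⁻¹ ∈ D.negUnipotent F) : v ∈ C.Ucl (C.hR.invRoots w) := by
  obtain ⟨a, ha, u, hu, he⟩ := C.mul_borel_mem w hmv.1 n hn hmv v
    (le_sup_left (b := D.diagonalSubgroup F) hv)
  have h1 : a = n * v * n⁻¹ * (n * u * n⁻¹)⁻¹ := by
    calc a = a * n * u * (n * u)⁻¹ := by group
      _ = n * v * (n * u)⁻¹ := by rw [← he]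
      _ = _ := by group
  have h2 : a = 1 := (Subgroup.eq_bot_iff_forall _).1 C.borel_inf_negUnipotent a (Subgroup.mem_inf.2
    ⟨ha, h1 ▸ mul_mem hV (inv_mem (C.conj_invRoots_mem_neg hmv u hu))⟩)
  rw [h2, one_mul] at he
  exact mul_left_cancel he ▸ hu

/-- `|G1| = |U1| |H1| ∑_w |U_w|`, the sum over the twisted Weyl group. -/
theorem card_G1_of (N : Equiv.Perm (Fin D.nroots) → ℕ)
    (hfixcard : ∀ w ∈ twistSet C.hR φ.ρ, Nat.card ↥(φ.fixU (C.hR.invRoots w)) = N w) :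
    Nat.card G1 = Nat.card ↥(D.posUnipotent F ⊓ G1) * Nat.card ↥(D.diagonalSubgroup F ⊓ G1) *
      ∑ w ∈ twistSet C.hR φ.ρ, N w := by
  classical
  choose rep hrepN hrep1 hrep using fun w : twistSet C.hR φ.ρ =>
    g.exists_rep_twist (mem_twistSet.1 w.2).1 (mem_twistSet.1 w.2).2
  let f : (Σ w : twistSet C.hR φ.ρ, (↥(D.posUnipotent F ⊓ G1) × ↥(D.diagonalSubgroup F ⊓ G1)) ×
      ↥(φ.fixU (C.hR.invRoots w))) → G1 := fun x =>
    ⟨(x.2.1.1 : GL D.Idx F) * ((x.2.1.2 : GL D.Idx F) * rep x.1) * x.2.2,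
      mul_mem (mul_mem x.2.1.1.2.2 (mul_mem x.2.1.2.2.2 (hrep1 x.1)))
        ((g.fix_invRoots (mem_twistSet.1 x.1.2).1 (mem_twistSet.1 x.1.2).2).1 x.2.2.2)⟩
  have hVconj : ∀ (w : twistSet C.hR φ.ρ) (h : GL D.Idx F), h ∈ D.diagonalSubgroup F →
      ∀ v ∈ C.Ucl (C.hR.invRoots w), h * rep w * v * (h * rep w)⁻¹ ∈ D.negUnipotent F := by
    intro w h hh v hv
    have h1 := (Subgroup.mem_normalizer_iff.1 (C.diagonal_normalizes_neg hh) _).1
      (C.conj_invRoots_mem_neg (hrep w) v hv)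
    simpa [mul_assoc] using h1
  have hf : Function.Bijective f := by
    refine ⟨?_, fun x => ?_⟩
    · rintro ⟨w, ⟨u, h⟩, v⟩ ⟨w', ⟨u', h'⟩, v'⟩ he
      obtain ⟨e1, e2, e3⟩ := (chevAmbient C).nf_unique' u.2.1
        (mul_mem (le_sup_left (b := Subgroup.closure _) h.2.1) (hrepN w))
        (show _ ∈ D.posUnipotent F from C.posUnipotent_eq ▸ C.Ucl_mono (S := C.hR.invRoots w)
          (fun r ⟨_, hr⟩ => (C.hR.mem_invSet.1 hr).1) (Subgroup.mem_inf.1 v.2).1)
        u'.2.1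
        (mul_mem (le_sup_left (b := Subgroup.closure _) h'.2.1) (hrepN w'))
        (show _ ∈ D.posUnipotent F from C.posUnipotent_eq ▸ C.Ucl_mono (S := C.hR.invRoots w')
          (fun r ⟨_, hr⟩ => (C.hR.mem_invSet.1 hr).1) (Subgroup.mem_inf.1 v'.2).1)
        (hVconj w h h.2.1 v (Subgroup.mem_inf.1 v.2).1)
        (hVconj w' h' h'.2.1 v' (Subgroup.mem_inf.1 v'.2).1) (congrArg Subtype.val he)
      obtain rfl : w = w' := by
        refine Subtype.ext ?_
        have hm : ∀ (w : twistSet C.hR φ.ρ) (h : GL D.Idx F), h ∈ D.diagonalSubgroup F →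
            C.Moves (h * rep w) w := by
          intro w h hh
          rw [C.diagonalSubgroup_eq] at hh
          obtain ⟨c, rfl⟩ := hh
          simpa using ChevCore.Moves.mul C (C.moves_torus c) (hrep w)
        exact ChevCore.Moves.unique C (hm w h h.2.1) (e2 ▸ hm w' h' h'.2.1)
      obtain rfl : u = u' := Subtype.ext e1
      obtain rfl : h = h' := Subtype.ext (mul_right_cancel e2)
      obtain rfl : v = v' := Subtype.ext e3
      rfl
    · obtain ⟨u, hu, n, hn, v, hv, hV, hx⟩ := g.twist.nf x.2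
      obtain ⟨w, hw, -⟩ := C.exists_moves hn.1
      set W : twistSet C.hR φ.ρ :=
        ⟨w, mem_twistSet.2 ⟨hw.1, φ.commute_of_fixed hn.1 hw (g.le_fixed hn.2).2⟩⟩
      have hh : n * (rep W)⁻¹ ∈ D.diagonalSubgroup F :=
        C.mem_diagonal_of_moves_one (mul_mem hn.1 (inv_mem (hrepN W)))
          (by simpa [W] using ChevCore.Moves.mul C hw (ChevCore.Moves.inv C (hrepN W) (hrep W)))
      refine ⟨⟨W, ⟨⟨u, hu⟩, ⟨n * (rep W)⁻¹, hh, G1.mul_mem hn.2 (G1.inv_mem (hrep1 W))⟩⟩,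
        ⟨v, Subgroup.mem_inf.2 ⟨mem_invRoots_of_conj hn.1 hw hv.1 hV, g.le_fixed hv.2⟩⟩⟩, Subtype.ext ?_⟩
      rw [hx]
      simp [f, mul_assoc]
  rw [← Nat.card_eq_of_bijective f hf, Nat.card_sigma, Finset.mul_sum,
    ← Finset.sum_coe_sort (twistSet C.hR φ.ρ)]
  exact Finset.sum_congr rfl fun w _ => by rw [Nat.card_prod, Nat.card_prod, hfixcard w w.2]

/-- `|G1| = |U1| |H1| ∑_w q ^ l(w)`. -/
theorem card_G1 {q : ℕ} (hq : Nat.card F = q ^ d) (hd : d ≠ 0) :
    Nat.card G1 = Nat.card ↥(D.posUnipotent F ⊓ G1) * Nat.card ↥(D.diagonalSubgroup F ⊓ G1) *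
      ∑ w ∈ twistSet C.hR φ.ρ, q ^ (C.hR.invSet w).card := by
  refine g.card_G1_of _ fun w hw => ?_
  obtain ⟨hwW, hc⟩ := mem_twistSet.1 hw
  refine Nat.pow_left_injective hd ?_
  show _ ^ d = _ ^ d
  rw [(g.fix_invRoots hwW hc).2, hq, ← pow_mul, ← pow_mul, mul_comm]

end Gens

end CfsgLib.Twisted
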