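import Cfsg.Agent.Lib.TwistedStr.Card
import Cfsg.Agent.Lib.ChevStr.RankOne
import Cfsg.Agent.Lib.ChevStr.TorusOrder

/-!
The torus of a twisted group: the elements of the torus fixed by the endomorphism, and the torus of
`G1` as soon as the fixed parameter tuples land in `G1`.
-/

set_option autoImplicit false

namespace CfsgLib.Twisted

open Cfsg.Lie CfsgLib.ChevStr
open scoped MatrixGroups

variable {D : ChevalleyDatum} {F : Type*} [Field F]

/-- The endomorphism on parameter tuples of the torus. -/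
def torusTwist (π : Equiv.Perm (Fin D.rank)) (e : Fin D.rank → ℕ) :
    (Fin D.rank → Fˣ) →* (Fin D.rank → Fˣ) where
  toFun c k := c (π.symm k) ^ e (π.symm k)
  map_one' := by funext k; simp
  map_mul' a b := by funext k; simp [mul_pow]

theorem torusTwist_apply (π : Equiv.Perm (Fin D.rank)) (e : Fin D.rank → ℕ) (c : Fin D.rank → Fˣ)
    (j : Fin D.rank) : torusTwist π e c (π j) = c j ^ e j := by
  simp [torusTwist]

theorem torusTwist_fixed_iff (π : Equiv.Perm (Fin D.rank)) (e : Fin D.rank → ℕ)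
    (c : Fin D.rank → Fˣ) : torusTwist π e c = c ↔ ∀ j, c (π j) = c j ^ e j := by
  refine ⟨fun h j => ?_, fun h => funext fun k => ?_⟩
  · rw [← torusTwist_apply π e c j, h]
  · obtain ⟨j, rfl⟩ := π.surjective k
    rw [torusTwist_apply, h]

/-- The permutation of the fundamental roots and the exponents of an endomorphism on them. -/
structure TorusAct {C : ChevCore D F} (φ : Frob C) (π : Equiv.Perm (Fin D.rank))
    (e : Fin D.rank → ℕ) : Prop where
  root : ∀ j, (φ.ρ ⟨D.simple j.val, C.R.simple_lt j⟩ : ℕ) = D.simple (π j).val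
  exp : ∀ j, φ.e ⟨D.simple j.val, C.R.simple_lt j⟩ = e j

namespace Frob

variable {C : ChevCore D F} (φ : Frob C) {π : Equiv.Perm (Fin D.rank)} {e : Fin D.rank → ℕ}

theorem act_torusSingle (hπ : TorusAct φ π e) (j : Fin D.rank) (c : Fˣ) :
    φ.act (C.R.torusSingle j c) = C.R.torusSingle (π j) (c ^ e j) := by
  rw [← C.hGL_simple j c, C.hGL_eq, C.nGL_neg, φ.act_mul (C.nGL_mem_group _ _)
    (inv_mem (C.nGL_mem_group _ _)), φ.act_inv (C.nGL_mem_group _ _)]
  rw [show C.nGL (D.simple j.val) (c : F) =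
      C.nGL ((⟨D.simple j.val, C.R.simple_lt j⟩ : Fin D.nroots) : ℕ) (c : F) from rfl,
    show C.nGL (D.simple j.val) (1 : F) =
      C.nGL ((⟨D.simple j.val, C.R.simple_lt j⟩ : Fin D.nroots) : ℕ) (1 : F) from rfl,
    φ.act_n, φ.act_n, hπ.root j, hπ.exp j, one_pow, mul_one]
  obtain ⟨u, hu⟩ : ∃ u : Fˣ, (u : F) = φ.ε ⟨D.simple j.val, C.R.simple_lt j⟩ :=
    ⟨Units.mk0 _ (φ.ε_ne _), rfl⟩
  rw [← hu, ← Units.val_pow_eq_pow_val, ← Units.val_mul, C.nGL_simple, C.nGL_simple, _root_.mul_inv_rev]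
  rw [show C.R.torusSingle (π j) (u * c ^ e j) =
      C.R.torusSingle (π j) (c ^ e j) * C.R.torusSingle (π j) u by
    rw [RootData.torusSingle, RootData.torusSingle, RootData.torusSingle, ← map_mul,
      ← Pi.mulSingle_mul, mul_comm]]
  group

theorem act_torus (hπ : TorusAct φ π e) (c : Fin D.rank → Fˣ) :
    φ.act (C.R.torus c) = C.R.torus (torusTwist π e c) := by
  classical
  have hmem : ∀ c, C.R.torus c ∈ D.group F := fun c => C.borel_le_group
    (le_sup_right (a := D.posUnipotent F) (by rw [C.diagonalSubgroup_eq]; exact ⟨c, rfl⟩))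
  let ψ : (Fin D.rank → Fˣ) →* GL D.Idx F :=
    { toFun := fun c => φ.act (C.R.torus c)
      map_one' := by rw [map_one, φ.act_one]
      map_mul' := fun a b => by rw [map_mul, φ.act_mul (hmem a) (hmem b)] }
  suffices h : c ∈ MonoidHom.eqLocus ψ (C.R.torus.comp (torusTwist π e)) from h
  rw [← Finset.univ_prod_mulSingle c]
  refine Subgroup.prod_mem _ fun i _ => ?_
  show φ.act (C.R.torusSingle i (c i)) = C.R.torus (torusTwist π e (Pi.mulSingle i (c i)))
  rw [φ.act_torusSingle hπ, RootData.torusSingle]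
  congr 1
  funext k
  obtain ⟨l, rfl⟩ := π.surjective k
  rw [torusTwist_apply]
  by_cases h : l = i
  · subst h; simp
  · simp [h]

end Frob

theorem pow_eq_one_of_torus {C : ChevCore D F} (N : Fin D.rank → Fin D.rank → ℤ) (m : ℕ)
    (hN : ∀ i j, ∑ a, N i a * D.cartan j.val (D.simple a.val) = if i = j then (m : ℤ) else 0)
    {c : Fin D.rank → Fˣ} (hc : C.R.torus c = 1) : c ^ m = 1 := by
  have h := congrArg (monMap N) ((C.torus_eq_one_iff c).1 hc)
  rw [monMap_monMap, monMap_map_one] at h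
  funext i
  have h1 := congrFun h i
  rw [monMap, Fintype.prod_eq_single i fun j hj => by rw [hN, if_neg (Ne.symm hj), zpow_zero],
    hN, if_pos rfl, zpow_natCast] at h1
  exact h1

/-- The fixed parameter tuples of the torus. -/
def fixTorus (π : Equiv.Perm (Fin D.rank)) (e : Fin D.rank → ℕ) : Subgroup (Fin D.rank → Fˣ) :=
  MonoidHom.eqLocus (torusTwist π e) (MonoidHom.id _)

theorem mem_fixTorus {π : Equiv.Perm (Fin D.rank)} {e : Fin D.rank → ℕ} {c : Fin D.rank → Fˣ} :
    c ∈ fixTorus π e ↔ ∀ j, c (π j) = c j ^ e j :=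
  torusTwist_fixed_iff π e c

namespace Gens

variable {C : ChevCore D F} {φ : Frob C} {I : Type} {O : OrbitData C.R φ.ρ I}
  {G1 : Subgroup (GL D.Idx F)} {d : ℕ} (g : Gens φ O G1 d) {π : Equiv.Perm (Fin D.rank)}
  {e : Fin D.rank → ℕ}

include g

/-- The torus of `G1` consists of the fixed parameter tuples. -/
theorem diag_inf_eq (hπ : TorusAct φ π e)
    (hS : ∀ c ∈ fixTorus (F := F) π e, C.R.torus c ∈ G1)
    {k : ℕ} (hord : ∀ c : Fin D.rank → Fˣ, (torusTwist π e)^[k] c = c) {m : ℕ}
    (hkm : Nat.Coprime m k) (hker : ∀ c : Fin D.rank → Fˣ, C.R.torus c = 1 → c ^ m = 1) :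
    D.diagonalSubgroup F ⊓ G1 = (fixTorus π e).map C.R.torus := by
  refine le_antisymm (fun x hx => ?_) ?_
  · obtain ⟨hxD, hxG⟩ := Subgroup.mem_inf.1 hx
    rw [C.diagonalSubgroup_eq] at hxD
    obtain ⟨c, rfl⟩ := hxD
    set τ := torusTwist (F := F) π e with hτ
    have hfix : C.R.torus (τ c) = C.R.torus c :=
      (φ.act_torus hπ c).symm.trans (g.le_fixed hxG).2
    have hm : C.R.torus c ^ m ∈ (fixTorus π e).map C.R.torus := by
      refine ⟨c ^ m, ?_, map_pow _ _ _⟩
      show τ (c ^ m) = c ^ m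
      have h1 := hker (τ c * c⁻¹) (by rw [map_mul, map_inv, hfix, mul_inv_cancel])
      rw [mul_pow, inv_pow, mul_inv_eq_one] at h1
      rw [map_pow, h1]
    have hk : C.R.torus c ^ k ∈ (fixTorus π e).map C.R.torus := by
      have hit : ∀ i, C.R.torus (τ^[i] c) = C.R.torus c := by
        intro i
        induction i with
        | zero => rfl
        | succ i ih =>
          rw [Function.iterate_succ_apply', hτ, ← φ.act_torus hπ, ← hτ, ih]
          exact (g.le_fixed hxG).2
      have hprod : ∀ j, C.R.torus (∏ i ∈ Finset.range j, τ^[i] c) = C.R.torus c ^ j := by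
        intro j
        induction j with
        | zero => simp
        | succ j ihj => rw [Finset.prod_range_succ, map_mul, ihj, hit, pow_succ]
      refine ⟨∏ i ∈ Finset.range k, τ^[i] c, ?_, ?_⟩
      · show τ _ = _
        rw [map_prod]
        simp only [← Function.iterate_succ_apply' (f := τ)]
        cases k with
        | zero => simp
        | succ k =>
          rw [Finset.prod_range_succ _ k, hord c, Finset.prod_range_succ' _ k]
          rfl
      · exact hprod k
    have hb := Nat.gcd_eq_gcd_ab m k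
    rw [hkm.gcd_eq_one] at hb
    rw [← zpow_one (C.R.torus c), show (1 : ℤ) = (m : ℤ) * Nat.gcdA m k + k * Nat.gcdB m k by
      exact_mod_cast hb, zpow_add, zpow_mul, zpow_mul, zpow_natCast, zpow_natCast]
    exact mul_mem (zpow_mem hm _) (zpow_mem hk _)
  · rintro _ ⟨c, hc, rfl⟩
    exact Subgroup.mem_inf.2 ⟨by rw [C.diagonalSubgroup_eq]; exact ⟨c, rfl⟩, hS c hc⟩

omit g in
/-- The order of the image of the fixed tuples. -/
theorem card_map_fixTorus (C : ChevCore D F) (π : Equiv.Perm (Fin D.rank)) (e : Fin D.rank → ℕ) :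
    Nat.card {c : Fin D.rank → Fˣ // (∀ j, c (π j) = c j ^ e j) ∧ C.R.torus c = 1} *
      Nat.card ↥((fixTorus (F := F) π e).map C.R.torus) =
      Nat.card {c : Fin D.rank → Fˣ // ∀ j, c (π j) = c j ^ e j} := by
  have e1 : Nat.card ↥(fixTorus (F := F) π e) =
      Nat.card {c : Fin D.rank → Fˣ // ∀ j, c (π j) = c j ^ e j} :=
    Nat.card_congr (Equiv.subtypeEquivRight fun c => mem_fixTorus)
  rw [← e1, ← ((C.R.torus (F := F)).comp (fixTorus π e).subtype).ker.card_mul_index,
    Subgroup.index_ker, MonoidHom.range_eq_map, ← Subgroup.map_map, ← MonoidHom.range_eq_map,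
    Subgroup.range_subtype]
  congr 1
  exact Nat.card_congr
    { toFun := fun c => ⟨⟨c.1, mem_fixTorus.2 c.2.1⟩, MonoidHom.mem_ker.2 c.2.2⟩
      invFun := fun c => ⟨c.1.1, mem_fixTorus.1 c.1.2, MonoidHom.mem_ker.1 c.2⟩
      left_inv := fun _ => rfl
      right_inv := fun _ => rfl }

end Gens

end CfsgLib.Twisted
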