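import Cfsg.Agent.Lib.TwistedStr.Torus
import Cfsg.Agent.Lib.Twisted.FrobBuild

/-!
Torus elements of a subgroup from the fixed root elements of an orbit of orthogonal fundamental
roots, and the action of the fundamental reflections on torus parameters.
-/

set_option autoImplicit false

namespace CfsgLib.Twisted

open Cfsg.Lie CfsgLib.ChevStr
open scoped MatrixGroups

theorem sandwich_mul {G : Type*} [Group G] {a a' b b' : G} (h1 : Commute b a) (h2 : Commute b a')
    (h3 : Commute b' a) : a * b * (a' * b' * (a * b)) = a * (a' * a) * (b * (b' * b)) := by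
  calc a * b * (a' * b' * (a * b)) = a * (b * a') * (b' * a) * b := by group
    _ = a * a' * (b * a) * b' * b := by rw [h2.eq, h3.eq]; group
    _ = _ := by rw [h1.eq]; group

variable {D : ChevalleyDatum} {F : Type*} [Field F] (C : ChevCore D F) {G1 : Subgroup (GL D.Idx F)}

/-- Root elements of two roots, and of their opposites, commute. -/
def CommPair (D : ChevalleyDatum) (r s : ℕ) : Prop :=
  r < D.nroots ∧ s < D.nroots ∧ ∀ a ∈ [r, D.neg r], ∀ b ∈ [s, D.neg s],
    b ≠ a ∧ b ≠ D.neg a ∧ D.commTerms a b = []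

theorem CommPair.commute {r s : ℕ} (h : CommPair D r s) :
    ∀ a ∈ [r, D.neg r], ∀ b ∈ [s, D.neg s], ∀ t u : F, Commute (C.xGL b u) (C.xGL a t) := by
  intro a ha b hb t u
  have hlt : ∀ {x y : ℕ}, y < D.nroots → x ∈ [y, D.neg y] → x < D.nroots := fun hy hx => by
    rcases List.mem_pair.1 hx with rfl | rfl
    · exact hy
    · exact C.R.neg_lt _ hy
  obtain ⟨h1, h2, h3⟩ := h.2.2 a ha b hb
  exact C.xGL_commute (hlt h.1 ha) (hlt h.2.1 hb) h1 h2 (by simp [h3]) t u

theorem nGL_prod (r : ℕ) (t : F) :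
    C.nGL r t = C.xGL r t * (C.xGL (D.neg r) (-t⁻¹) * C.xGL r t) := by
  simp [ChevCore.nGL, ChevCore.wordGL, ChevalleyDatum.nWord]

theorem nGL_commute {r s : ℕ} (h : CommPair D r s) (t u : F) :
    Commute (C.nGL s u) (C.nGL r t) := by
  have hc := h.commute C
  rw [nGL_prod, nGL_prod]
  refine ((Commute.mul_right ?_ (Commute.mul_right ?_ ?_)).mul_left ((Commute.mul_right ?_ (Commute.mul_right ?_ ?_)).mul_left
    (Commute.mul_right ?_ (Commute.mul_right ?_ ?_)))) <;> exact hc _ (by simp) _ (by simp) _ _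

theorem torusSingle_eq (j : Fin D.rank) (c : Fˣ) :
    C.R.torusSingle j c = C.nGL (D.simple j.val) c * C.nGL (D.simple j.val) (-1) := by
  rw [← C.hGL_simple j c, C.hGL_eq]

theorem neg_inv_pow {E : ℕ} (hE : (-1 : F) ^ E = -1) (t : F) : (-t⁻¹) ^ E = -(t ^ E)⁻¹ := by
  rw [neg_pow, hE, inv_pow, neg_one_mul]

section orbit

include C

/-- The torus of an orbit with one fundamental root. -/
theorem torusSingle_mem (j : Fin D.rank) {q : ℕ} (hq : (-1 : F) ^ q = -1)
    (hgen : ∀ t : F, t ^ q = t →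
      C.xGL (D.simple j.val) t ∈ G1 ∧ C.xGL (D.neg (D.simple j.val)) t ∈ G1)
    (c : Fˣ) (hc : c ^ q = c) : C.R.torusSingle j c ∈ G1 := by
  have hn : ∀ t : F, t ^ q = t → C.nGL (D.simple j.val) t ∈ G1 := fun t ht => by
    rw [nGL_prod]
    exact mul_mem (hgen t ht).1 (mul_mem (hgen _ (by rw [neg_inv_pow hq, ht])).2 (hgen t ht).1)
  rw [torusSingle_eq]
  exact mul_mem (hn _ (by rw [← Units.val_pow_eq_pow_val, hc])) (hn _ hq)

/-- The torus of an orbit with two orthogonal fundamental roots. -/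
theorem torusPair_mem (j k : Fin D.rank) (hjk : CommPair D (D.simple j.val) (D.simple k.val))
    {E : ℕ} (hE : (-1 : F) ^ E = -1)
    (hgen : ∀ t : F, C.xGL (D.simple j.val) t * C.xGL (D.simple k.val) (t ^ E) ∈ G1 ∧
      C.xGL (D.neg (D.simple j.val)) t * C.xGL (D.neg (D.simple k.val)) (t ^ E) ∈ G1)
    (c : Fˣ) : C.R.torusSingle j c * C.R.torusSingle k (c ^ E) ∈ G1 := by
  have hc := hjk.commute C
  have hn : ∀ t : F, C.nGL (D.simple j.val) t * C.nGL (D.simple k.val) (t ^ E) ∈ G1 := fun t => by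
    rw [nGL_prod, nGL_prod, ← neg_inv_pow hE, ← sandwich_mul (hc _ (by simp) _ (by simp) _ _)
      (hc _ (by simp) _ (by simp) _ _) (hc _ (by simp) _ (by simp) _ _)]
    exact mul_mem (hgen t).1 (mul_mem (hgen _).2 (hgen t).1)
  have h := mul_mem (hn c) (hn (-1))
  rw [hE, mul_assoc, ← mul_assoc (C.nGL (D.simple k.val) _), (nGL_commute C hjk _ _).eq] at h
  rw [torusSingle_eq, torusSingle_eq, Units.val_pow_eq_pow_val]
  simpa [mul_assoc] using h

/-- The torus of an orbit with three orthogonal fundamental roots. -/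
theorem torusTriple_mem (j k l : Fin D.rank) (hjk : CommPair D (D.simple j.val) (D.simple k.val))
    (hjl : CommPair D (D.simple j.val) (D.simple l.val))
    (hkl : CommPair D (D.simple k.val) (D.simple l.val))
    {E E' : ℕ} (hE : (-1 : F) ^ E = -1) (hE' : (-1 : F) ^ E' = -1)
    (hgen : ∀ t : F, C.xGL (D.simple j.val) t * (C.xGL (D.simple k.val) (t ^ E) * C.xGL (D.simple l.val) (t ^ E')) ∈ G1 ∧
      C.xGL (D.neg (D.simple j.val)) t *
        (C.xGL (D.neg (D.simple k.val)) (t ^ E) * C.xGL (D.neg (D.simple l.val)) (t ^ E')) ∈ G1)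
    (c : Fˣ) : C.R.torusSingle j c * (C.R.torusSingle k (c ^ E) * C.R.torusSingle l (c ^ E')) ∈ G1 := by
  have h1 := hjk.commute C
  have h2 := hjl.commute C
  have h3 := hkl.commute C
  have hn : ∀ t : F, C.nGL (D.simple j.val) t *
      (C.nGL (D.simple k.val) (t ^ E) * C.nGL (D.simple l.val) (t ^ E')) ∈ G1 := fun t => by
    rw [nGL_prod, nGL_prod, nGL_prod, ← neg_inv_pow hE, ← neg_inv_pow hE',
      ← sandwich_mul (h3 _ (by simp) _ (by simp) _ _) (h3 _ (by simp) _ (by simp) _ _)
        (h3 _ (by simp) _ (by simp) _ _),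
      ← sandwich_mul ((h1 _ (by simp) _ (by simp) _ _).mul_left (h2 _ (by simp) _ (by simp) _ _))
        ((h1 _ (by simp) _ (by simp) _ _).mul_left (h2 _ (by simp) _ (by simp) _ _))
        ((h1 _ (by simp) _ (by simp) _ _).mul_left (h2 _ (by simp) _ (by simp) _ _))]
    exact mul_mem (hgen t).1 (mul_mem (hgen _).2 (hgen t).1)
  have h := mul_mem (hn c) (hn (-1))
  have e1 : ∀ t u v : F, Commute (C.nGL (D.simple k.val) t * C.nGL (D.simple l.val) u)
      (C.nGL (D.simple j.val) v) := fun t u v =>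
    (nGL_commute C hjk v t).mul_left (nGL_commute C hjl v u)
  rw [hE, hE', mul_assoc, ← mul_assoc _ (C.nGL (D.simple j.val) (-1)), (e1 _ _ _).eq, mul_assoc,
    mul_assoc (C.nGL (D.simple k.val) _), ← mul_assoc (C.nGL (D.simple l.val) _),
    (nGL_commute C hkl _ _).eq] at h
  rw [torusSingle_eq, torusSingle_eq, torusSingle_eq, Units.val_pow_eq_pow_val, Units.val_pow_eq_pow_val]
  simpa [mul_assoc] using h

end orbit

/-- The matrix of a fundamental reflection on torus parameters. -/
def reflMat (D : ChevalleyDatum) (i : Fin D.rank) (a b : Fin D.rank) : ℤ :=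
  (if a = b then 1 else 0) - if a = i then D.cartan b.val (D.simple i.val) else 0

theorem nS_conj_monMap (i : Fin D.rank) (c : Fin D.rank → Fˣ) :
    C.nS i * C.R.torus c * (C.nS i)⁻¹ = C.R.torus (monMap (reflMat D i) c) := by
  rw [C.nS_conj_torus]
  congr 1
  funext a
  rw [monMap, C.R.torusChar_root c (C.R.simple_lt i)]
  by_cases h : a = i
  · subst h
    simp only [reflMat, if_true, zpow_sub, Finset.prod_mul_distrib, Pi.mul_apply,
      Pi.mulSingle_eq_same, Finset.prod_inv_distrib]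
    rw [Fintype.prod_eq_single (f := fun b => c b ^ (if a = b then (1 : ℤ) else 0)) a fun b hb => by simp [Ne.symm hb]]
    simp
  · simp only [reflMat, if_neg h, sub_zero, Pi.mul_apply, Pi.mulSingle_eq_of_ne h, mul_one]
    rw [Fintype.prod_eq_single a fun b hb => by simp [Ne.symm hb]]
    simp

namespace Gens

variable {C} {φ : Frob C} {I : Type} {O : OrbitData C.R φ.ρ I} {d : ℕ} (g : Gens φ O G1 d) [Fintype F]

include g

/-- Conjugation of the torus by the representative of an orbit, through any other representative. -/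
theorem conj_torus_mem (i : I) {n : GL D.Idx F} (hnN : n ∈ D.monomialSubgroup F)
    {w : Equiv.Perm (Fin D.nroots)} (hn : C.Moves n w) (hw : w ∈ C.hR.weylSub (O.J i))
    (hneg : ∀ j ∈ O.J i, D.IsNegRoot (w ⟨D.simple j.val, C.R.simple_lt j⟩))
    (c : Fin D.rank → Fˣ) (hc : C.R.torus c ∈ G1) : n * C.R.torus c * n⁻¹ ∈ G1 := by
  have h1 : g.wJ i * w = 1 := mul_eq_one_of_neg C.hR (g.wJ_mem i) (g.wJ_neg i) hw hneg
  have h2 : g.wJ i = w := mul_left_cancel ((g.wJ_mul_self i).trans h1.symm)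
  have hd : (g.s i)⁻¹ * n ∈ D.diagonalSubgroup F :=
    C.mem_diagonal_of_moves_one (mul_mem (inv_mem (g.s_mem_N i)) hnN)
      (by simpa [h2] using ChevCore.Moves.mul C (ChevCore.Moves.inv C (g.s_mem_N i) (g.s_moves i)) hn)
  rw [C.diagonalSubgroup_eq] at hd
  obtain ⟨z, hz⟩ := hd
  have e : n * C.R.torus c * n⁻¹ = g.s i * C.R.torus c * (g.s i)⁻¹ := by
    rw [show n = g.s i * C.R.torus z by rw [hz, mul_inv_cancel_left],
      show g.s i * C.R.torus z * C.R.torus c = g.s i * (C.R.torus z * C.R.torus c) from mul_assoc _ _ _,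
      ← map_mul, mul_comm z c, map_mul]
    group
  rw [e]
  exact mul_mem (mul_mem (g.s_mem i) hc) (inv_mem (g.s_mem i))

end Gens

end CfsgLib.Twisted
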