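import Cfsg.Agent.Lib.TwistedStr.D4Unipotent

/-!
The reduction of the involutions in the unipotent group of `³D₄` in characteristic two, in twisted
coordinates.
-/

set_option autoImplicit false
set_option linter.unusedSectionVars false
set_option linter.unusedSimpArgs false
set_option linter.unreachableTactic false
set_option linter.unusedTactic false

namespace CfsgLib.Twisted.D4Uni

open Cfsg.Lie CfsgLib.ChevStr
open scoped MatrixGroups

variable {F : Type*} [Field F] [CharP F 2]

theorem E_zero : E12 (0 : F) 0 0 0 0 0 0 0 0 0 0 0 = 1 := by simp [E12, X_zero]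

theorem E_sorted (a b b1 b2 c c1 c2 d d1 d2 e f : F) : E12 a b b1 b2 c c1 c2 d d1 d2 e f =
    X 12 (b2) * (X 13 (b1) * (X 14 (a) * (X 15 (c2 + a * b2) * (X 16 (c1 + a * b1) * (X 17 (d + a * b1 * b2) * (X 18 (b) * (X 19 (c) * (X 20 (d1 + b * c2) * (X 21 (d2 + b * c1) * (X 22 (e + b * d) * (X 23 (f + c * d + b * c1 * c2) * (1)))))))))))) := by
  simp only [E12, X_mul_assoc,
    cm_of (F := F) 12 13 (by decide +kernel),
    sw_of (F := F) 12 14 15 (by decide +kernel),
    sw_of (F := F) 13 14 16 (by decide +kernel),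
    cm_of (F := F) 12 15 (by decide +kernel),
    sw_of (F := F) 13 15 17 (by decide +kernel),
    cm_of (F := F) 14 15 (by decide +kernel),
    sw_of (F := F) 12 16 17 (by decide +kernel),
    cm_of (F := F) 13 16 (by decide +kernel),
    cm_of (F := F) 14 16 (by decide +kernel),
    cm_of (F := F) 15 16 (by decide +kernel),
    cm_of (F := F) 12 17 (by decide +kernel),
    cm_of (F := F) 13 17 (by decide +kernel),
    cm_of (F := F) 14 17 (by decide +kernel),
    cm_of (F := F) 15 17 (by decide +kernel),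
    cm_of (F := F) 16 17 (by decide +kernel),
    cm_of (F := F) 12 18 (by decide +kernel),
    cm_of (F := F) 13 18 (by decide +kernel),
    sw_of (F := F) 14 18 19 (by decide +kernel),
    sw_of (F := F) 15 18 20 (by decide +kernel),
    sw_of (F := F) 16 18 21 (by decide +kernel),
    sw_of (F := F) 17 18 22 (by decide +kernel),
    sw_of (F := F) 12 19 20 (by decide +kernel),
    sw_of (F := F) 13 19 21 (by decide +kernel),
    cm_of (F := F) 14 19 (by decide +kernel),
    cm_of (F := F) 15 19 (by decide +kernel),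
    cm_of (F := F) 16 19 (by decide +kernel),
    sw_of (F := F) 17 19 23 (by decide +kernel),
    cm_of (F := F) 18 19 (by decide +kernel),
    cm_of (F := F) 12 20 (by decide +kernel),
    sw_of (F := F) 13 20 22 (by decide +kernel),
    cm_of (F := F) 14 20 (by decide +kernel),
    cm_of (F := F) 15 20 (by decide +kernel),
    sw_of (F := F) 16 20 23 (by decide +kernel),
    cm_of (F := F) 17 20 (by decide +kernel),
    cm_of (F := F) 18 20 (by decide +kernel),
    cm_of (F := F) 19 20 (by decide +kernel),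
    sw_of (F := F) 12 21 22 (by decide +kernel),
    cm_of (F := F) 13 21 (by decide +kernel),
    cm_of (F := F) 14 21 (by decide +kernel),
    sw_of (F := F) 15 21 23 (by decide +kernel),
    cm_of (F := F) 16 21 (by decide +kernel),
    cm_of (F := F) 17 21 (by decide +kernel),
    cm_of (F := F) 18 21 (by decide +kernel),
    cm_of (F := F) 19 21 (by decide +kernel),
    cm_of (F := F) 20 21 (by decide +kernel),
    cm_of (F := F) 12 22 (by decide +kernel),
    cm_of (F := F) 13 22 (by decide +kernel),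
    sw_of (F := F) 14 22 23 (by decide +kernel),
    cm_of (F := F) 15 22 (by decide +kernel),
    cm_of (F := F) 16 22 (by decide +kernel),
    cm_of (F := F) 17 22 (by decide +kernel),
    cm_of (F := F) 18 22 (by decide +kernel),
    cm_of (F := F) 19 22 (by decide +kernel),
    cm_of (F := F) 20 22 (by decide +kernel),
    cm_of (F := F) 21 22 (by decide +kernel),
    cm_of (F := F) 12 23 (by decide +kernel),
    cm_of (F := F) 13 23 (by decide +kernel),
    cm_of (F := F) 14 23 (by decide +kernel),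
    cm_of (F := F) 15 23 (by decide +kernel),
    cm_of (F := F) 16 23 (by decide +kernel),
    cm_of (F := F) 17 23 (by decide +kernel),
    cm_of (F := F) 18 23 (by decide +kernel),
    cm_of (F := F) 19 23 (by decide +kernel),
    cm_of (F := F) 20 23 (by decide +kernel),
    cm_of (F := F) 21 23 (by decide +kernel),
    cm_of (F := F) 22 23 (by decide +kernel)]
  repeat' refine mul_congr ?_ ?_
  all_goals first
    | rfl
    | (refine congrArg _ ?_; ring1)
    | (refine congrArg _ ?_; ring_nf; simp [CharTwo.two_eq_zero]; done)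

theorem E_inj {a b b1 b2 c c1 c2 d d1 d2 e f A B B1 B2 C C1 C2 D D1 D2 E G : F}
    (h : E12 a b b1 b2 c c1 c2 d d1 d2 e f = E12 A B B1 B2 C C1 C2 D D1 D2 E G) :
    a = A ∧ b = B ∧ b1 = B1 ∧ b2 = B2 ∧ c = C ∧ c1 = C1 ∧ c2 = C2 ∧ d = D ∧ d1 = D1 ∧ d2 = D2 ∧
      e = E ∧ f = G := by
  have hpos : ∀ r ∈ [12, 13, 14, 15, 16, 17, 18, 19, 20, 21, 22, 23], chevD4.IsPosRoot r := by
    decide +kernel
  rw [E_sorted, E_sorted] at h
  have h' := (coreD4 F).word_injective (L := [12, 13, 14, 15, 16, 17, 18, 19, 20, 21, 22, 23])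
    (by decide) hpos
    (fun r => [b2, b1, a, c2 + a * b2, c1 + a * b1, d + a * b1 * b2, b, c, d1 + b * c2, d2 + b * c1,
      e + b * d, f + c * d + b * c1 * c2].getD (r - 12) 0)
    (fun r => [B2, B1, A, C2 + A * B2, C1 + A * B1, D + A * B1 * B2, B, C, D1 + B * C2, D2 + B * C1,
      E + B * D, G + C * D + B * C1 * C2].getD (r - 12) 0)
    (by simpa [X, (coreD4 F).word_cons, (coreD4 F).word_nil] using h)
  obtain rfl : b2 = B2 := by simpa using h' 12 (by simp)
  obtain rfl : b1 = B1 := by simpa using h' 13 (by simp)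
  obtain rfl : a = A := by simpa using h' 14 (by simp)
  obtain rfl : b = B := by simpa using h' 18 (by simp)
  obtain rfl : c = C := by simpa using h' 19 (by simp)
  obtain rfl : c2 = C2 := by simpa using h' 15 (by simp)
  obtain rfl : c1 = C1 := by simpa using h' 16 (by simp)
  obtain rfl : d = D := by simpa using h' 17 (by simp)
  obtain rfl : d1 = D1 := by simpa using h' 20 (by simp)
  obtain rfl : d2 = D2 := by simpa using h' 21 (by simp)
  obtain rfl : e = E := by simpa using h' 22 (by simp)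
  obtain rfl : f = G := by simpa using h' 23 (by simp)
  exact ⟨rfl, rfl, rfl, rfl, rfl, rfl, rfl, rfl, rfl, rfl, rfl, rfl⟩

theorem numerals : (2 : F) = 0 ∧ (3 : F) = 1 ∧ (4 : F) = 0 ∧ (5 : F) = 1 ∧ (6 : F) = 0 ∧ (7 : F) = 1 ∧
    (8 : F) = 0 ∧ (9 : F) = 1 ∧ (10 : F) = 0 := by
  have h : (2 : F) = 0 := CharTwo.two_eq_zero
  refine ⟨h, ?_, ?_, ?_, ?_, ?_, ?_, ?_, ?_⟩
  · linear_combination h
  · linear_combination 2 * h
  · linear_combination 2 * h
  · linear_combination 3 * h
  · linear_combination 3 * h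
  · linear_combination 4 * h
  · linear_combination 4 * h
  · linear_combination 5 * h

variable {s : F →+* F} {H : Subgroup (GL chevD4.Idx F)}

/-- The element with the given twisted coordinates. -/
noncomputable def tw (s : F →+* F) (a b c d e f : F) : GL chevD4.Idx F :=
  E12 a b (s b) (s (s b)) c (s c) (s (s c)) d (s d) (s (s d)) e f

/-- The twisted coordinates fixed by the endomorphism are those of the members of `H`. -/
def Fix (s : F →+* F) (H : Subgroup (GL chevD4.Idx F)) : Prop :=
  (∀ x, s (s (s x)) = x) ∧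
    ∀ a b c d e f, tw s a b c d e f ∈ H ↔ s a = a ∧ s e = e ∧ s f = f

/-- Conjugacy under `H`. -/
def Rel (H : Subgroup (GL chevD4.Idx F)) (g h : GL chevD4.Idx F) : Prop := ∃ k ∈ H, k * g * k⁻¹ = h

theorem Rel.refl (g : GL chevD4.Idx F) : Rel H g g := ⟨1, one_mem _, by group⟩

theorem Rel.symm {g h : GL chevD4.Idx F} (r : Rel H g h) : Rel H h g := by
  obtain ⟨k, hk, rfl⟩ := r
  exact ⟨k⁻¹, inv_mem hk, by group⟩

theorem Rel.trans {g h l : GL chevD4.Idx F} (r : Rel H g h) (r' : Rel H h l) : Rel H g l := by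
  obtain ⟨k, hk, rfl⟩ := r
  obtain ⟨k', hk', rfl⟩ := r'
  exact ⟨k' * k, mul_mem hk' hk, by group⟩

theorem Rel.mem {g h : GL chevD4.Idx F} (r : Rel H g h) (hg : g ∈ H) : h ∈ H := by
  obtain ⟨k, hk, rfl⟩ := r
  exact mul_mem (mul_mem hk hg) (inv_mem hk)

theorem Rel.sq_one {g h : GL chevD4.Idx F} (r : Rel H g h) (hg : g * g = 1) : h * h = 1 := by
  obtain ⟨k, -, rfl⟩ := r
  rw [show k * g * k⁻¹ * (k * g * k⁻¹) = k * (g * g) * k⁻¹ by group, hg]
  group

theorem Rel.ne_one {g h : GL chevD4.Idx F} (r : Rel H g h) (hg : g ≠ 1) : h ≠ 1 := by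
  obtain ⟨k, -, rfl⟩ := r
  exact fun e => hg (conj_eq_one_iff.1 e)

theorem rel_of_mul {g h k : GL chevD4.Idx F} (hk : k ∈ H) (h1 : g * k = k * h) : Rel H g h :=
  ⟨k⁻¹, inv_mem hk, by rw [inv_inv, mul_assoc, h1, inv_mul_cancel_left]⟩

theorem tw_mul_congr {a b c d e f A B C D E G a' b' c' d' e' f' A' B' C' D' E' G' : F}
    (h1 : a + A = a' + A') (h2 : b + B = b' + B')
    (h3 : C + c + A * b = C' + c' + A' * b')
    (h4 : D + d + s B * s (s c) + s (s B) * s c + A * s B * s (s b) + A * s (s B) * s b +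
        A * s b * s (s b) =
      D' + d' + s B' * s (s c') + s (s B') * s c' + A' * s B' * s (s b') + A' * s (s B') * s b' +
        A' * s b' * s (s b'))
    (h5 : E + e + (B * d + s B * s d + s (s B) * s (s d)) +
        (B * s B * s (s c) + B * s (s B) * s c + s B * s (s B) * c) +
        A * (B * s B * s (s b) + B * s (s B) * s b + s B * s (s B) * b + B * s b * s (s b) +
          s B * b * s (s b) + s (s B) * b * s b + b * s b * s (s b)) =
      E' + e' + (B' * d' + s B' * s d' + s (s B') * s (s d')) +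
        (B' * s B' * s (s c') + B' * s (s B') * s c' + s B' * s (s B') * c') +
        A' * (B' * s B' * s (s b') + B' * s (s B') * s b' + s B' * s (s B') * b' +
          B' * s b' * s (s b') + s B' * b' * s (s b') + s (s B') * b' * s b' + b' * s b' * s (s b')))
    (h6 : G + f + A * e + (C * d + s C * s d + s (s C) * s (s d)) +
        (B * s C * s (s c) + B * s (s C) * s c + B * s c * s (s c) + s B * C * s (s c) +
          s B * s (s C) * c + s B * c * s (s c) + s (s B) * C * s c + s (s B) * s C * c +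
          s (s B) * c * s c) +
        A * (B * s C * s (s b) + B * s (s C) * s b + B * s b * s (s c) + B * s (s b) * s c +
          s B * C * s (s b) + s B * s (s C) * b + s B * b * s (s c) + s B * s (s b) * c +
          s (s B) * C * s b + s (s B) * s C * b + s (s B) * b * s c + s (s B) * s b * c +
          C * s b * s (s b) + s C * b * s (s b) + s (s C) * b * s b + b * s b * s (s c) +
          b * s (s b) * s c + s b * s (s b) * c) +
        A * A * (B * s b * s (s b) + s B * b * s (s b) + s (s B) * b * s b) =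
      G' + f' + A' * e' + (C' * d' + s C' * s d' + s (s C') * s (s d')) +
        (B' * s C' * s (s c') + B' * s (s C') * s c' + B' * s c' * s (s c') + s B' * C' * s (s c') +
          s B' * s (s C') * c' + s B' * c' * s (s c') + s (s B') * C' * s c' + s (s B') * s C' * c' +
          s (s B') * c' * s c') +
        A' * (B' * s C' * s (s b') + B' * s (s C') * s b' + B' * s b' * s (s c') +
          B' * s (s b') * s c' + s B' * C' * s (s b') + s B' * s (s C') * b' + s B' * b' * s (s c') +
          s B' * s (s b') * c' + s (s B') * C' * s b' + s (s B') * s C' * b' + s (s B') * b' * s c' +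
          s (s B') * s b' * c' + C' * s b' * s (s b') + s C' * b' * s (s b') + s (s C') * b' * s b' +
          b' * s b' * s (s c') + b' * s (s b') * s c' + s b' * s (s b') * c') +
        A' * A' * (B' * s b' * s (s b') + s B' * b' * s (s b') + s (s B') * b' * s b'))
    (ha : s A = A) (ha' : s A' = A') (hs : ∀ x, s (s (s x)) = x) :
    tw s a b c d e f * tw s A B C D E G = tw s a' b' c' d' e' f' * tw s A' B' C' D' E' G' := by
  simp only [tw]
  rw [E_mul_E, E_mul_E]
  have k1 := congrArg s h2
  have k3 := congrArg s h3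
  have k4 := congrArg s h4
  simp only [map_add, map_mul, hs, ha, ha'] at k1 k3 k4
  have j1 := congrArg s k1
  have j3 := congrArg s k3
  have j4 := congrArg s k4
  simp only [map_add, map_mul, hs, ha, ha'] at j1 j3 j4
  refine E_congr ?_ ?_ ?_ ?_ ?_ ?_ ?_ ?_ ?_ ?_ ?_ ?_
  · linear_combination h1
  · linear_combination h2
  · linear_combination k1
  · linear_combination j1
  · linear_combination h3
  · linear_combination k3
  · linear_combination j3
  · linear_combination h4
  · linear_combination k4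
  · linear_combination j4
  · linear_combination h5
  · linear_combination h6

theorem sq_eqs (hs : ∀ x, s (s (s x)) = x) {a b c d e f : F}
    (h : tw s a b c d e f * tw s a b c d e f = 1) :
    a * b = 0 ∧ s b * s (s c) + s (s b) * s c + a * s b * s (s b) = 0 ∧
      (b * d + s b * s d + s (s b) * s (s d)) +
        (b * s b * s (s c) + b * s (s b) * s c + s b * s (s b) * c) + a * (b * s b * s (s b)) = 0 ∧
      a * e + (c * d + s c * s d + s (s c) * s (s d)) +
        (b * s c * s (s c) + s b * c * s (s c) + s (s b) * c * s c) +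
        a * a * (b * s b * s (s b)) = 0 := by
  simp only [tw] at h
  rw [E_mul_E, ← E_zero] at h
  obtain ⟨-, -, -, -, h5, -, -, h8, -, -, h11, h12⟩ := E_inj h
  refine ⟨?_, ?_, ?_, ?_⟩
  · linear_combination (norm := (ring_nf; all_goals (simp [numerals]; done))) h5
  · linear_combination (norm := (ring_nf; all_goals (simp [numerals]; done))) h8
  · linear_combination (norm := (ring_nf; all_goals (simp [numerals]; done))) h11
  · linear_combination (norm := (ring_nf; all_goals (simp [numerals]; done))) h12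

theorem tw_zero : tw s 0 0 0 0 0 0 = 1 := by simp [tw, E_zero]

theorem tw_inj {a b c d e f A B C D E G : F} (h : tw s a b c d e f = tw s A B C D E G) :
    a = A ∧ b = B ∧ c = C ∧ d = D ∧ e = E ∧ f = G := by
  obtain ⟨h1, h2, -, -, h5, -, -, h8, -, -, h11, h12⟩ := E_inj h
  exact ⟨h1, h2, h5, h8, h11, h12⟩

section

variable [Finite F]

theorem fix_sqrt {x : F} (hx : s x = x) : ∃ w, s w = w ∧ w ^ 2 = x := by
  cases nonempty_fintype F
  obtain ⟨w, hw⟩ := FiniteField.isSquare_of_char_two (F := F) (ringChar.eq F 2) x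
  refine ⟨w, CharTwo.sq_injective ?_, by rw [hw, sq]⟩
  show (s w) ^ 2 = w ^ 2
  rw [← map_pow, sq, ← hw, hx]

variable (hH : Fix s H)
include hH

/-- The case of a nonzero first coordinate. -/
theorem reduce_a {a b c d e f : F} (hm : tw s a b c d e f ∈ H) (ha : a ≠ 0)
    (h : tw s a b c d e f * tw s a b c d e f = 1) :
    ∃ d', Rel H (tw s a b c d e f) (tw s a 0 0 d' 0 0) := by
  obtain ⟨hs, hiff⟩ := hH
  obtain ⟨ha', -, -⟩ := (hiff ..).1 hm
  obtain rfl : b = 0 := (mul_eq_zero.1 (sq_eqs hs h).1).resolve_left ha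
  set v := c / a with hv
  have hav : a * v = c := by rw [hv, mul_div_cancel₀ _ ha]
  set d' := d + s v * s (s c) + s (s v) * s c + a * s v * s (s v)
  set e' := e + (v * d + s v * s d + s (s v) * s (s d)) +
    (v * s v * s (s c) + v * s (s v) * s c + s v * s (s v) * c) + a * (v * s v * s (s v))
  set f' := f + (v * s c * s (s c) + s v * c * s (s c) + s (s v) * c * s c)
  have h1 : Rel H (tw s a 0 c d e f) (tw s a 0 0 d' e' f') := by
    refine rel_of_mul (k := tw s 0 v 0 0 0 0) ((hiff ..).2 ⟨map_zero _, map_zero _, map_zero _⟩) ?_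
    refine tw_mul_congr ?_ ?_ ?_ ?_ ?_ ?_ (map_zero _) ha' hs <;> simp [d', e', f'] <;>
      first
        | ring1
        | linear_combination -hav
        | (ring_nf; simp [numerals]; done)
  obtain ⟨-, -, -, hsq⟩ := sq_eqs hs (h1.sq_one h)
  have he : e' = 0 := by simpa [ha] using hsq
  rw [he] at h1
  obtain ⟨-, -, hf⟩ := (hiff ..).1 (h1.mem hm)
  refine ⟨d', h1.trans (rel_of_mul (k := tw s 0 0 0 0 (f' / a) 0)
    ((hiff ..).2 ⟨map_zero _, by rw [map_div₀, hf, ha'], map_zero _⟩) ?_)⟩
  refine tw_mul_congr ?_ ?_ ?_ ?_ ?_ ?_ (map_zero _) ha' hs <;> simp <;>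
    rw [mul_div_cancel₀ _ ha]

/-- The case of a nonzero second coordinate. -/
theorem reduce_b {b c d e f : F} (hm : tw s 0 b c d e f ∈ H) (hb : b ≠ 0)
    (h : tw s 0 b c d e f * tw s 0 b c d e f = 1) :
    Rel H (tw s 0 b c d e f) (tw s 0 b 0 0 0 0) := by
  obtain ⟨hs, hiff⟩ := hH
  obtain ⟨-, he, hf⟩ := (hiff ..).1 hm
  have hb1 : s b ≠ 0 := fun e => hb (by rw [← hs b, e, map_zero, map_zero])
  have hb2 : s (s b) ≠ 0 := fun e => hb (by rw [← hs b, e, map_zero])
  obtain ⟨-, hd, -, -⟩ := sq_eqs hs h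
  set w := c / b with hw
  have hwb : w * b = c := by rw [hw, div_mul_cancel₀ _ hb]
  have hw1 : s (s w) = s w := by
    have e1 : s b * s (s b) * (s (s w) + s w) = 0 := by
      have e2 := congrArg s hwb
      have e3 := congrArg (fun x => s (s x)) hwb
      simp only [map_mul] at e2 e3
      linear_combination hd + s (s b) * e2 + s b * e3
    exact CharTwo.add_eq_zero.1 ((mul_eq_zero.1 e1).resolve_left (mul_ne_zero hb1 hb2))
  have hwf : s w = w := by
    have e1 := congrArg s hw1
    rw [hs] at e1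
    rw [← hw1]; exact e1.symm
  set N := b * s b * s (s b)
  have hN : N ≠ 0 := mul_ne_zero (mul_ne_zero hb hb1) hb2
  have hNf : s N = N := by simp only [N, map_mul, hs]; ring
  set e1 := e + w * N
  set f1 := f + w * e + w * (b * s b * s (s c) + b * s (s b) * s c + s b * s (s b) * c)
  set d1 := d + w * s b * s (s b)
  have h1 : Rel H (tw s 0 b c d e f) (tw s 0 b 0 d1 e1 f1) := by
    refine rel_of_mul (k := tw s w 0 0 0 0 0) ((hiff ..).2 ⟨hwf, map_zero _, map_zero _⟩) ?_
    refine tw_mul_congr ?_ ?_ ?_ ?_ ?_ ?_ hwf (map_zero _) hs <;> simp [d1, e1, f1, N] <;>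
      first
        | ring1
        | linear_combination (norm := (ring_nf; all_goals (simp [numerals]; done))) hwb
        | (ring_nf; simp [numerals]; done)
  obtain ⟨-, -, htr, -⟩ := sq_eqs hs (h1.sq_one h)
  simp only [map_zero, mul_zero, zero_mul, add_zero] at htr
  set x := d1 / (s b * s (s b)) with hx
  have hxd : x * (s b * s (s b)) = d1 := by rw [hx, div_mul_cancel₀ _ (mul_ne_zero hb1 hb2)]
  have htx : x + s x + s (s x) = 0 := by
    have e2 := congrArg s hxd
    have e3 := congrArg (fun z => s (s z)) hxd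
    simp only [map_mul, hs] at e2 e3
    have : N * (x + s x + s (s x)) = 0 := by
      linear_combination htr + b * hxd + s b * e2 + s (s b) * e3
    exact (mul_eq_zero.1 this).resolve_left hN
  set v := b * x
  set e2 := e1 + (b * s b * s (s v) + b * s (s b) * s v + s b * s (s b) * v)
  set f2 := f1 + (v * d1 + s v * s d1 + s (s v) * s (s d1)) +
    (b * s v * s (s v) + s b * v * s (s v) + s (s b) * v * s v)
  have h2 : Rel H (tw s 0 b 0 d1 e1 f1) (tw s 0 b 0 0 e2 f2) := by
    refine rel_of_mul (k := tw s 0 0 v 0 0 0) ((hiff ..).2 ⟨map_zero _, map_zero _, map_zero _⟩) ?_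
    refine tw_mul_congr ?_ ?_ ?_ ?_ ?_ ?_ (map_zero _) (map_zero _) hs <;> simp [e2, f2] <;>
      first
        | ring1
        | (simp only [v, map_mul]
           linear_combination (norm := (ring_nf; all_goals (simp [numerals]; done))) hxd + s b * s (s b) * htx)
        | linear_combination (norm := (ring_nf; all_goals (simp [numerals]; done))) (0 : F) = 0
  obtain ⟨-, he2, hf2⟩ := (hiff ..).1 ((h1.trans h2).mem hm)
  obtain ⟨u, hu, huq⟩ := fix_sqrt (show s (f2 / N) = f2 / N by rw [map_div₀, hf2, hNf])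
  have huN : u ^ 2 * N = f2 := by rw [huq, div_mul_cancel₀ _ hN]
  have hN' : N = b * s b * s (s b) := rfl
  set z := (e2 + N * u) / b with hz
  have hzb : z * b = e2 + N * u := by rw [hz, div_mul_cancel₀ _ hb]
  have hzb' : s (z * b) = z * b := by rw [hzb, map_add, map_mul, he2, hNf, hu]
  have hzb1 : s z * s b = e2 + N * u := by rw [← map_mul, hzb', hzb]
  have hzb2 : s (s z) * s (s b) = e2 + N * u := by rw [← map_mul, ← map_mul, hzb', hzb', hzb]
  refine (h1.trans h2).trans (rel_of_mul (k := tw s 0 0 (b * u) z 0 0)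
    ((hiff ..).2 ⟨map_zero _, map_zero _, map_zero _⟩) ?_)
  refine tw_mul_congr ?_ ?_ ?_ ?_ ?_ ?_ (map_zero _) (map_zero _) hs <;> simp [hu] <;>
    first
      | ring1
      | linear_combination (norm := (ring_nf; all_goals (simp [numerals]; done))) hzb + hzb1 + hzb2 + u * hN'
      | (ring_nf; simp [numerals]; done)
      | linear_combination (norm := (ring_nf; all_goals (simp [numerals]; done))) huN + u ^ 2 * hN'

/-- The case of vanishing first three coordinates. -/
theorem reduce_d {d e f : F} (hm : tw s 0 0 0 d e f ∈ H) (hd : d ≠ 0) :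
    Rel H (tw s 0 0 0 d e f) (tw s 0 0 0 d 0 0) := by
  obtain ⟨hs, hiff⟩ := hH
  obtain ⟨-, he, hf⟩ := (hiff ..).1 hm
  have hd1 : s d ≠ 0 := fun e => hd (by rw [← hs d, e, map_zero, map_zero])
  have hd2 : s (s d) ≠ 0 := fun e => hd (by rw [← hs d, e, map_zero])
  refine Rel.trans (rel_of_mul (h := tw s 0 0 0 d 0 f) (k := tw s 0 (e / d) 0 0 0 0)
      ((hiff ..).2 ⟨map_zero _, map_zero _, map_zero _⟩) ?_)
    (rel_of_mul (k := tw s 0 0 (f / d) 0 0 0) ((hiff ..).2 ⟨map_zero _, map_zero _, map_zero _⟩) ?_)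
  · refine tw_mul_congr ?_ ?_ ?_ ?_ ?_ ?_ (map_zero _) (map_zero _) hs <;>
      simp [he, div_mul_cancel₀ _ hd, div_mul_cancel₀ _ hd1, div_mul_cancel₀ _ hd2] <;>
      (ring_nf; simp [numerals])
  · refine tw_mul_congr ?_ ?_ ?_ ?_ ?_ ?_ (map_zero _) (map_zero _) hs <;>
      simp [hf, div_mul_cancel₀ _ hd, div_mul_cancel₀ _ hd1, div_mul_cancel₀ _ hd2] <;>
      (ring_nf; simp [numerals])

/-- The case of a vanishing long part except the last two coordinates. -/
theorem reduce_e {e f : F} (hm : tw s 0 0 0 0 e f ∈ H) (he0 : e ≠ 0) :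
    Rel H (tw s 0 0 0 0 e f) (tw s 0 0 0 0 e 0) := by
  obtain ⟨hs, hiff⟩ := hH
  obtain ⟨-, he, hf⟩ := (hiff ..).1 hm
  refine rel_of_mul (k := tw s (f / e) 0 0 0 0 0)
    ((hiff ..).2 ⟨by rw [map_div₀, hf, he], map_zero _, map_zero _⟩) ?_
  refine tw_mul_congr ?_ ?_ ?_ ?_ ?_ ?_ (by rw [map_div₀, hf, he]) (map_zero _) hs <;>
    simp [div_mul_cancel₀ _ he0, CharTwo.add_self_eq_zero]

/-- Every involution with given twisted coordinates reduces to two shapes, granted the moves of the
two reflections. -/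
theorem reduce
    (moveA : ∀ a d, a ≠ 0 → tw s a 0 0 d 0 0 ∈ H →
      ∃ c e, Rel H (tw s a 0 0 d 0 0) (tw s 0 0 c 0 e 0))
    (moveB : ∀ c d e f, c ≠ 0 → tw s 0 0 c d e f ∈ H →
      ∃ b d' e' f', b ≠ 0 ∧ Rel H (tw s 0 0 c d e f) (tw s 0 b 0 d' e' f'))
    (moveAB : ∀ b, b ≠ 0 → tw s 0 b 0 0 0 0 ∈ H →
      ∃ d, d ≠ 0 ∧ Rel H (tw s 0 b 0 0 0 0) (tw s 0 0 0 d 0 0))
    (moveE : ∀ e, e ≠ 0 → tw s 0 0 0 0 e 0 ∈ H →
      ∃ f, f ≠ 0 ∧ Rel H (tw s 0 0 0 0 e 0) (tw s 0 0 0 0 0 f))
    {a b c d e f : F} (hm : tw s a b c d e f ∈ H) (h : tw s a b c d e f * tw s a b c d e f = 1)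
    (hne : tw s a b c d e f ≠ 1) :
    (∃ x, x ≠ 0 ∧ Rel H (tw s a b c d e f) (tw s 0 0 0 x 0 0)) ∨
      ∃ x, x ≠ 0 ∧ Rel H (tw s a b c d e f) (tw s 0 0 0 0 0 x) := by
  by_cases ha : a = 0
  · subst ha
    by_cases hb : b = 0
    · subst hb
      by_cases hc : c = 0
      · subst hc
        by_cases hd : d = 0
        · subst hd
          by_cases he : e = 0
          · subst he
            exact Or.inr ⟨f, by rintro rfl; exact hne tw_zero, Rel.refl _⟩
          · have h1 := reduce_e hH hm he
            obtain ⟨x, hx, h2⟩ := moveE e he (h1.mem hm)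
            exact Or.inr ⟨x, hx, h1.trans h2⟩
        · exact Or.inl ⟨d, hd, reduce_d hH hm hd⟩
      · obtain ⟨b', d', e', f', hb', h1⟩ := moveB c d e f hc hm
        have h2 := reduce_b hH (h1.mem hm) hb' (h1.sq_one h)
        obtain ⟨x, hx, h3⟩ := moveAB b' hb' ((h1.trans h2).mem hm)
        exact Or.inl ⟨x, hx, (h1.trans h2).trans h3⟩
    · have h2 := reduce_b hH hm hb h
      obtain ⟨x, hx, h3⟩ := moveAB b hb (h2.mem hm)
      exact Or.inl ⟨x, hx, h2.trans h3⟩
  · obtain ⟨d', h1⟩ := reduce_a hH hm ha h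
    obtain ⟨c', e', h2⟩ := moveA a d' ha (h1.mem hm)
    have h12 := h1.trans h2
    by_cases hc : c' = 0
    · subst hc
      have he : e' ≠ 0 := by rintro rfl; exact h12.ne_one hne tw_zero
      obtain ⟨x, hx, h3⟩ := moveE e' he (h12.mem hm)
      exact Or.inr ⟨x, hx, h12.trans h3⟩
    · obtain ⟨b', d'', e'', f'', hb', h3⟩ := moveB c' 0 e' 0 hc (h12.mem hm)
      have h4 := reduce_b hH ((h12.trans h3).mem hm) hb' ((h12.trans h3).sq_one h)
      obtain ⟨x, hx, h5⟩ := moveAB b' hb' (((h12.trans h3).trans h4).mem hm)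
      exact Or.inl ⟨x, hx, ((h12.trans h3).trans h4).trans h5⟩

end

end CfsgLib.Twisted.D4Uni
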