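import Cfsg.Agent.Lib.Twisted.TypeD4

/-!
In characteristic two the root element of the highest root of `D₄` and the product of the three
root elements permuted by the triality are not conjugate in the general linear group: the ranks of
`g - 1` differ.
-/

set_option autoImplicit false

namespace CfsgLib.Twisted.D4Rank

open Cfsg.Lie CfsgLib.ChevStr
open scoped MatrixGroups

/-- The number of a coordinate. -/
def code : chevD4.Idx → ℕ
  | Sum.inl i => i.val
  | Sum.inr r => 4 + r.val

/-- The matrix with ones at the listed places. -/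
def tab (L : List (ℕ × ℕ)) : Matrix chevD4.Idx chevD4.Idx (ZMod 2) :=
  Matrix.of fun i j => if (code i, code j) ∈ L then 1 else 0

def rank23 : List (ℕ × ℕ) := [(0, 0), (0, 4), (1, 1), (2, 2), (2, 4), (3, 3), (3, 4), (4, 4), (5, 5), (6, 6), (7, 7), (8,
    8), (9, 9), (10, 10), (11, 11), (12, 12), (13, 13), (14, 14), (15, 15), (16, 16), (17,
    17), (18, 5), (18, 18), (19, 6), (19, 19), (20, 7), (20, 20), (21, 8), (21, 21), (22, 22),
    (23, 10), (23, 23), (24, 11), (24, 24), (25, 12), (25, 25), (26, 13), (26, 26), (27, 1),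
    (27, 4), (27, 27)]

def rank17 : List (ℕ × ℕ) := [(0, 0), (1, 1), (1, 10), (2, 2), (2, 10), (3, 3), (3, 10), (4, 4), (5, 5), (6, 6), (7, 7),
    (8, 4), (8, 8), (9, 5), (9, 9), (10, 10), (11, 11), (12, 12), (13, 13), (14, 14), (15,
    15), (16, 11), (16, 16), (17, 12), (17, 17), (18, 18), (19, 14), (19, 19), (20, 15), (20,
    20), (21, 0), (21, 2), (21, 3), (21, 10), (21, 21), (22, 22), (23, 23), (24, 24), (25,
    25), (26, 22), (26, 26), (27, 23), (27, 27)]

def rank20 : List (ℕ × ℕ) := [(0, 0), (0, 7), (1, 1), (1, 7), (2, 2), (3, 3), (3, 7), (4, 4), (5, 5), (6, 6), (7, 7), (8,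
    8), (9, 9), (10, 10), (11, 4), (11, 11), (12, 12), (13, 13), (14, 5), (14, 14), (15, 15),
    (16, 8), (16, 16), (17, 17), (18, 18), (19, 9), (19, 19), (20, 20), (21, 21), (22, 12),
    (22, 22), (23, 15), (23, 23), (24, 0), (24, 2), (24, 3), (24, 7), (24, 24), (25, 25), (26,
    17), (26, 26), (27, 20), (27, 27)]

def rank21 : List (ℕ × ℕ) := [(0, 0), (0, 6), (1, 1), (1, 6), (2, 2), (2, 6), (3, 3), (4, 4), (5, 5), (6, 6), (7, 7), (8,
    8), (9, 9), (10, 10), (11, 11), (12, 4), (12, 12), (13, 13), (14, 14), (15, 5), (15, 15),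
    (16, 16), (17, 8), (17, 17), (18, 18), (19, 19), (20, 9), (20, 20), (21, 21), (22, 11),
    (22, 22), (23, 14), (23, 23), (24, 24), (25, 0), (25, 2), (25, 3), (25, 6), (25, 25), (26,
    16), (26, 26), (27, 19), (27, 27)]

def rankPair : List (ℕ × ℕ) := [(0, 0), (0, 6), (0, 7), (1, 1), (1, 6), (1, 7), (2, 2), (2, 6), (3, 3), (3, 7), (4, 4), (5,
    5), (6, 6), (7, 7), (8, 8), (9, 9), (10, 10), (11, 4), (11, 11), (12, 4), (12, 12), (13,
    13), (14, 5), (14, 14), (15, 5), (15, 15), (16, 8), (16, 16), (17, 8), (17, 17), (18, 18),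
    (19, 9), (19, 19), (20, 9), (20, 20), (21, 21), (22, 4), (22, 11), (22, 12), (22, 22),
    (23, 5), (23, 14), (23, 15), (23, 23), (24, 0), (24, 2), (24, 3), (24, 7), (24, 24), (25,
    0), (25, 2), (25, 3), (25, 6), (25, 25), (26, 8), (26, 16), (26, 17), (26, 26), (27, 9),
    (27, 19), (27, 20), (27, 27)]

def rankTriple : List (ℕ × ℕ) := [(0, 0), (0, 6), (0, 7), (1, 1), (1, 6), (1, 7), (1, 10), (2, 2), (2, 6), (2, 10), (3, 3), (3,
    7), (3, 10), (4, 4), (5, 5), (6, 6), (7, 7), (8, 4), (8, 8), (9, 5), (9, 9), (10, 10),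
    (11, 4), (11, 11), (12, 4), (12, 12), (13, 13), (14, 5), (14, 14), (15, 5), (15, 15), (16,
    4), (16, 8), (16, 11), (16, 16), (17, 4), (17, 8), (17, 12), (17, 17), (18, 18), (19, 5),
    (19, 9), (19, 14), (19, 19), (20, 5), (20, 9), (20, 15), (20, 20), (21, 0), (21, 2), (21,
    3), (21, 10), (21, 21), (22, 4), (22, 11), (22, 12), (22, 22), (23, 5), (23, 14), (23,
    15), (23, 23), (24, 0), (24, 2), (24, 3), (24, 7), (24, 24), (25, 0), (25, 2), (25, 3),
    (25, 6), (25, 25), (26, 4), (26, 8), (26, 11), (26, 12), (26, 16), (26, 17), (26, 22),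
    (26, 26), (27, 5), (27, 9), (27, 14), (27, 15), (27, 19), (27, 20), (27, 23), (27, 27)]

def rankCols : List ℕ := [1, 4, 5, 6, 7, 8, 10, 11, 12, 13]

def rankPivots : List ℕ := [0, 4, 5, 6, 7, 8, 9, 10, 11, 12, 14]

def rankRows : List (List ℕ) := [[1, 2, 3, 21], [8], [9], [1, 3], [1, 2], [8, 16, 17, 26], [9, 19, 20, 27], [1, 2, 3], [17, 26], [16, 26], [20, 27]]

/-- The selection of the listed coordinates. -/
def sel {k : ℕ} (L : List ℕ) : Matrix chevD4.Idx (Fin k) (ZMod 2) :=
  Matrix.of fun i j => if code i = L.getD j.val 100 then 1 else 0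

/-- The combinations of the listed rows. -/
def comb {k : ℕ} (L : List (List ℕ)) : Matrix (Fin k) chevD4.Idx (ZMod 2) :=
  Matrix.of fun i j => if code j ∈ L.getD i.val [] then 1 else 0

theorem x_table : chevD4.x (ZMod 2) 23 1 = tab rank23 ∧ chevD4.x (ZMod 2) 17 1 = tab rank17 ∧
    chevD4.x (ZMod 2) 20 1 = tab rank20 ∧ chevD4.x (ZMod 2) 21 1 = tab rank21 := by
  decide +kernel

theorem pair_table : tab rank20 * tab rank21 = tab rankPair := by decide +kernel

theorem triple_table : tab rank17 * tab rankPair = tab rankTriple := by decide +kernel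

theorem long_factor :
    tab rank23 - 1 = (tab rank23 - 1) * sel (k := 10) rankCols * (sel (k := 10) rankCols).transpose := by
  decide +kernel

theorem triple_minor :
    comb (k := 11) rankRows * (tab rankTriple - 1) * sel (k := 11) rankPivots = 1 := by
  decide +kernel

variable {K : Type*} [Field K]

theorem x_map (f : ZMod 2 →+* K) (r : ℕ) (t : ZMod 2) :
    (chevD4.x (ZMod 2) r t).map f = chevD4.x K r (f t) := by
  unfold ChevalleyDatum.x
  split
  · ext i j
    simp only [ChevalleyDatum.xMat, Matrix.map_apply, Matrix.of_apply]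
    rcases i with i | i <;> rcases j with j | j <;> simp only [] <;>
      repeat' split_ifs
    all_goals simp only [map_zero, map_one, map_neg, map_mul, map_pow, map_add, map_intCast,
      map_list_sum, List.map_map, Function.comp_def]
  · exact Matrix.map_one _ (map_zero f) (map_one f)

/-- The two elements are not conjugate. -/
theorem not_conj [CharP K 2] {g z t : GL chevD4.Idx K}
    (hz : (z : Matrix chevD4.Idx chevD4.Idx K) = chevD4.x K 23 1)
    (ht : (t : Matrix chevD4.Idx chevD4.Idx K) =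
      chevD4.x K 17 1 * (chevD4.x K 20 1 * chevD4.x K 21 1)) :
    g * z * g⁻¹ ≠ t := by
  intro h
  set f := ZMod.castHom (dvd_refl 2) K
  obtain ⟨e23, e17, e20, e21⟩ := x_table
  have hZ : (z : Matrix chevD4.Idx chevD4.Idx K) - 1 = (tab rank23 - 1).map f := by
    rw [hz, ← map_one f, ← x_map f, e23]
    simp [← RingHom.mapMatrix_apply]
  have hT : (t : Matrix chevD4.Idx chevD4.Idx K) - 1 = (tab rankTriple - 1).map f := by
    rw [ht, ← map_one f, ← x_map f, ← x_map f, ← x_map f, e17, e20, e21, ← triple_table, ← pair_table]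
    simp [← RingHom.mapMatrix_apply]
  set A := ((tab rank23 - 1) * sel (k := 10) rankCols).map f
  set B := ((sel (k := 10) rankCols).transpose).map f
  have hAB : (z : Matrix chevD4.Idx chevD4.Idx K) - 1 = A * B := by
    rw [hZ, ← Matrix.map_mul, ← long_factor]
  have hone : (comb (k := 11) rankRows).map f * ((t : Matrix chevD4.Idx chevD4.Idx K) - 1) *
      (sel (k := 11) rankPivots).map f = 1 := by
    rw [hT, ← Matrix.map_mul, ← Matrix.map_mul, triple_minor, Matrix.map_one _ (map_zero f) (map_one f)]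
  have hconj : (t : Matrix chevD4.Idx chevD4.Idx K) - 1 =
      (g : Matrix chevD4.Idx chevD4.Idx K) * (A * B) * ((g⁻¹ : GL chevD4.Idx K) : Matrix chevD4.Idx chevD4.Idx K) := by
    rw [← hAB, ← h, Units.val_mul, Units.val_mul, Matrix.mul_sub, Matrix.sub_mul, Matrix.mul_one,
      ← Units.val_mul g g⁻¹, mul_inv_cancel, Units.val_one]
  have h1 : ((comb (k := 11) rankRows).map f * (g : Matrix chevD4.Idx chevD4.Idx K) * A) *
      (B * ((g⁻¹ : GL chevD4.Idx K) : Matrix chevD4.Idx chevD4.Idx K) * (sel (k := 11) rankPivots).map f) = 1 := by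
    rw [← hone, hconj]
    simp only [Matrix.mul_assoc]
  have h2 := Matrix.rank_mul_le_left
    ((comb (k := 11) rankRows).map f * (g : Matrix chevD4.Idx chevD4.Idx K) * A)
    (B * ((g⁻¹ : GL chevD4.Idx K) : Matrix chevD4.Idx chevD4.Idx K) * (sel (k := 11) rankPivots).map f)
  rw [h1, Matrix.rank_one, Fintype.card_fin] at h2
  exact absurd (h2.trans (Matrix.rank_le_width _)) (by norm_num)

end CfsgLib.Twisted.D4Rank
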