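import Cfsg.Agent.Lib.TwistedStr.D4InvolutionCases
import Cfsg.Agent.Lib.TwistedStr.D4Rank
import Cfsg.Agent.Lib.TwistedStr.StrD4

/-!
`³D₄(q)`, `q` even, has two classes of involutions.
-/

set_option autoImplicit false
set_option linter.unusedSectionVars false
set_option linter.unusedSimpArgs false
set_option linter.style.haveILetI false

namespace CfsgLib.Twisted.D4Uni

open Cfsg.Lie CfsgLib.ChevStr
open scoped MatrixGroups

variable (K : Type*) [Field K] [Fintype K] [CharP K 2] {n : ℕ}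
  (hn : Fintype.card K = 2 ^ n * 2 ^ n * 2 ^ n) (hq : 2 ≤ 2 ^ n)

/-- The field automorphism attached to the twist. -/
noncomputable def sig (n : ℕ) : K →+* K :=
  haveI : ExpChar K 2 := ExpChar.prime Nat.prime_two
  iterateFrobenius K 2 n

omit [Fintype K] in
theorem sig_apply (x : K) : sig K n x = x ^ 2 ^ n := by
  rw [sig, iterateFrobenius_def]

include hn in
theorem sig_cube (x : K) : sig K n (sig K n (sig K n x)) = x := by
  rw [sig_apply, sig_apply, sig_apply, ← pow_mul, ← pow_mul, ← mul_assoc, ← hn, FiniteField.pow_card]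

theorem root_facts : ∀ rk ∈ [(14, 14), (18, 13), (13, 12), (12, 18), (19, 16), (16, 15), (15, 19),
      (17, 20), (20, 21), (21, 17), (22, 22), (23, 23)],
    (rk : ℕ × ℕ).1 < chevD4.nroots ∧ d4aSym.root rk.1 = rk.2 ∧
      d4aSym.sign rk.1 ∈ [(1 : ℤ), -1] := by decide +kernel

theorem refl_facts : ∀ irk ∈ [((0 : Fin 2), 14, 22), (0, 17, 19), (0, 20, 16), (0, 21, 15), (0, 19, 17),
      (0, 16, 20), (0, 15, 21), (1, 18, 19), (1, 13, 16), (1, 12, 15), (1, 19, 18), (1, 16, 13),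
      (1, 15, 12), (1, 17, 17), (1, 20, 20), (1, 21, 21), (1, 22, 23), (1, 23, 22)],
    ∃ h : (irk : Fin 2 × ℕ × ℕ).2.1 < chevD4.nroots,
      (reflDataD4.wordPerm (d4TwistWord irk.1) ⟨irk.2.1, h⟩ : ℕ) = irk.2.2 := by
  decide +kernel

theorem char_facts : (chevD4.cartan 0 17, chevD4.cartan 1 17, chevD4.cartan 2 17, chevD4.cartan 3 17) =
      ((-1 : ℤ), (0 : ℤ), (1 : ℤ), (1 : ℤ)) ∧
    (chevD4.cartan 0 23, chevD4.cartan 1 23, chevD4.cartan 2 23, chevD4.cartan 3 23) =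
      ((0 : ℤ), (1 : ℤ), (0 : ℤ), (0 : ℤ)) := by decide +kernel

variable {K}

omit [Fintype K] in
theorem act_X [ExpChar K 2] {r k : ℕ} (h : (r, k) ∈ [(14, 14), (18, 13), (13, 12), (12, 18), (19, 16),
      (16, 15), (15, 19), (17, 20), (20, 21), (21, 17), (22, 22), (23, 23)]) (t : K) :
    (frobD4 K 2 n).act (X r t) = X k (sig K n t) := by
  obtain ⟨h1, h2, h3⟩ := root_facts _ h
  have hsign : ((d4aSym.sign r : ℤ) : K) = 1 := by
    simp only [List.mem_cons, List.not_mem_nil, or_false] at h3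
    rcases h3 with e | e <;> simp [e, CharTwo.neg_eq]
  simp only at h1 h2
  rw [X, (frobD4 K 2 n).act_word (root := d4aSym.root) (fun _ => rfl) h1, h2]
  show (coreD4 K).xGL k ((d4aSym.sign r : K) * t ^ 2 ^ n) = _
  rw [hsign, one_mul, ← sig_apply]
  rfl

omit [Fintype K] in
theorem act_E [ExpChar K 2] (a b b1 b2 c c1 c2 d d1 d2 e f : K) :
    (frobD4 K 2 n).act (E12 a b b1 b2 c c1 c2 d d1 d2 e f) =
      E12 (sig K n a) (sig K n b2) (sig K n b) (sig K n b1) (sig K n c2) (sig K n c) (sig K n c1)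
        (sig K n d2) (sig K n d) (sig K n d1) (sig K n e) (sig K n f) := by
  simp only [E12]
  repeat rw [(frobD4 K 2 n).act_mul (X_mem _ _) (by repeat' first
    | exact one_mem _ | exact X_mem _ _ | apply mul_mem)]
  rw [(frobD4 K 2 n).act_one, act_X (k := 14) (by simp), act_X (k := 13) (by simp),
    act_X (k := 12) (by simp), act_X (k := 18) (by simp), act_X (k := 16) (by simp),
    act_X (k := 15) (by simp), act_X (k := 19) (by simp), act_X (k := 20) (by simp),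
    act_X (k := 21) (by simp), act_X (k := 17) (by simp), act_X (k := 22) (by simp),
    act_X (k := 23) (by simp)]
  simp only [p13_18, p12_18, p12_13, p16_19, p15_19, p15_16, p20_17, p21_17, p21_20,
    cm_of (F := K) 18 13 (by decide +kernel), cm_of (F := K) 18 12 (by decide +kernel),
    cm_of (F := K) 19 16 (by decide +kernel), cm_of (F := K) 19 15 (by decide +kernel),
    cm_of (F := K) 17 20 (by decide +kernel), cm_of (F := K) 17 21 (by decide +kernel)]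

omit [Fintype K] in
theorem exists_E {u : GL chevD4.Idx K} (hu : u ∈ chevD4.posUnipotent K) :
    ∃ a b b1 b2 c c1 c2 d d1 d2 e f, u = E12 a b b1 b2 c c1 c2 d d1 d2 e f := by
  have hset : ∀ r : Fin chevD4.nroots, (r : ℕ) ∈ [12, 13, 14, 15, 16, 17, 18, 19, 20, 21, 22, 23] ↔
      chevD4.IsPosRoot r := by decide +kernel
  have heq : {r | r ∈ [12, 13, 14, 15, 16, 17, 18, 19, 20, 21, 22, 23]} =
      {r | chevD4.IsPosRoot r} := by
    refine Set.ext fun r => ⟨fun hr => ?_, fun hr => (hset ⟨r, hr.1⟩).2 hr⟩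
    have h : ∀ r ∈ [12, 13, 14, 15, 16, 17, 18, 19, 20, 21, 22, 23], r < chevD4.nroots := by
      decide +kernel
    exact (hset ⟨r, h r hr⟩).1 hr
  obtain ⟨v, rfl⟩ := (coreD4 K).exists_word (L := [12, 13, 14, 15, 16, 17, 18, 19, 20, 21, 22, 23])
    (by decide) (heq ▸ (coreD4 K).R.isClosed_pos) u
    (by rw [heq, ← (coreD4 K).posUnipotent_eq]; exact hu)
  refine ⟨v 14, v 18, v 13, v 12, v 19, v 16 - v 14 * v 13, v 15 - v 14 * v 12,
    v 17 - v 14 * v 13 * v 12, v 20 - v 18 * (v 15 - v 14 * v 12),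
    v 21 - v 18 * (v 16 - v 14 * v 13), v 22 - v 18 * (v 17 - v 14 * v 13 * v 12),
    v 23 - v 19 * (v 17 - v 14 * v 13 * v 12) - v 18 * (v 16 - v 14 * v 13) * (v 15 - v 14 * v 12), ?_⟩
  rw [E_sorted]
  simp only [X, (coreD4 K).word_cons, (coreD4 K).word_nil]
  repeat' refine mul_congr ?_ ?_
  all_goals first
    | rfl
    | (refine congrArg _ ?_; ring1)

omit [Fintype K] in
theorem E_mem_pos (a b b1 b2 c c1 c2 d d1 d2 e f : K) :
    E12 a b b1 b2 c c1 c2 d d1 d2 e f ∈ chevD4.posUnipotent K := by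
  have hp : ∀ r ∈ [12, 13, 14, 15, 16, 17, 18, 19, 20, 21, 22, 23], chevD4.IsPosRoot r := by
    decide +kernel
  simp only [E12, X]
  repeat' first
    | exact one_mem _
    | exact (coreD4 K).xGL_mem_posUnipotent (hp _ (by simp)) _
    | apply mul_mem

include hn hq

theorem mem_tw {a b b1 b2 c c1 c2 d d1 d2 e f : K}
    (h : E12 a b b1 b2 c c1 c2 d d1 d2 e f ∈ twistedD4 K (2 ^ n)) :
    E12 a b b1 b2 c c1 c2 d d1 d2 e f = tw (sig K n) a b c d e f ∧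
      sig K n a = a ∧ sig K n e = e ∧ sig K n f = f := by
  haveI : ExpChar K 2 := ExpChar.prime Nat.prime_two
  have hfix := ((gensD4 K hn hq).le_fixed h).2
  rw [act_E] at hfix
  obtain ⟨ha, -, rfl, rfl, -, rfl, rfl, -, rfl, rfl, he, hf⟩ := E_inj hfix
  exact ⟨rfl, ha, he, hf⟩

theorem fix_tw : Fix (sig K n) (twistedD4 K (2 ^ n)) := by
  haveI : ExpChar K 2 := ExpChar.prime Nat.prime_two
  refine ⟨sig_cube K hn, fun a b c d e f => ⟨fun h => (mem_tw hn hq h).2, fun ⟨ha, he, hf⟩ =>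
    (gensD4 K hn hq).twist.U1_le _
      (show tw (sig K n) a b c d e f ∈ chevD4.posUnipotent K from E_mem_pos _ _ _ _ _ _ _ _ _ _ _ _) ?_⟩⟩
  show (frobD4 K 2 n).act (tw (sig K n) a b c d e f) = _
  rw [tw, act_E, ha, he, hf, sig_cube K hn, sig_cube K hn, sig_cube K hn]

theorem conj_X {i : Fin 2} {r k : ℕ}
    (h : (i, r, k) ∈ [((0 : Fin 2), 14, 22), (0, 17, 19), (0, 20, 16), (0, 21, 15), (0, 19, 17),
      (0, 16, 20), (0, 15, 21), (1, 18, 19), (1, 13, 16), (1, 12, 15), (1, 19, 18), (1, 16, 13),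
      (1, 15, 12), (1, 17, 17), (1, 20, 20), (1, 21, 21), (1, 22, 23), (1, 23, 22)]) (t : K) :
    haveI : ExpChar K 2 := ExpChar.prime Nat.prime_two
    ∃ u, (t ≠ 0 → u ≠ 0) ∧
      MulAut.conj ((gensD4 K hn hq).s i) (X r t) = X k u := by
  haveI : ExpChar K 2 := ExpChar.prime Nat.prime_two
  have g := gensD4 K hn hq
  obtain ⟨hr, hrk⟩ := refl_facts _ h
  simp only at hr hrk
  obtain ⟨u, hu⟩ := ((gensD4 K hn hq).s_moves i).2 ⟨r, hr⟩ t
  have hw : (gensD4 K hn hq).wJ i = reflDataD4.wordPerm (d4TwistWord i) :=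
    (gensD4 K hn hq).wJ_eq i ((reflDataD4.weylSub _).list_prod_mem fun x hx => by
      obtain ⟨j, hj, rfl⟩ := List.mem_map.1 hx
      exact reflDataD4.sPerm_mem_sub (d4_word_mem i j hj)) (d4_word_neg i)
  rw [hw] at hu
  refine ⟨u, fun ht h0 => ht ?_, ?_⟩
  · subst h0
    rw [(coreD4 K).xGL_zero] at hu
    exact ((coreD4 K).xGL_eq_one_iff hr).1 (conj_eq_one_iff.1 hu)
  · rw [MulAut.conj_apply, X, X, hu, hrk]

theorem s_mem' (i : Fin 2) :
    haveI : ExpChar K 2 := ExpChar.prime Nat.prime_two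
    (gensD4 K hn hq).s i ∈ twistedD4 K (2 ^ n) :=
  (gensD4 K hn hq).s_mem i

theorem rel_conj {g : GL chevD4.Idx K} (hg : g ∈ twistedD4 K (2 ^ n)) (i : Fin 2)
    {a b b1 b2 c c1 c2 d d1 d2 e f : K}
    (h : haveI : ExpChar K 2 := ExpChar.prime Nat.prime_two
      MulAut.conj ((gensD4 K hn hq).s i) g = E12 a b b1 b2 c c1 c2 d d1 d2 e f) :
    Rel (twistedD4 K (2 ^ n)) g (tw (sig K n) a b c d e f) := by
  haveI : ExpChar K 2 := ExpChar.prime Nat.prime_two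
  have hr : Rel (twistedD4 K (2 ^ n)) g (E12 a b b1 b2 c c1 c2 d d1 d2 e f) :=
    ⟨_, s_mem' hn hq i, by rw [← h, MulAut.conj_apply]⟩
  rwa [(mem_tw hn hq (hr.mem hg)).1] at hr

theorem move_a (a d : K) (_ha : a ≠ 0) (hm : tw (sig K n) a 0 0 d 0 0 ∈ twistedD4 K (2 ^ n)) :
    ∃ c e, Rel (twistedD4 K (2 ^ n)) (tw (sig K n) a 0 0 d 0 0) (tw (sig K n) 0 0 c 0 e 0) := by
  obtain ⟨u1, -, h1⟩ := conj_X hn hq (i := 0) (r := 14) (k := 22) (by simp) a
  obtain ⟨u2, -, h2⟩ := conj_X hn hq (i := 0) (r := 17) (k := 19) (by simp) d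
  obtain ⟨u3, -, h3⟩ := conj_X hn hq (i := 0) (r := 20) (k := 16) (by simp) (sig K n d)
  obtain ⟨u4, -, h4⟩ := conj_X hn hq (i := 0) (r := 21) (k := 15) (by simp) (sig K n (sig K n d))
  refine ⟨u2, u1, rel_conj hn hq hm 0 (b1 := 0) (b2 := 0) (c1 := u3) (c2 := u4) (d1 := 0) (d2 := 0) ?_⟩
  simp only [tw, E12, map_zero, X_zero, one_mul, mul_one, map_mul, h1, h2, h3, h4]
  rw [← mul_one (X 15 u4)]
  simp only [p22_19, p22_16, p22_15]
  simp only [mul_assoc, one_mul, mul_one]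

theorem move_b (c d e f : K) (hc : c ≠ 0) (hm : tw (sig K n) 0 0 c d e f ∈ twistedD4 K (2 ^ n)) :
    ∃ b d' e' f', b ≠ 0 ∧
      Rel (twistedD4 K (2 ^ n)) (tw (sig K n) 0 0 c d e f) (tw (sig K n) 0 b 0 d' e' f') := by
  obtain ⟨u1, hu, h1⟩ := conj_X hn hq (i := 1) (r := 19) (k := 18) (by simp) c
  obtain ⟨u2, -, h2⟩ := conj_X hn hq (i := 1) (r := 16) (k := 13) (by simp) (sig K n c)
  obtain ⟨u3, -, h3⟩ := conj_X hn hq (i := 1) (r := 15) (k := 12) (by simp) (sig K n (sig K n c))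
  obtain ⟨u4, -, h4⟩ := conj_X hn hq (i := 1) (r := 17) (k := 17) (by simp) d
  obtain ⟨u5, -, h5⟩ := conj_X hn hq (i := 1) (r := 20) (k := 20) (by simp) (sig K n d)
  obtain ⟨u6, -, h6⟩ := conj_X hn hq (i := 1) (r := 21) (k := 21) (by simp) (sig K n (sig K n d))
  obtain ⟨u7, -, h7⟩ := conj_X hn hq (i := 1) (r := 22) (k := 23) (by simp) e
  obtain ⟨u8, -, h8⟩ := conj_X hn hq (i := 1) (r := 23) (k := 22) (by simp) f
  refine ⟨u1, u4, u8, u7, hu hc,
    rel_conj hn hq hm 1 (b1 := u2) (b2 := u3) (c1 := 0) (c2 := 0) (d1 := u5) (d2 := u6) ?_⟩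
  simp only [tw, E12, map_zero, X_zero, one_mul, map_mul, map_one, h1, h2, h3, h4, h5, h6, h7, h8]
  rw [p23_22]

theorem move_ab (b : K) (hb : b ≠ 0) (hm : tw (sig K n) 0 b 0 0 0 0 ∈ twistedD4 K (2 ^ n)) :
    ∃ d, d ≠ 0 ∧ Rel (twistedD4 K (2 ^ n)) (tw (sig K n) 0 b 0 0 0 0) (tw (sig K n) 0 0 0 d 0 0) := by
  obtain ⟨u1, hu1, h1⟩ := conj_X hn hq (i := 1) (r := 18) (k := 19) (by simp) b
  obtain ⟨u2, -, h2⟩ := conj_X hn hq (i := 1) (r := 13) (k := 16) (by simp) (sig K n b)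
  obtain ⟨u3, -, h3⟩ := conj_X hn hq (i := 1) (r := 12) (k := 15) (by simp) (sig K n (sig K n b))
  have r1 : Rel (twistedD4 K (2 ^ n)) (tw (sig K n) 0 b 0 0 0 0) (tw (sig K n) 0 0 u1 0 0 0) := by
    refine rel_conj hn hq hm 1 (b1 := 0) (b2 := 0) (c1 := u2) (c2 := u3) (d1 := 0) (d2 := 0) ?_
    simp only [tw, E12, map_zero, X_zero, one_mul, mul_one, map_mul, h1, h2, h3]
  obtain ⟨v1, hv1, k1⟩ := conj_X hn hq (i := 0) (r := 19) (k := 17) (by simp) u1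
  obtain ⟨v2, -, k2⟩ := conj_X hn hq (i := 0) (r := 16) (k := 20) (by simp) (sig K n u1)
  obtain ⟨v3, -, k3⟩ := conj_X hn hq (i := 0) (r := 15) (k := 21) (by simp) (sig K n (sig K n u1))
  refine ⟨v1, hv1 (hu1 hb), r1.trans ?_⟩
  refine rel_conj hn hq (r1.mem hm) 0 (b1 := 0) (b2 := 0) (c1 := 0) (c2 := 0) (d1 := v2) (d2 := v3) ?_
  simp only [tw, E12, map_zero, X_zero, one_mul, mul_one, map_mul, k1, k2, k3]

theorem move_e (e : K) (he : e ≠ 0) (hm : tw (sig K n) 0 0 0 0 e 0 ∈ twistedD4 K (2 ^ n)) :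
    ∃ f, f ≠ 0 ∧ Rel (twistedD4 K (2 ^ n)) (tw (sig K n) 0 0 0 0 e 0) (tw (sig K n) 0 0 0 0 0 f) := by
  obtain ⟨u, hu, h1⟩ := conj_X hn hq (i := 1) (r := 22) (k := 23) (by simp) e
  refine ⟨u, hu he, rel_conj hn hq hm 1 (b1 := 0) (b2 := 0) (c1 := 0) (c2 := 0) (d1 := 0) (d2 := 0) ?_⟩
  simp only [tw, E12, map_zero, X_zero, one_mul, mul_one, h1]

theorem conj_torus (c : Fin chevD4.rank → Kˣ) {r : ℕ} (hr : r < chevD4.nroots) (t : K) :
    MulAut.conj ((coreD4 K).R.torus c) (X r t) =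
      X r (((c (nodeD4 0) ^ chevD4.cartan 0 r * c (nodeD4 1) ^ chevD4.cartan 1 r *
        c (nodeD4 2) ^ chevD4.cartan 2 r * c (nodeD4 3) ^ chevD4.cartan 3 r : Kˣ) : K) * t) := by
  rw [MulAut.conj_apply, X, X, (coreD4 K).acts_torus c ⟨r, hr⟩ t, (coreD4 K).R.torusChar_root c hr,
    prod_nodeD4]
  rfl

theorem scale_d (d : K) (hd : d ≠ 0) :
    Rel (twistedD4 K (2 ^ n)) (tw (sig K n) 0 0 0 d 0 0) (tw (sig K n) 0 0 0 1 0 0) := by
  haveI : ExpChar K 2 := ExpChar.prime Nat.prime_two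
  have hs := sig_cube K hn
  set s := sig K n with hsdef
  set t := d⁻¹ with htdef
  have ht : t ≠ 0 := inv_ne_zero hd
  have ht1 : s t ≠ 0 := (map_ne_zero s).2 ht
  have ht2 : s (s t) ≠ 0 := (map_ne_zero s).2 ht1
  obtain ⟨w, hw⟩ := FiniteField.isSquare_of_char_two (F := K) (ringChar.eq K 2) (s t * s (s t))
  have hw0 : w ≠ 0 := fun e => mul_ne_zero ht1 ht2 (by rw [hw, e, mul_zero])
  have hchi : w⁻¹ * (s w * s (s w)) = t := by
    refine CharTwo.sq_injective (R := K) ?_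
    show (w⁻¹ * (s w * s (s w))) ^ 2 = t ^ 2
    have e1 : s w ^ 2 = s (s t) * t := by
      rw [← map_pow, sq, ← hw, map_mul, hs]
    have e2 : s (s w) ^ 2 = t * s t := by
      rw [← map_pow, e1, map_mul, hs]
    rw [mul_pow, mul_pow, e1, e2, inv_pow, sq w, ← hw]
    field_simp
  set u := Units.mk0 w hw0
  set c : Fin chevD4.rank → Kˣ := fun j => [u, 1, u ^ 2 ^ n, (u ^ 2 ^ n) ^ 2 ^ n].getD j.val 1
  have hc : (coreD4 K).R.torus c ∈ twistedD4 K (2 ^ n) := by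
    refine fixTorus_leD4 K hn _ (mem_fixTorus.2 fun j => ?_)
    obtain ⟨e0, e1, e2, e3⟩ := piD4_vals
    rcases nodeD4_cases j with rfl | rfl | rfl | rfl <;>
      simp only [e0, e1, e2, e3] <;> simp [c, nodeD4, unit_pow_cube K hn]
  have hm : tw s 0 0 0 d 0 0 ∈ twistedD4 K (2 ^ n) :=
    ((fix_tw hn hq).2 ..).2 ⟨map_zero _, map_zero _, map_zero _⟩
  have h17 := conj_torus hn hq c (r := 17) (by decide) d
  have hval : ((c (nodeD4 0) ^ chevD4.cartan 0 17 * c (nodeD4 1) ^ chevD4.cartan 1 17 *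
      c (nodeD4 2) ^ chevD4.cartan 2 17 * c (nodeD4 3) ^ chevD4.cartan 3 17 : Kˣ) : K) * d = 1 := by
    obtain ⟨⟨k0, k1, k2, k3⟩, -⟩ := by simpa using char_facts
    rw [k0, k1, k2, k3]
    simp only [c, nodeD4, List.getD_cons_zero, List.getD_cons_succ, zpow_neg_one, zpow_zero, mul_one,
      zpow_one, Units.val_mul, Units.val_inv_eq_inv_val, Units.val_pow_eq_pow_val]
    rw [← sig_apply, ← sig_apply, ← hsdef, show (u : K) = w from rfl, mul_assoc w⁻¹, hchi, htdef,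
      inv_mul_cancel₀ hd]
  rw [hval] at h17
  obtain ⟨v1, h20⟩ : ∃ v, MulAut.conj ((coreD4 K).R.torus c) (X 20 (s d)) = X 20 v :=
    ⟨_, conj_torus hn hq c (by decide) _⟩
  obtain ⟨v2, h21⟩ : ∃ v, MulAut.conj ((coreD4 K).R.torus c) (X 21 (s (s d))) = X 21 v :=
    ⟨_, conj_torus hn hq c (by decide) _⟩
  have hr : Rel (twistedD4 K (2 ^ n)) (tw s 0 0 0 d 0 0) (E12 0 0 0 0 0 0 0 1 v1 v2 0 0) := by
    refine ⟨_, hc, ?_⟩
    rw [← MulAut.conj_apply]
    simp only [tw, E12, map_zero, X_zero, one_mul, mul_one, map_mul, h17, h20, h21]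
  rwa [(mem_tw hn hq (hr.mem hm)).1] at hr

theorem scale_f (f : K) (hf0 : f ≠ 0) (hf : sig K n f = f) :
    Rel (twistedD4 K (2 ^ n)) (tw (sig K n) 0 0 0 0 0 f) (tw (sig K n) 0 0 0 0 0 1) := by
  haveI : ExpChar K 2 := ExpChar.prime Nat.prime_two
  set u := (Units.mk0 f hf0)⁻¹
  have hu : u ^ 2 ^ n = u := Units.ext (by
    simp only [u, Units.val_pow_eq_pow_val, Units.val_inv_eq_inv_val, Units.val_mk0, inv_pow,
      ← sig_apply, hf])
  set c : Fin chevD4.rank → Kˣ := fun j => [1, u, 1, 1].getD j.val 1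
  have hc : (coreD4 K).R.torus c ∈ twistedD4 K (2 ^ n) := by
    refine fixTorus_leD4 K hn _ (mem_fixTorus.2 fun j => ?_)
    obtain ⟨e0, e1, e2, e3⟩ := piD4_vals
    rcases nodeD4_cases j with rfl | rfl | rfl | rfl <;>
      simp only [e0, e1, e2, e3] <;> simp [c, nodeD4, hu]
  refine ⟨_, hc, ?_⟩
  rw [← MulAut.conj_apply]
  simp only [tw, E12, map_zero, X_zero, one_mul, mul_one]
  rw [conj_torus hn hq c (by decide)]
  obtain ⟨-, k0, k1, k2, k3⟩ := by simpa using char_facts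
  rw [k0, k1, k2, k3]
  simp [c, nodeD4, u, hf0]

theorem odd_index :
    ¬ 2 ∣ ((chevD4.posUnipotent K ⊓ twistedD4 K (2 ^ n)).subgroupOf (twistedD4 K (2 ^ n))).index ∧
      IsPGroup 2 ↥((chevD4.posUnipotent K ⊓ twistedD4 K (2 ^ n)).subgroupOf (twistedD4 K (2 ^ n))) := by
  haveI : ExpChar K 2 := ExpChar.prime Nat.prime_two
  set U := (chevD4.posUnipotent K ⊓ twistedD4 K (2 ^ n)).subgroupOf (twistedD4 K (2 ^ n))
  have hU : Nat.card ↥U = (2 ^ n) ^ 12 := by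
    rw [Nat.card_congr (Subgroup.subgroupOfEquivOfLe inf_le_right).toEquiv]
    refine Nat.pow_left_injective (show 3 ≠ 0 by norm_num) ?_
    show _ ^ 3 = _ ^ 3
    rw [(gensD4 K hn hq).card_U1, ncard_isPosRoot (N := 12) (by decide +kernel),
      Nat.card_eq_fintype_card, hn]
    ring
  refine ⟨fun hdvd => ?_, IsPGroup.of_card (n := n * 12) (by rw [hU, pow_mul])⟩
  have h := U.card_mul_index
  rw [hU, card_twistedD4 K hn hq, mul_assoc, mul_assoc] at h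
  have hi := Nat.eq_of_mul_eq_mul_left (by positivity) h
  rw [hi] at hdvd
  have hev : Even (2 ^ n) := (Nat.even_pow).2 ⟨even_two, by rintro rfl; simp at hq⟩
  have h2 : ∀ k, k ≠ 0 → Odd ((2 ^ n) ^ k - 1) := fun k hk => by
    rw [Nat.odd_iff]
    have h1 : (2 ^ n) ^ k % 2 = 0 := Nat.even_iff.1 ((Nat.even_pow).2 ⟨hev, hk⟩)
    have h2 : 1 ≤ (2 ^ n) ^ k := Nat.one_le_pow _ _ (by positivity)
    omega
  refine Nat.not_even_iff_odd.2 ?_ (even_iff_two_dvd.2 hdvd)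
  refine (h2 2 two_ne_zero).mul ((h2 6 (by norm_num)).mul ?_)
  exact (((Nat.even_pow).2 ⟨hev, by norm_num⟩).add ((Nat.even_pow).2 ⟨hev, by norm_num⟩)).add_one

theorem exists_std {x : GL chevD4.Idx K} (hx : x ∈ twistedD4 K (2 ^ n)) (h : orderOf x = 2) :
    Rel (twistedD4 K (2 ^ n)) x (tw (sig K n) 0 0 0 1 0 0) ∨
      Rel (twistedD4 K (2 ^ n)) x (tw (sig K n) 0 0 0 0 0 1) := by
  have : Fact (Nat.Prime 2) := ⟨Nat.prime_two⟩
  set G1 := twistedD4 K (2 ^ n)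
  obtain ⟨hidx, hp⟩ := odd_index hn hq
  set P := hp.toSylow hidx
  have hx1 : IsPGroup 2 ↥(Subgroup.zpowers (⟨x, hx⟩ : ↥G1)) :=
    IsPGroup.of_card (n := 1) (by rw [Nat.card_zpowers, ← Subgroup.orderOf_coe, h, pow_one])
  obtain ⟨Q, hQ⟩ := hx1.exists_le_sylow
  obtain ⟨k, hk⟩ := MulAction.exists_smul_eq (↥G1) Q P
  have hmem : k * ⟨x, hx⟩ * k⁻¹ ∈ (P : Subgroup ↥G1) := by
    rw [← hk, Sylow.coe_subgroup_smul]
    exact ⟨⟨x, hx⟩, hQ (Subgroup.mem_zpowers _), by simp [MulAut.conj_apply]⟩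
  have hmem' : (k : GL chevD4.Idx K) * x * (k : GL chevD4.Idx K)⁻¹ ∈
      chevD4.posUnipotent K ⊓ G1 := Subgroup.mem_subgroupOf.1 hmem
  obtain ⟨hu, hG⟩ := Subgroup.mem_inf.1 hmem'
  obtain ⟨a, b, b1, b2, c, c1, c2, d, d1, d2, e, f, hE⟩ := exists_E hu
  rw [hE] at hG
  rw [(mem_tw hn hq hG).1] at hE
  rw [(mem_tw hn hq hG).1] at hG
  have hrel : Rel G1 x (tw (sig K n) a b c d e f) := ⟨_, k.2, hE⟩
  have hxx : x * x = 1 := by rw [← sq, ← h, pow_orderOf_eq_one]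
  have hx0 : x ≠ 1 := fun e => by rw [e, orderOf_one] at h; exact absurd h (by norm_num)
  rcases reduce (fix_tw hn hq) (move_a hn hq) (move_b hn hq) (move_ab hn hq) (move_e hn hq) hG
      (hrel.sq_one hxx) (hrel.ne_one hx0) with ⟨y, hy, hr⟩ | ⟨y, hy, hr⟩
  · exact Or.inl ((hrel.trans hr).trans (scale_d hn hq y hy))
  · exact Or.inr ((hrel.trans hr).trans (scale_f hn hq y hy
      (((fix_tw hn hq).2 ..).1 (hr.mem hG)).2.2))

theorem involution_classes :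
    (ConjClasses.mk '' {g : ↥(twistedD4 K (2 ^ n)) | orderOf g = 2}).ncard = 2 := by
  classical
  have : Fact (Nat.Prime 2) := ⟨Nat.prime_two⟩
  have hfix := (fix_tw hn hq).2
  set T : ↥(twistedD4 K (2 ^ n)) :=
    ⟨tw (sig K n) 0 0 0 1 0 0, (hfix ..).2 ⟨map_zero _, map_zero _, map_zero _⟩⟩
  set Z : ↥(twistedD4 K (2 ^ n)) :=
    ⟨tw (sig K n) 0 0 0 0 0 1, (hfix ..).2 ⟨map_zero _, map_zero _, map_one _⟩⟩
  have hsq : ∀ d f : K, tw (sig K n) 0 0 0 d 0 f * tw (sig K n) 0 0 0 d 0 f = 1 := by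
    intro d f
    simp [tw, E_mul_E, ← E_zero, CharTwo.add_self_eq_zero]
  have hT : orderOf T = 2 := by
    refine orderOf_eq_prime (Subtype.ext ?_) fun e => ?_
    · show ((T : GL chevD4.Idx K) ^ 2) = 1
      rw [sq]; exact hsq 1 0
    · have := (tw_inj (s := sig K n) ((congrArg Subtype.val e).trans tw_zero.symm)).2.2.2.1
      exact one_ne_zero this
  have hZ : orderOf Z = 2 := by
    refine orderOf_eq_prime (Subtype.ext ?_) fun e => ?_
    · show ((Z : GL chevD4.Idx K) ^ 2) = 1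
      rw [sq]; exact hsq 0 1
    · have := (tw_inj (s := sig K n) ((congrArg Subtype.val e).trans tw_zero.symm)).2.2.2.2.2
      exact one_ne_zero this
  have himg : ConjClasses.mk '' {g : ↥(twistedD4 K (2 ^ n)) | orderOf g = 2} =
      {ConjClasses.mk T, ConjClasses.mk Z} := by
    refine Set.ext fun y => ⟨?_, ?_⟩
    · rintro ⟨g, hg, rfl⟩
      rcases exists_std hn hq g.2 (by rw [Subgroup.orderOf_coe]; exact hg) with ⟨k, hk, e⟩ | ⟨k, hk, e⟩
      · exact Or.inl (ConjClasses.mk_eq_mk_iff_isConj.2 (isConj_iff.2 ⟨⟨k, hk⟩, Subtype.ext e⟩))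
      · exact Or.inr (ConjClasses.mk_eq_mk_iff_isConj.2 (isConj_iff.2 ⟨⟨k, hk⟩, Subtype.ext e⟩))
    · rintro (rfl | rfl)
      exacts [⟨T, hT, rfl⟩, ⟨Z, hZ, rfl⟩]
  rw [himg]
  refine Set.ncard_pair fun e => ?_
  obtain ⟨k, hk⟩ := isConj_iff.1 (ConjClasses.mk_eq_mk_iff_isConj.1 e.symm)
  refine D4Rank.not_conj (g := (k : GL chevD4.Idx K)) (z := (Z : GL chevD4.Idx K))
    (t := (T : GL chevD4.Idx K)) ?_ ?_ (congrArg Subtype.val hk)
  · simp only [Z, tw, E12, map_zero, map_one, X_zero, one_mul, mul_one]; rfl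
  · simp only [T, tw, E12, map_zero, map_one, X_zero, one_mul, mul_one]; rfl

end CfsgLib.Twisted.D4Uni
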