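import Cfsg.Agent.Lib.TwistedStr.D4SubfieldGroup

/-!
The subfield subgroup is maximal in `³D₄(q)`: by induction on the length of the Bruhat cell, a
group above it without new coordinates in the outer root group is the subgroup itself.
-/

set_option autoImplicit false
set_option linter.unusedSectionVars false
set_option linter.unusedSimpArgs false

namespace CfsgLib.Twisted.D4Gen

open Cfsg.Lie CfsgLib.ChevStr
open scoped MatrixGroups

/-- The positive roots moved to positive ones by the representative of an orbit. -/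
def outList : Fin 2 → List ℕ
  | 0 => [15, 16, 17, 19, 20, 21, 22, 23]
  | 1 => [12, 13, 15, 16, 17, 18, 19, 20, 21, 22, 23]

theorem out_facts : ∀ i, ∀ r : Fin chevD4.nroots, (r : ℕ) ∈ outList i →
    chevD4.IsPosRoot (reflDataD4.wordPerm (d4TwistWord i) r) := by decide +kernel

theorem out_bound : ∀ i, ∀ r ∈ outList i, r < chevD4.nroots := by decide +kernel

theorem fixed_pos_facts : ∀ r : Fin chevD4.nroots, chevD4.IsPosRoot r → rhoD4 r = r →
    (r : ℕ) = 14 ∨ (r : ℕ) = 22 ∨ (r : ℕ) = 23 := by decide +kernel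

theorem fixed_sum_facts : ∀ r s : Fin chevD4.nroots, rhoD4 r = r →
    (∀ j, rootDataD4.α r j ≤ rootDataD4.α 14 j) → (r : ℕ) ≠ 14 →
    (∀ j, rootDataD4.α s j = rootDataD4.α r j + rootDataD4.α 14 j) →
    (r : ℕ) = 0 ∧ (s : ℕ) = 1 := by decide +kernel

theorem root_values : (∀ j : Fin chevD4.rank, rootDataD4.α 22 j = 1) ∧
    (∀ j : Fin chevD4.rank, rootDataD4.α 23 j = if j = nodeD4 1 then 2 else 1) ∧
    chevD4.neg 22 = 1 ∧ chevD4.neg 0 = 23 := by decide +kernel

theorem comm_facts : (∃ z ∈ [(1 : ℤ), -1], chevD4.commTerms 23 1 = [(14, z, 1, 1)]) ∧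
    cmOK 14 1 = true ∧ (∀ r ∈ [18, 13, 12], chevD4.IsPosRoot r) ∧
    (rhoD4 ⟨14, by decide⟩ = ⟨14, by decide⟩) ∧ (rhoD4 ⟨18, by decide⟩ = ⟨13, by decide⟩) ∧
    (rhoD4 ⟨13, by decide⟩ = ⟨12, by decide⟩) ∧ (rhoD4 ⟨22, by decide⟩ = ⟨22, by decide⟩) ∧
    (1 : ℕ) ≠ 23 ∧ (1 : ℕ) ≠ chevD4.neg 23 := by decide +kernel

variable {K : Type*} [Field K] [Fintype K] {p n : ℕ} [ExpChar K p]

local notation "σ" => frobEquiv K p n

theorem X14_eq (t : K) : X 14 t = tw K p n t 0 0 0 0 0 := by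
  simp [tw, E, X_zero]

theorem X22_eq (t : K) : X 22 t = tw K p n 0 0 0 0 t 0 := by
  simp [tw, E, X_zero]

theorem X23_eq (t : K) : X 23 t = tw K p n 0 0 0 0 0 t := by
  simp [tw, E, X_zero]

theorem X23_central (a b c d e f t : K) :
    tw K p n a b c d e f * X 23 t = X 23 t * tw K p n a b c d e f := by
  simp only [X23_eq (p := p) (n := n), tw, E_mul_E, map_zero, neg_zero]
  refine E_congr ?_ ?_ ?_ ?_ ?_ ?_ ?_ ?_ ?_ ?_ ?_ ?_ <;> ring

theorem conj_nonzero {g : GL chevD4.Idx K} {w : Equiv.Perm (Fin chevD4.nroots)}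
    (hw : (coreD4 K).Moves g w) (r : Fin chevD4.nroots) {k : ℕ} (hk : (w r : ℕ) = k) :
    ∃ u : K, u ≠ 0 ∧ g * X r 1 * g⁻¹ = X k u := by
  obtain ⟨u, hu⟩ := hw.2 r 1
  refine ⟨u, fun h0 => ?_, by rw [← hk]; exact hu⟩
  subst h0
  rw [(coreD4 K).xGL_zero] at hu
  exact one_ne_zero (((coreD4 K).xGL_eq_one_iff r.isLt).1 (conj_eq_one_iff.1 hu))

variable {H : Subgroup (GL chevD4.Idx K)} (o : Over p n H)
  (hS : ∀ y : K, y ∈ coordSet p n H → frobEquiv K p n y = y)
include o hS

theorem Over.fixed_of_pos {g : GL chevD4.Idx K} (hg : g ∈ H) (hU : g ∈ chevD4.posUnipotent K) :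
    frobGL K p n g = g := by
  obtain ⟨a, b, c, d, e, f, rfl, ha, hb, hc, hd, he, hf⟩ := o.inter_pos hS hg hU
  rw [frobGL_tw, ha, hb, hc, hd, he, hf]

/-- The elements of `H` in the Borel subgroup are fixed. -/
theorem Over.borel_case {u t : GL chevD4.Idx K} (hu : u ∈ chevD4.posUnipotent K)
    (huG : u ∈ twistedD4 K (p ^ n)) (ht : t ∈ chevD4.diagonalSubgroup K)
    (htG : t ∈ twistedD4 K (p ^ n)) (h : u * t ∈ H) : frobGL K p n (u * t) = u * t := by
  obtain ⟨c, rfl⟩ : ∃ c, (coreD4 K).R.torus c = t := by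
    have h' : t ∈ (coreD4 K).R.torus.range := (coreD4 K).diagonalSubgroup_eq ▸ ht
    exact h'
  obtain ⟨-, -, hpos, r14, r18, r13, -⟩ := comm_facts
  set χ : ℕ → Kˣ := fun r => (coreD4 K).R.torusChar c ((coreD4 K).R.α r)
  have hρ : ∀ r s : Fin chevD4.nroots, rhoD4 r = s → (χ s : K) = σ (χ r) := fun r s hrs => by
    have := (gensD4 K o.card o.two_le).char_fixed htG r
    rw [show (frobD4 K p n).ρ = rhoD4 from rfl, hrs,
      show (frobD4 K p n).e r = p ^ n from rfl] at this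
    rw [frobEquiv_apply, ← Units.val_pow_eq_pow_val]
    exact congrArg Units.val this
  have h14 : σ (χ 14 : K) = χ 14 := (hρ _ _ r14).symm
  have hA : ∀ r, r < chevD4.nroots → ∀ s : K, MulAut.conj ((coreD4 K).R.torus c) (X r s) =
      X r ((χ r : K) * s) := fun r hr s => by
    rw [MulAut.conj_apply]
    exact (coreD4 K).acts_torus c ⟨r, hr⟩ s
  have h18 : σ (χ 18 : K) = χ 18 := by
    have hA1 : tw K p n 0 1 0 0 0 0 ∈ H := o.fix_mem (map_one _)
    set Y := E 0 (χ 18 : K) (χ 13 : K) (χ 12 : K) 0 0 0 0 0 0 0 0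
    have hY : MulAut.conj ((coreD4 K).R.torus c) (tw K p n 0 1 0 0 0 0) = Y := by
      simp only [Y, tw, E, map_zero, neg_zero, map_one, X_zero, one_mul, map_mul,
        hA _ (hpos 18 (by simp)).1, hA _ (hpos 13 (by simp)).1, hA _ (hpos 12 (by simp)).1, mul_one]
    have hW : u * Y * u⁻¹ ∈ H := by
      have := mul_mem (mul_mem h hA1) (inv_mem h)
      rw [← hY, MulAut.conj_apply]
      simpa [mul_assoc] using this
    obtain ⟨a, b, c', d, e, f, hW', -, hb, -⟩ := o.inter_pos hS hW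
      (mul_mem (mul_mem hu (E_mem_pos _ _ _ _ _ _ _ _ _ _ _ _)) (inv_mem hu))
    obtain ⟨a₀, b₀, c₀, d₀, e₀, f₀, rfl, -⟩ := mem_tw o.card o.two_le huG hu
    have heq : tw K p n a₀ b₀ c₀ d₀ e₀ f₀ * Y = tw K p n a b c' d e f * tw K p n a₀ b₀ c₀ d₀ e₀ f₀ := by
      rw [← hW']; group
    simp only [Y, tw, E_mul_E] at heq
    obtain ⟨-, q2, -⟩ := E_inj heq
    rw [show (χ 18 : K) = b by linear_combination q2, hb]
  have h13 : σ (χ 13 : K) = χ 13 := by rw [hρ _ _ r18]; rw [h18, h18]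
  have h12 : σ (χ 12 : K) = χ 12 := by rw [hρ _ _ r13]; rw [h13, h13]
  have ht' : frobGL K p n ((coreD4 K).R.torus c) = (coreD4 K).R.torus c := by
    refine (ChevField.mapGL_torus (coreD4 K) (frobEquiv K p n) c).trans ?_
    set c' : Fin chevD4.rank → Kˣ := fun k => Units.map ((frobEquiv K p n).toRingHom : K →* K) (c k)
    rw [← mul_inv_eq_one, ← map_inv, ← map_mul]
    refine ((coreD4 K).torus_eq_one_iff _).2 (funext fun k => ?_)
    have hk : ∀ r, r < chevD4.nroots → σ (χ r : K) = χ r →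
        (coreD4 K).R.torusChar (c' * c⁻¹) ((coreD4 K).R.α r) = 1 := by
      intro r hr e
      have e1 : (coreD4 K).R.torusChar c' ((coreD4 K).R.α r) =
          Units.map ((frobEquiv K p n).toRingHom : K →* K) (χ r) := by
        simp only [χ, RootData.torusChar, c', map_prod, map_zpow]
      have e2 : (coreD4 K).R.torusChar c' ((coreD4 K).R.α r) = χ r := by
        rw [e1]; exact Units.ext e
      have e3 := (coreD4 K).R.torusChar_mul (c' * c⁻¹) c ((coreD4 K).R.α r)
      rw [inv_mul_cancel_right, e2] at e3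
      exact right_eq_mul.1 e3
    have hk' := hk (chevD4.simple k.val) ((coreD4 K).R.simple_lt k) (by
      obtain ⟨s0, s1, s2, s3, -⟩ := d4_simples
      rcases nodeD4_cases k with rfl | rfl | rfl | rfl <;> simp only [nodeD4, s0, s1, s2, s3]
      exacts [h18, h14, h13, h12])
    rw [← hk', (coreD4 K).R.torusChar_root _ ((coreD4 K).R.simple_lt k)]
    rfl
  have htH := o.sub _ htG ht'
  have huH : u ∈ H := by simpa [mul_assoc] using mul_mem h (inv_mem htH)
  rw [map_mul, ht', o.fixed_of_pos hS huH hu]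

/-- The contradiction when the left descent of the outer orbit has a coordinate outside the subfield. -/
theorem Over.no_new_coord {u v nn : GL chevD4.Idx K} {w : Equiv.Perm (Fin chevD4.nroots)}
    (hu : u ∈ chevD4.posUnipotent K) (huG : u ∈ twistedD4 K (p ^ n))
    (hv : v ∈ chevD4.posUnipotent K) (hvG : v ∈ twistedD4 K (p ^ n))
    (hw : (coreD4 K).Moves nn w) (hc : Commute rhoD4 w)
    (h14 : chevD4.IsPosRoot (w⁻¹ ⟨14, by decide⟩))
    (hneg : ∀ r : Fin chevD4.nroots, (r : ℕ) ∈ [18, 13, 12] → chevD4.IsNegRoot (w⁻¹ r))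
    (h : u * nn * v ∈ H) {a b c d e f : K} (he : u = tw K p n a b c d e f) : σ b = b := by
  obtain ⟨⟨z, hz, hterms⟩, hcm, -, r14, -, -, r22, h1ne, h1neg⟩ := comm_facts
  have hwW : w⁻¹ ∈ reflDataD4.weyl := inv_mem hw.1
  have hfixρ : ∀ r, rhoD4 r = r → rhoD4 (w⁻¹ r) = w⁻¹ r := fun r hr => by
    have := congrArg (fun g : Equiv.Perm (Fin chevD4.nroots) => g r) hc.inv_right.eq
    simpa [hr] using this
  obtain ⟨a', b', c', d', e', f', hve, ha', -⟩ := mem_tw o.card o.two_le hvG hv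
  set Z : GL chevD4.Idx K := X 23 1
  have hZ : Z ∈ H := by
    rw [show Z = tw K p n 0 0 0 0 0 1 from X23_eq 1]
    exact o.fixed_mem (map_zero _) (map_zero _) (map_zero _) (map_zero _) (map_zero _) (map_one _)
  have hvZ : v * Z * v⁻¹ = Z := by rw [hve, X23_central, mul_inv_cancel_right]
  have huZ : u⁻¹ * Z * u = Z := by rw [mul_assoc, he, ← X23_central, inv_mul_cancel_left]
  obtain ⟨s, hs0, hW⟩ : ∃ s : K, s ≠ 0 ∧ u * X 14 s * u⁻¹ ∈ H := by
    rcases fixed_pos_facts _ h14 (hfixρ _ r14) with e14 | e14 | e14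
    · obtain ⟨q22, q23, qn, qz⟩ := root_values
      set r := w⁻¹ ⟨22, by decide⟩
      set s' := w⁻¹ ⟨23, by decide⟩
      have hsum : ∀ (x : Fin chevD4.nroots) j, rootDataD4.α (w⁻¹ x : Fin chevD4.nroots) j =
          rootDataD4.α x (nodeD4 0) * rootDataD4.α (w⁻¹ ⟨18, by decide⟩ : Fin chevD4.nroots) j +
          rootDataD4.α x (nodeD4 1) * rootDataD4.α (w⁻¹ ⟨14, by decide⟩ : Fin chevD4.nroots) j +
          rootDataD4.α x (nodeD4 2) * rootDataD4.α (w⁻¹ ⟨13, by decide⟩ : Fin chevD4.nroots) j +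
          rootDataD4.α x (nodeD4 3) * rootDataD4.α (w⁻¹ ⟨12, by decide⟩ : Fin chevD4.nroots) j := by
        intro x j
        rw [reflDataD4.α_weyl _ hwW x, Finset.sum_apply]
        exact Fin.sum_univ_four fun k : Fin chevD4.rank =>
          (rootDataD4.α x k • rootDataD4.α (w⁻¹ ⟨chevD4.simple k.val, rootDataD4.simple_lt k⟩ :
            Fin chevD4.nroots)) j
      have q22' : ∀ k, rootDataD4.α ((⟨22, by decide⟩ : Fin chevD4.nroots) : ℕ) k = 1 := q22
      have q23' : ∀ k, rootDataD4.α ((⟨23, by decide⟩ : Fin chevD4.nroots) : ℕ) k =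
          if k = nodeD4 1 then 2 else 1 := q23
      have hnonpos : ∀ (x : Fin chevD4.nroots), (x : ℕ) ∈ [18, 13, 12] → ∀ j,
          rootDataD4.α (w⁻¹ x : Fin chevD4.nroots) j ≤ 0 := fun x hx j =>
        ((rootDataD4.isNeg_iff _).1 (hneg x hx)).2 j
      have hle : ∀ j, rootDataD4.α r j ≤ rootDataD4.α 14 j := fun j => by
        show rootDataD4.α (w⁻¹ ⟨22, by decide⟩ : Fin chevD4.nroots) j ≤ _
        rw [hsum ⟨22, by decide⟩ j, q22', q22', q22', q22', e14]
        have h1 := hnonpos ⟨18, by decide⟩ (by simp) j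
        have h2 := hnonpos ⟨13, by decide⟩ (by simp) j
        have h3 := hnonpos ⟨12, by decide⟩ (by simp) j
        omega
      have hne : (r : ℕ) ≠ 14 := fun e => by
        have h2 : w⁻¹ ⟨22, by decide⟩ = w⁻¹ ⟨14, by decide⟩ := Fin.ext (e.trans e14.symm)
        exact absurd (congrArg Fin.val (w⁻¹.injective h2)) (by decide)
      have n0 : nodeD4 0 ≠ nodeD4 1 := Fin.ne_of_val_ne (Nat.zero_ne_one)
      have n2 : nodeD4 2 ≠ nodeD4 1 := Fin.ne_of_val_ne (Nat.succ_ne_self 1)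
      have n3 : nodeD4 3 ≠ nodeD4 1 := Fin.ne_of_val_ne (by simp [nodeD4])
      obtain ⟨hr0, -⟩ := fixed_sum_facts r s' (hfixρ _ r22) hle hne fun j => by
        show rootDataD4.α (w⁻¹ ⟨23, by decide⟩ : Fin chevD4.nroots) j =
          rootDataD4.α (w⁻¹ ⟨22, by decide⟩ : Fin chevD4.nroots) j + _
        rw [hsum ⟨22, by decide⟩ j, hsum ⟨23, by decide⟩ j, q22', q22', q22', q22', q23', q23', q23',
          q23', if_neg n0, if_pos rfl, if_neg n2, if_neg n3, e14]
        ring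
      have hw1 : (w ⟨23, by decide⟩ : ℕ) = 1 := by
        have h3 := reflDataD4.apply_neg hwW ⟨22, by decide⟩
        have e1 : (⟨1, by decide⟩ : Fin chevD4.nroots) =
            ⟨chevD4.neg 22, rootDataD4.neg_lt 22 (by decide)⟩ := Fin.ext qn.symm
        have h4 : w⁻¹ ⟨1, by decide⟩ = ⟨23, by decide⟩ := Fin.ext
          ((congrArg (fun x => (w⁻¹ x : ℕ)) e1).trans (h3.trans ((congrArg chevD4.neg hr0).trans qz)))
        rw [← h4, Equiv.Perm.inv_def, Equiv.apply_symm_apply]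
      obtain ⟨t, ht0, ht⟩ := conj_nonzero hw ⟨23, by decide⟩ hw1
      have hQ : u * X 1 t * u⁻¹ ∈ H := by
        have h1 := mul_mem (mul_mem h hZ) (inv_mem h)
        rw [show u * nn * v * Z * (u * nn * v)⁻¹ = u * (nn * (v * Z * v⁻¹) * nn⁻¹) * u⁻¹ by group,
          hvZ, ht] at h1
        exact h1
      have hcomm : X 1 t * Z * (X 1 t)⁻¹ = Z * X 14 ((z : K) * -1 * t) := by
        have e1 : X 1 t * Z = Z * (X 1 t * X 14 ((z : K) * -1 * t)) := by
          simp only [Z, X]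
          rw [(coreD4 K).xGL_comm (r := 23) (s := 1) (by decide) (by decide) h1ne h1neg 1 t, mul_assoc]
          simp [ChevalleyDatum.commWord, hterms, ChevCore.wordGL_cons, ChevCore.wordGL_nil]
        rw [e1, show X 1 t * X 14 ((z : K) * -1 * t) = X 14 ((z : K) * -1 * t) * X 1 t by
          simpa using cm_of 14 1 hcm t ((z : K) * -1 * t) 1]
        group
      refine ⟨(z : K) * -1 * t, ?_, ?_⟩
      · rcases List.mem_pair.1 hz with rfl | rfl <;> simp [ht0]
      · have huZ' : u * Z * u⁻¹ = Z :=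
          calc u * Z * u⁻¹ = u * (u⁻¹ * Z * u) * u⁻¹ := by rw [huZ]
            _ = Z := by group
        have e2 : Z⁻¹ * (u * X 1 t * u⁻¹ * Z * (u * X 1 t * u⁻¹)⁻¹) =
            Z⁻¹ * (u * (X 1 t * (u⁻¹ * Z * u) * (X 1 t)⁻¹) * u⁻¹) := by group
        have e3 : Z⁻¹ * (u * (Z * X 14 ((z : K) * -1 * t)) * u⁻¹) =
            Z⁻¹ * (u * Z * u⁻¹) * (u * X 14 ((z : K) * -1 * t) * u⁻¹) := by group
        rw [huZ, hcomm, e3, huZ', inv_mul_cancel, one_mul] at e2
        rw [← e2]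
        exact mul_mem (inv_mem hZ) (mul_mem (mul_mem hQ hZ) (inv_mem hQ))
    · have hy : tw K p n 0 0 0 0 1 (-a') ∈ H := o.fixed_mem (map_zero _) (map_zero _) (map_zero _)
        (map_zero _) (map_one _) (by rw [map_neg, ha'])
      have hvy : v * tw K p n 0 0 0 0 1 (-a') = X 22 1 * v := by
        rw [hve, X22_eq (p := p) (n := n)]
        simp only [tw, E_mul_E, map_zero, map_one, neg_zero]
        refine E_congr ?_ ?_ ?_ ?_ ?_ ?_ ?_ ?_ ?_ ?_ ?_ ?_ <;> ring
      have hw22 : (w ⟨22, by decide⟩ : ℕ) = 14 := by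
        have : w⁻¹ ⟨14, by decide⟩ = ⟨22, by decide⟩ := Fin.ext e14
        rw [← this, Equiv.Perm.inv_def, Equiv.apply_symm_apply]
      obtain ⟨t, ht0, ht⟩ := conj_nonzero hw ⟨22, by decide⟩ hw22
      refine ⟨t, ht0, ?_⟩
      have h1 := mul_mem (mul_mem h hy) (inv_mem h)
      rwa [show u * nn * v * tw K p n 0 0 0 0 1 (-a') * (u * nn * v)⁻¹ =
        u * (nn * (v * tw K p n 0 0 0 0 1 (-a') * v⁻¹) * nn⁻¹) * u⁻¹ by group, hvy,
        mul_inv_cancel_right, ht] at h1
    · have hw23 : (w ⟨23, by decide⟩ : ℕ) = 14 := by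
        have : w⁻¹ ⟨14, by decide⟩ = ⟨23, by decide⟩ := Fin.ext e14
        rw [← this, Equiv.Perm.inv_def, Equiv.apply_symm_apply]
      obtain ⟨t, ht0, ht⟩ := conj_nonzero hw ⟨23, by decide⟩ hw23
      refine ⟨t, ht0, ?_⟩
      have h1 := mul_mem (mul_mem h hZ) (inv_mem h)
      rwa [show u * nn * v * Z * (u * nn * v)⁻¹ = u * (nn * (v * Z * v⁻¹) * nn⁻¹) * u⁻¹ by group,
        hvZ, ht] at h1
  have hs : σ s = s := by
    have h1 : X 14 s ∈ twistedD4 K (p ^ n) := by
      simpa [mul_assoc] using mul_mem (mul_mem (inv_mem huG) (o.le hW)) huG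
    rw [X14_eq (p := p) (n := n), tw_mem_iff o.card o.two_le] at h1
    exact h1.1
  have hXU : X 14 s ∈ chevD4.posUnipotent K := by
    rw [X14_eq (p := p) (n := n)]; exact tw_pos _ _ _ _ _ _
  have hψ := o.fixed_of_pos hS hW (mul_mem (mul_mem hu hXU) (inv_mem hu))
  rw [map_mul, map_mul, map_inv, frobGL_X, hs] at hψ
  set z' := u⁻¹ * frobGL K p n u
  have hz' : z' * X 14 s = X 14 s * z' := by
    calc z' * X 14 s = u⁻¹ * (frobGL K p n u * X 14 s * (frobGL K p n u)⁻¹) * frobGL K p n u := by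
          simp only [z']; group
      _ = X 14 s * z' := by rw [hψ]; simp only [z']; group
  have hz'U : z' ∈ chevD4.posUnipotent K := by
    refine mul_mem (inv_mem hu) ?_
    rw [he, frobGL_tw]; exact tw_pos _ _ _ _ _ _
  obtain ⟨za, zb, zb1, zb2, zc, zc1, zc2, zd, zd1, zd2, ze, zf, hzE⟩ := exists_E hz'U
  rw [hzE] at hz'
  have hzb := coord_of_commute hs0 hz'
  subst hzb
  have heq : frobGL K p n u = u * z' := by simp only [z']; group
  rw [hzE, he, frobGL_tw] at heq
  simp only [tw, E_mul_E] at heq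
  obtain ⟨-, q2, -⟩ := E_inj heq
  linear_combination q2

theorem Over.cell_fixed : ∀ (k : ℕ) (u nn v : GL chevD4.Idx K)
    (w : Equiv.Perm (Fin chevD4.nroots)),
    u ∈ chevD4.posUnipotent K → u ∈ twistedD4 K (p ^ n) →
    nn ∈ chevD4.monomialSubgroup K → nn ∈ twistedD4 K (p ^ n) →
    v ∈ chevD4.posUnipotent K → v ∈ twistedD4 K (p ^ n) →
    (coreD4 K).Moves nn w → (reflDataD4.invSet w⁻¹).card = k →
    u * nn * v ∈ H → frobGL K p n (u * nn * v) = u * nn * v := by
  intro k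
  induction k using Nat.strong_induction_on with
  | _ k ih =>
    intro u nn v w hu huG hN hNG hv hvG hw hk h
    have g := gensD4 K o.card o.two_le
    have hc : Commute rhoD4 w := (frobD4 K p n).commute_of_fixed hN hw (g.le_fixed hNG).2
    have hwW : w⁻¹ ∈ reflDataD4.weyl := inv_mem hw.1
    by_cases h0 : reflDataD4.invSet w⁻¹ = ∅
    · have hw1 : w = 1 := inv_eq_one.1 (reflDataD4.eq_one_of_invSet_eq_empty hwW h0)
      subst hw1
      have hd : nn ∈ chevD4.diagonalSubgroup K := (coreD4 K).mem_diagonal_of_moves_one hN hw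
      have hvc : nn * v * nn⁻¹ ∈ chevD4.posUnipotent K :=
        (Subgroup.mem_normalizer_iff.1 ((coreD4 K).diagonal_normalizes_pos hd) v).1 hv
      rw [show u * nn * v = u * (nn * v * nn⁻¹) * nn by group] at h ⊢
      exact o.borel_case hS (mul_mem hu hvc)
        (mul_mem huG (mul_mem (mul_mem hNG hvG) (inv_mem hNG))) hd hNG h
    obtain ⟨a, b, c, d, e, f, he, ha, -⟩ := mem_tw o.card o.two_le huG hu
    have hcinv : Commute (frobD4 K p n).ρ w⁻¹ := hc.inv_right
    have hstep : ∀ (i : Fin 2) (m u' : GL chevD4.Idx K),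
        (∀ j ∈ orbD4.J i, chevD4.IsNegRoot (w⁻¹ ⟨chevD4.simple j.val, rootDataD4.simple_lt j⟩)) →
        m ∈ twistedD4 K (p ^ n) → frobGL K p n m = m → u = m * u' →
        u' ∈ (coreD4 K).Ucl {r | r ∈ outList i} →
        frobGL K p n (u * nn * v) = u * nn * v := by
      intro i m u' hneg hmG hmψ hum hu'
      set N := nWord K (d4TwistWord i)
      obtain ⟨hNmv, hNN⟩ := nWord_moves (K := K) (d4TwistWord i)
      have hNG' := nWord_mem (K := K) o.card o.two_le i
      have hwJ : g.wJ i = reflDataD4.wordPerm (d4TwistWord i) :=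
        g.wJ_eq i ((reflDataD4.weylSub _).list_prod_mem fun x hx => by
          obtain ⟨j, hj, rfl⟩ := List.mem_map.1 hx
          exact reflDataD4.sPerm_mem_sub (d4_word_mem i j hj)) (d4_word_neg i)
      have hu'U : N * u' * N⁻¹ ∈ chevD4.posUnipotent K := by
        refine (coreD4 K).conj_Ucl_le hNmv (T := chevD4.posUnipotent K) (fun r hr t => ?_) u' hu'
        exact (coreD4 K).xGL_mem_posUnipotent (out_facts i r hr) t
      have hu'G : u' ∈ twistedD4 K (p ^ n) := by
        rw [show u' = m⁻¹ * u by rw [hum]; group]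
        exact mul_mem (inv_mem hmG) huG
      have hh : N * u' * N⁻¹ * (N * nn) * v = N * (m⁻¹ * (u * nn * v)) := by rw [hum]; group
      have hmH : m ∈ H := o.sub _ hmG hmψ
      have hcard := g.all_neg_descent hwW i hneg
      have hlt : (reflDataD4.invSet (reflDataD4.wordPerm (d4TwistWord i) * w)⁻¹).card < k := by
        rw [mul_inv_rev, ← hwJ, inv_eq_of_mul_eq_one_right (g.wJ_mul_self i), ← hk]
        obtain ⟨h1, h2⟩ := hcard
        change 0 < (reflDataD4.invSet (g.wJ i)).card at h2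
        change (reflDataD4.invSet w⁻¹).card = (reflDataD4.invSet (w⁻¹ * g.wJ i)).card +
          (reflDataD4.invSet (g.wJ i)).card at h1
        omega
      have hfix := ih _ hlt (N * u' * N⁻¹) (N * nn) v _ hu'U
        (mul_mem (mul_mem hNG' hu'G) (inv_mem hNG')) (mul_mem hNN hN) (mul_mem hNG' hNG) hv hvG
        (ChevCore.Moves.mul _ hNmv hw) rfl
        (hh ▸ mul_mem (o.nWord_mem' i) (mul_mem (inv_mem hmH) h))
      rw [hh, map_mul, frobGL_nWord, map_mul, map_inv, hmψ] at hfix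
      exact mul_left_cancel (mul_left_cancel hfix)
    have hout : ∀ (i : Fin 2) r, r ∈ outList i → ∀ t : K,
        X r t ∈ (coreD4 K).Ucl {r | r ∈ outList i} := fun i r hr t =>
      (coreD4 K).xGL_mem_Ucl (S := {r | r ∈ outList i}) hr t
    have hz := map_zero (frobEquiv K p n)
    by_cases h14 : chevD4.IsPosRoot (w⁻¹ ⟨14, by decide⟩)
    · obtain ⟨i, hi⟩ := Gens.exists_orbit_neg (φ := frobD4 K p n) (O := orbD4) hwW hcinv h0
      fin_cases i
      swap
      · exfalso
        have hn14 := hi (nodeD4 1) (List.mem_singleton.2 rfl)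
        simp only [nodeD4, d4_simples.2.1] at hn14
        exact rootDataD4.not_pos_and_neg h14 hn14
      have hneg : ∀ r : Fin chevD4.nroots, (r : ℕ) ∈ [18, 13, 12] → chevD4.IsNegRoot (w⁻¹ r) := by
        intro r hr
        obtain ⟨j, hj, hjr⟩ : ∃ j ∈ nodesD4 0, chevD4.simple j.val = (r : ℕ) := by
          revert hr r; decide +kernel
        have := hi j hj
        rwa [show (⟨chevD4.simple j.val, rootDataD4.simple_lt j⟩ : Fin chevD4.nroots) = r from
          Fin.ext hjr] at this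
      have hb := o.no_new_coord hS hu huG hv hvG hw hc h14 hneg h he
      refine hstep 0 (tw K p n a b 0 0 0 0) (tw K p n 0 0 c d e f) hi
        ((tw_mem_iff o.card o.two_le).2 ⟨ha, hz, hz⟩) (by simp [frobGL_tw, ha, hb]) ?_ ?_
      · rw [he, show tw K p n a b 0 0 0 0 = tw K p n a 0 0 0 0 0 * tw K p n 0 b 0 0 0 0 by
          rw [tw_first_mul, add_zero], mul_assoc, tw_A_mul, add_zero, tw_first_mul, add_zero]
      · simp only [tw, E, map_zero, neg_zero, X_zero, one_mul]
        repeat' first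
          | exact one_mem _
          | exact hout 0 _ (by decide) _
          | apply mul_mem
    · have hn14 : chevD4.IsNegRoot (w⁻¹ ⟨14, by decide⟩) :=
        (rootDataD4.pos_or_neg (w⁻¹ _).isLt).resolve_left h14
      refine hstep 1 (tw K p n a 0 0 0 0 0) (tw K p n 0 b c d e f) (fun j hj => ?_)
        ((tw_mem_iff o.card o.two_le).2 ⟨ha, hz, hz⟩) (by simp [frobGL_tw, ha]) ?_ ?_
      · obtain rfl : j = nodeD4 1 := List.mem_singleton.1 hj
        simp only [nodeD4, d4_simples.2.1]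
        exact hn14
      · rw [he, tw_first_mul, add_zero]
      · simp only [tw, E, map_zero, neg_zero, X_zero, one_mul]
        repeat' first
          | exact one_mem _
          | exact hout 1 _ (by decide) _
          | apply mul_mem

theorem Over.all_fixed {g : GL chevD4.Idx K} (hg : g ∈ H) : frobGL K p n g = g := by
  have gd := gensD4 K o.card o.two_le
  obtain ⟨u, hu, m, hm, v, hv, -, rfl⟩ := gd.twist.nf (o.le hg)
  obtain ⟨w, hw, -⟩ := (coreD4 K).exists_moves hm.1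
  exact o.cell_fixed hS _ u m v w hu.1 hu.2 hm.1 hm.2 hv.1 hv.2 hw rfl hg

omit hS in
theorem Over.eq_top {y : K} (hy : y ∈ coordSet p n H) (hyf : σ y ≠ y) : twistedD4 K (p ^ n) ≤ H := by
  have hall := o.coordSet_full hy hyf
  refine (Subgroup.closure_le _).2 ?_
  rintro g ⟨wd, hwd, hg⟩
  obtain rfl : g = (coreD4 K).wordGL wd := Units.ext (hg.trans ((coreD4 K).coe_wordGL wd).symm)
  have hG : (coreD4 K).wordGL wd ∈ twistedD4 K (p ^ n) := (coreD4 K).wordGL_mem_gen hwd
  have hpow : ∀ t : K, t ^ (p ^ n) ^ 2 = σ (σ t) := fun t => by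
    rw [frobEquiv_apply, frobEquiv_apply, sq, pow_mul]
  rcases hwd with ⟨t, ht, r, -, rfl⟩ | ⟨t, rs, hrs, rfl⟩
  · refine o.sub _ hG ?_
    simp only [ChevCore.wordGL_cons, ChevCore.wordGL_nil, mul_one]
    show frobGL K p n (X r t) = X r t
    rw [frobGL_X, frobEquiv_apply, ht]
  · have hA : ∀ s : K, X 18 s * (X 13 (σ s) * (X 12 (σ (σ s)) * 1)) ∈ H := fun s => by
      have h := hall s
      simpa [coordSet, tw, E, X_zero] using h
    have hp : d4p1 = 18 ∧ d4p3 = 13 ∧ d4p4 = 12 ∧ d4m1 = 5 ∧ d4m3 = 10 ∧ d4m4 = 11 := by decide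
    obtain ⟨p1, p3, p4, m1, m3, m4⟩ := hp
    simp only [List.mem_cons, List.not_mem_nil, or_false] at hrs
    rcases hrs with rfl | rfl
    · simp only [ChevCore.wordGL_cons, ChevCore.wordGL_nil, p1, p3, p4, hpow, ← frobEquiv_apply]
      exact hA t
    · obtain ⟨z1, -, h1⟩ := conj_turn (K := K) (i := 0) (r := 5) (k := 18) (by simp)
      obtain ⟨z2, -, h2⟩ := conj_turn (K := K) (i := 0) (r := 10) (k := 13) (by simp)
      obtain ⟨z3, -, h3⟩ := conj_turn (K := K) (i := 0) (r := 11) (k := 12) (by simp)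
      set N := nWord K (d4TwistWord 0)
      have hx : MulAut.conj N (X 5 t * (X 10 (σ t) * (X 11 (σ (σ t)) * 1))) =
          E 0 (z1 * t) (z2 * σ t) (z3 * σ (σ t)) 0 0 0 0 0 0 0 0 := by
        simp only [E, map_mul, map_one, h1, h2, h3, X_zero, one_mul]
      have hmem : X 5 t * (X 10 (σ t) * (X 11 (σ (σ t)) * 1)) ∈ twistedD4 K (p ^ n) := by
        simpa [ChevCore.wordGL_cons, ChevCore.wordGL_nil, m1, m3, m4, hpow, ← frobEquiv_apply, X]
          using hG
      have hNG := o.nWord_mem' (i := 0)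
      have hEG : E 0 (z1 * t) (z2 * σ t) (z3 * σ (σ t)) 0 0 0 0 0 0 0 0 ∈ twistedD4 K (p ^ n) :=
        hx ▸ mul_mem (mul_mem (o.le hNG) hmem) (inv_mem (o.le hNG))
      obtain ⟨a', b', c', d', e', f', h', -⟩ :=
        mem_tw o.card o.two_le hEG (E_mem_pos _ _ _ _ _ _ _ _ _ _ _ _)
      obtain ⟨rfl, rfl, -, -, rfl, -, -, rfl, -, -, rfl, rfl⟩ := E_inj h'
      have hH : E 0 (z1 * t) (z2 * σ t) (z3 * σ (σ t)) 0 0 0 0 0 0 0 0 ∈ H := h' ▸ hall (z1 * t)
      have hres := mul_mem (mul_mem (inv_mem hNG) (hx ▸ hH : MulAut.conj N _ ∈ H)) hNG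
      rw [MulAut.conj_apply] at hres
      simp only [N] at hres
      simp only [ChevCore.wordGL_cons, ChevCore.wordGL_nil, m1, m3, m4, hpow, ← frobEquiv_apply]
      simpa [mul_assoc, X] using hres

end CfsgLib.Twisted.D4Gen
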