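import Cfsg.Agent.Lib.TwistedStr.D4UnipotentGeneral
import Cfsg.Agent.Lib.TwistedStr.StrD4
import Cfsg.Agent.Lib.ChevField.Fixed

/-!
Twisted coordinates in `³D₄(q)` and the entrywise Frobenius map cutting out its subfield subgroup.
-/

set_option autoImplicit false
set_option linter.unusedSectionVars false
set_option linter.unusedSimpArgs false
set_option linter.style.haveILetI false

namespace CfsgLib.Twisted.D4Gen

open Cfsg.Lie CfsgLib.ChevStr
open scoped MatrixGroups

variable (K : Type*) [Field K] [Fintype K] (p n : ℕ) [ExpChar K p]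

/-- The field automorphism `t ↦ t ^ q`. -/
noncomputable def frobEquiv : K ≃+* K :=
  RingEquiv.ofBijective (iterateFrobenius K p n) (Finite.injective_iff_bijective.1 (RingHom.injective _))

theorem frobEquiv_apply (x : K) : frobEquiv K p n x = x ^ p ^ n := by
  show iterateFrobenius K p n x = _
  rw [iterateFrobenius_def]

/-- The entrywise Frobenius map. -/
noncomputable def frobGL : GL chevD4.Idx K →* GL chevD4.Idx K :=
  ChevField.mapGL (frobEquiv K p n).toRingHom

/-- The element with the given twisted coordinates. -/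
noncomputable def tw (a b c d e f : K) : GL chevD4.Idx K :=
  E a b (frobEquiv K p n b) (frobEquiv K p n (frobEquiv K p n b)) c (-(frobEquiv K p n c))
    (-(frobEquiv K p n (frobEquiv K p n c))) d (-(frobEquiv K p n d))
    (-(frobEquiv K p n (frobEquiv K p n d))) e f

/-- The product of the representatives of a list of fundamental reflections. -/
noncomputable def nWord (L : List (Fin chevD4.rank)) : GL chevD4.Idx K :=
  (L.map (coreD4 K).nS).prod

variable {K p n}

theorem frobGL_X (r : ℕ) (t : K) : frobGL K p n (X r t) = X r (frobEquiv K p n t) :=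
  ChevField.mapGL_xGL _ _ r t

theorem frobGL_E (a b b1 b2 c c1 c2 d d1 d2 e f : K) :
    frobGL K p n (E a b b1 b2 c c1 c2 d d1 d2 e f) =
      E (frobEquiv K p n a) (frobEquiv K p n b) (frobEquiv K p n b1) (frobEquiv K p n b2)
        (frobEquiv K p n c) (frobEquiv K p n c1) (frobEquiv K p n c2) (frobEquiv K p n d)
        (frobEquiv K p n d1) (frobEquiv K p n d2) (frobEquiv K p n e) (frobEquiv K p n f) := by
  simp only [E, map_mul, map_one, frobGL_X]

theorem frobGL_nWord (L : List (Fin chevD4.rank)) : frobGL K p n (nWord K L) = nWord K L := by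
  rw [nWord, map_list_prod, List.map_map]
  exact congrArg List.prod (List.map_congr_left fun i _ => ChevField.mapGL_nS _ _ i)

theorem frobGL_eq_iff (g : GL chevD4.Idx K) : frobGL K p n g = g ↔
    ∀ i j : chevD4.Idx, ((g : Matrix chevD4.Idx chevD4.Idx K) i j) ^ p ^ n =
      (g : Matrix chevD4.Idx chevD4.Idx K) i j := by
  constructor
  · intro h i j
    rw [← frobEquiv_apply]
    exact congrArg (fun g : GL chevD4.Idx K => (g : Matrix chevD4.Idx chevD4.Idx K) i j) h
  · intro h
    refine Units.ext (Matrix.ext fun i j => ?_)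
    show frobEquiv K p n _ = _
    rw [frobEquiv_apply]; exact h i j

theorem tw_zero : tw K p n 0 0 0 0 0 0 = 1 := by simp [tw, E_zero]

theorem tw_inj {a b c d e f a' b' c' d' e' f' : K}
    (h : tw K p n a b c d e f = tw K p n a' b' c' d' e' f') :
    a = a' ∧ b = b' ∧ c = c' ∧ d = d' ∧ e = e' ∧ f = f' := by
  obtain ⟨h1, h2, -, -, h5, -, -, h8, -, -, h11, h12⟩ := E_inj h
  exact ⟨h1, h2, h5, h8, h11, h12⟩

theorem frobGL_tw (a b c d e f : K) : frobGL K p n (tw K p n a b c d e f) =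
    tw K p n (frobEquiv K p n a) (frobEquiv K p n b) (frobEquiv K p n c) (frobEquiv K p n d)
      (frobEquiv K p n e) (frobEquiv K p n f) := by
  simp only [tw, frobGL_E, map_neg]

theorem tw_first_mul (x a b c d e f : K) :
    tw K p n x 0 0 0 0 0 * tw K p n a b c d e f = tw K p n (x + a) b c d e f := by
  simp only [tw, E_mul_E, map_zero, neg_zero]
  refine E_congr ?_ ?_ ?_ ?_ ?_ ?_ ?_ ?_ ?_ ?_ ?_ ?_ <;> ring

theorem tw_A_mul (x b c d e f : K) :
    tw K p n 0 x 0 0 0 0 * tw K p n 0 b c d e f = tw K p n 0 (x + b) c d e f := by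
  simp only [tw, E_mul_E, map_zero, neg_zero, map_add]
  refine E_congr ?_ ?_ ?_ ?_ ?_ ?_ ?_ ?_ ?_ ?_ ?_ ?_ <;> ring

theorem tw_C_mul (x c d e f : K) :
    tw K p n 0 0 x 0 0 0 * tw K p n 0 0 c d e f = tw K p n 0 0 (x + c) d e f := by
  simp only [tw, E_mul_E, map_zero, neg_zero, map_add]
  refine E_congr ?_ ?_ ?_ ?_ ?_ ?_ ?_ ?_ ?_ ?_ ?_ ?_ <;> ring

theorem tw_D_mul (d e f d' e' f' : K) :
    tw K p n 0 0 0 d e f * tw K p n 0 0 0 d' e' f' = tw K p n 0 0 0 (d + d') (e + e') (f + f') := by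
  simp only [tw, E_mul_E, map_zero, neg_zero, map_add]
  refine E_congr ?_ ?_ ?_ ?_ ?_ ?_ ?_ ?_ ?_ ?_ ?_ ?_ <;> ring

theorem nWord_conj : ∀ (L : List (Fin chevD4.rank)) (r : Fin chevD4.nroots),
    ∃ z : K, (z = 1 ∨ z = -1) ∧ ∀ t : K,
      MulAut.conj (nWord K L) (X r t) = X (reflDataD4.wordPerm L r : Fin chevD4.nroots) (z * t)
  | [], r => ⟨1, Or.inl rfl, fun t => by simp [nWord, ReflData.wordPerm]⟩
  | i :: L, r => by
    obtain ⟨z, hz, h⟩ := nWord_conj L r
    obtain ⟨-, e, he⟩ := (coreD4 K).acts_nS i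
    obtain ⟨h1, -, h3⟩ := he (reflDataD4.wordPerm L r)
    refine ⟨(e (reflDataD4.wordPerm L r) : K) * z, ?_, fun t => ?_⟩
    · rcases hz with rfl | rfl <;> rcases h1 with h1 | h1 <;> simp [h1]
    · rw [show nWord K (i :: L) = (coreD4 K).nS i * nWord K L by simp [nWord], map_mul,
        MulAut.mul_apply, h, MulAut.conj_apply,
        show reflDataD4.wordPerm (i :: L) = reflDataD4.sPerm i * reflDataD4.wordPerm L by
          simp [ReflData.wordPerm], Equiv.Perm.mul_apply, mul_assoc _ z t]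
      exact h3 (z * t)

theorem nWord_moves : ∀ L : List (Fin chevD4.rank),
    (coreD4 K).Moves (nWord K L) (reflDataD4.wordPerm L) ∧ nWord K L ∈ chevD4.monomialSubgroup K
  | [] => ⟨by simpa [nWord, ReflData.wordPerm] using ChevCore.Acts.moves _ (coreD4 K).acts_one,
      by simp [nWord]⟩
  | i :: L => by
    rw [show nWord K (i :: L) = (coreD4 K).nS i * nWord K L by simp [nWord],
      show reflDataD4.wordPerm (i :: L) = reflDataD4.sPerm i * reflDataD4.wordPerm L by
        simp [ReflData.wordPerm]]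
    exact ⟨ChevCore.Moves.mul _ (ChevCore.Acts.moves _ ((coreD4 K).acts_nS i)) (nWord_moves L).1,
      mul_mem ((coreD4 K).nS_mem_monomial i) (nWord_moves L).2⟩

theorem act_root_facts : ∀ rkz ∈ [(14, 14, (1 : ℤ)), (18, 13, 1), (13, 12, 1), (12, 18, 1),
      (19, 16, -1), (16, 15, 1), (15, 19, -1), (17, 20, -1), (20, 21, 1), (21, 17, -1), (22, 22, 1),
      (23, 23, 1)],
    (rkz : ℕ × ℕ × ℤ).1 < chevD4.nroots ∧ d4aSym.root rkz.1 = rkz.2.1 ∧
      d4aSym.sign rkz.1 = rkz.2.2 := by decide +kernel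

theorem act_X {r k : ℕ} {z : ℤ} (h : (r, k, z) ∈ [(14, 14, (1 : ℤ)), (18, 13, 1), (13, 12, 1),
      (12, 18, 1), (19, 16, -1), (16, 15, 1), (15, 19, -1), (17, 20, -1), (20, 21, 1), (21, 17, -1),
      (22, 22, 1), (23, 23, 1)]) (t : K) :
    (frobD4 K p n).act (X r t) = X k ((z : K) * frobEquiv K p n t) := by
  obtain ⟨h1, h2, h3⟩ := act_root_facts _ h
  simp only at h1 h2 h3
  rw [X, (frobD4 K p n).act_word (root := d4aSym.root) (fun _ => rfl) h1, h2]
  show (coreD4 K).xGL k ((d4aSym.sign r : K) * t ^ p ^ n) = _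
  rw [h3, ← frobEquiv_apply]
  rfl

theorem act_E (a b b1 b2 c c1 c2 d d1 d2 e f : K) :
    (frobD4 K p n).act (E a b b1 b2 c c1 c2 d d1 d2 e f) =
      E (frobEquiv K p n a) (frobEquiv K p n b2) (frobEquiv K p n b) (frobEquiv K p n b1)
        (-frobEquiv K p n c2) (-frobEquiv K p n c) (frobEquiv K p n c1)
        (-frobEquiv K p n d2) (-frobEquiv K p n d) (frobEquiv K p n d1) (frobEquiv K p n e)
        (frobEquiv K p n f) := by
  simp only [E]
  repeat rw [(frobD4 K p n).act_mul (X_mem _ _) (by repeat' first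
    | exact one_mem _ | exact X_mem _ _ | apply mul_mem)]
  rw [(frobD4 K p n).act_one, act_X (r := 14) (k := 14) (z := 1) (by simp),
    act_X (r := 18) (k := 13) (z := 1) (by simp), act_X (r := 13) (k := 12) (z := 1) (by simp),
    act_X (r := 12) (k := 18) (z := 1) (by simp), act_X (r := 19) (k := 16) (z := -1) (by simp),
    act_X (r := 16) (k := 15) (z := 1) (by simp), act_X (r := 15) (k := 19) (z := -1) (by simp),
    act_X (r := 17) (k := 20) (z := -1) (by simp), act_X (r := 20) (k := 21) (z := 1) (by simp),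
    act_X (r := 21) (k := 17) (z := -1) (by simp), act_X (r := 22) (k := 22) (z := 1) (by simp),
    act_X (r := 23) (k := 23) (z := 1) (by simp)]
  simp only [Int.cast_one, Int.cast_neg, one_mul, neg_mul,
    cm_of (F := K) 18 13 (by decide +kernel), cm_of (F := K) 18 12 (by decide +kernel),
    cm_of (F := K) 19 16 (by decide +kernel), cm_of (F := K) 19 15 (by decide +kernel),
    cm_of (F := K) 17 20 (by decide +kernel), cm_of (F := K) 17 21 (by decide +kernel)]

variable (hn : Fintype.card K = p ^ n * p ^ n * p ^ n) (hq : 2 ≤ p ^ n)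

include hn in
theorem frobEquiv_cube (x : K) :
    frobEquiv K p n (frobEquiv K p n (frobEquiv K p n x)) = x := by
  rw [frobEquiv_apply, frobEquiv_apply, frobEquiv_apply, ← pow_mul, ← pow_mul, ← mul_assoc, ← hn,
    FiniteField.pow_card]

include hn hq

theorem mem_tw {g : GL chevD4.Idx K} (hg : g ∈ twistedD4 K (p ^ n))
    (hu : g ∈ chevD4.posUnipotent K) :
    ∃ a b c d e f, g = tw K p n a b c d e f ∧ frobEquiv K p n a = a ∧ frobEquiv K p n e = e ∧
      frobEquiv K p n f = f := by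
  obtain ⟨a, b, b1, b2, c, c1, c2, d, d1, d2, e, f, rfl⟩ := exists_E hu
  have hfix := ((gensD4 K hn hq).le_fixed hg).2
  rw [act_E] at hfix
  obtain ⟨ha, -, rfl, rfl, -, rfl, rfl, -, rfl, rfl, he, hf⟩ := E_inj hfix
  refine ⟨a, b, c, d, e, f, ?_, ha, he, hf⟩
  simp only [tw, map_neg]

theorem tw_mem_iff {a b c d e f : K} : tw K p n a b c d e f ∈ twistedD4 K (p ^ n) ↔
    frobEquiv K p n a = a ∧ frobEquiv K p n e = e ∧ frobEquiv K p n f = f := by
  constructor
  · intro h
    obtain ⟨a', b', c', d', e', f', h', ha, he, hf⟩ := mem_tw hn hq h (E_mem_pos _ _ _ _ _ _ _ _ _ _ _ _)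
    obtain ⟨rfl, -, -, -, rfl, rfl⟩ := tw_inj h'
    exact ⟨ha, he, hf⟩
  · rintro ⟨ha, he, hf⟩
    refine (gensD4 K hn hq).twist.U1_le _
      (show tw K p n a b c d e f ∈ chevD4.posUnipotent K from E_mem_pos _ _ _ _ _ _ _ _ _ _ _ _) ?_
    show (frobD4 K p n).act (tw K p n a b c d e f) = _
    simp only [tw, act_E, map_neg, neg_neg, ha, he, hf, frobEquiv_cube hn]

theorem nWord_mem (i : Fin 2) : nWord K (d4TwistWord i) ∈ twistedD4 K (p ^ n) := by
  have gen : ∀ w ∈ d4Words K (p ^ n), (coreD4 K).wordGL w ∈ twistedD4 K (p ^ n) :=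
    fun w hw => (coreD4 K).wordGL_mem_gen hw
  have hm1 : (-1 : K) ^ p ^ n = -1 := neg_one_pow_expChar p n
  obtain ⟨s0, s1, s2, s3, m0, m1, m2, m3⟩ := d4_simples
  fin_cases i
  · set x : ℕ → K → GL chevD4.Idx K := fun r t => X r t
    have key : ∀ {a b a' b' : GL chevD4.Idx K}, Commute a' a → Commute a' b → Commute b' a →
        a * b * a * (a' * b' * a') = (a * a') * (b * b') * (a * a') := by
      intro a b a' b' h1 h2 h3
      calc a * b * a * (a' * b' * a') = a * b * (a' * a) * b' * a' := by rw [h1.eq]; group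
        _ = a * (a' * b) * a * b' * a' := by rw [h2.eq]; group
        _ = a * a' * b * (b' * a) * a' := by rw [h3.eq]; group
        _ = _ := by group
    have cm : ∀ r s, cmOK r s = true → ∀ u t : K, Commute (x s u) (x r t) := by
      intro r s h u t
      show X s u * X r t = X r t * X s u
      simpa using cm_of r s h u t 1
    have hw : nWord K (d4TwistWord 0) = (x d4p1 1 * x d4m1 (-1) * x d4p1 1) *
        ((x d4p3 1 * x d4m3 (-1) * x d4p3 1) * (x d4p4 1 * x d4m4 (-1) * x d4p4 1)) := by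
      simp [nWord, d4TwistWord, ChevCore.nS, ChevCore.nGL, ChevalleyDatum.nWord, ChevCore.wordGL_cons,
        ChevCore.wordGL_nil, s0, s2, s3, m0, m2, m3, x, X, mul_assoc]
    rw [show (Fin.mk 0 (by omega) : Fin 2) = 0 from rfl, hw, key (cm _ _ (by decide +kernel) _ _)
      (cm _ _ (by decide +kernel) _ _) (cm _ _ (by decide +kernel) _ _),
      key ((cm _ _ (by decide +kernel) _ _).mul_left (cm _ _ (by decide +kernel) _ _))
      ((cm _ _ (by decide +kernel) _ _).mul_left (cm _ _ (by decide +kernel) _ _))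
      ((cm _ _ (by decide +kernel) _ _).mul_left (cm _ _ (by decide +kernel) _ _))]
    have e1 : x d4p1 1 * (x d4p3 1 * x d4p4 1) ∈ twistedD4 K (p ^ n) := by
      have h := gen _ (Or.inr ⟨1, (d4p1, d4p3, d4p4), by simp, rfl⟩)
      simpa [x, X, ChevCore.wordGL_cons, ChevCore.wordGL_nil] using h
    have e2 : x d4m1 (-1) * (x d4m3 (-1) * x d4m4 (-1)) ∈ twistedD4 K (p ^ n) := by
      have h := gen _ (Or.inr ⟨-1, (d4m1, d4m3, d4m4), by simp, rfl⟩)
      simpa [x, X, ChevCore.wordGL_cons, ChevCore.wordGL_nil, sq, pow_mul, hm1] using h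
    exact mul_mem (mul_mem e1 e2) e1
  · have e1 := gen _ (Or.inl ⟨1, one_pow _, d4p2, by simp, rfl⟩)
    have e2 := gen _ (Or.inl ⟨-1, hm1, d4m2, by simp, rfl⟩)
    have hw : nWord K (d4TwistWord 1) = (coreD4 K).wordGL [(d4p2, 1)] *
        ((coreD4 K).wordGL [(d4m2, -1)] * (coreD4 K).wordGL [(d4p2, 1)]) := by
      simp [nWord, d4TwistWord, ChevCore.nS, ChevCore.nGL, ChevalleyDatum.nWord, ChevCore.wordGL_cons,
        ChevCore.wordGL_nil, s1, m1, mul_assoc]
    show nWord K (d4TwistWord 1) ∈ _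
    rw [hw]
    exact mul_mem e1 (mul_mem e2 e1)

end CfsgLib.Twisted.D4Gen
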