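import Cfsg.Agent.Lib.TwistedStr.D4SubfieldCoords

/-!
A subgroup of `³D₄(q)` containing the subfield subgroup: the set of coordinates of its elements in
the root group of the outer orbit, and its intersection with `U`.
-/

set_option autoImplicit false
set_option linter.unusedSectionVars false
set_option linter.unusedSimpArgs false

namespace CfsgLib.Twisted.D4Gen

open Cfsg.Lie CfsgLib.ChevStr
open scoped MatrixGroups

theorem turn_facts : ∀ irk ∈ [((0 : Fin 2), 19, 17), (0, 16, 20), (0, 15, 21), (0, 17, 19), (0, 20, 16),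
      (0, 21, 15), (0, 5, 18), (0, 10, 13), (0, 11, 12), (1, 18, 19), (1, 13, 16), (1, 12, 15),
      (1, 19, 18), (1, 16, 13), (1, 15, 12)],
    ∃ h : (irk : Fin 2 × ℕ × ℕ).2.1 < chevD4.nroots,
      (reflDataD4.wordPerm (d4TwistWord irk.1) ⟨irk.2.1, h⟩ : ℕ) = irk.2.2 := by
  decide +kernel

variable {K : Type*} [Field K] [Fintype K] {p n : ℕ} [ExpChar K p]

/-- A subgroup of `³D₄(q)` containing the subfield subgroup. -/
structure Over (p n : ℕ) [ExpChar K p] (H : Subgroup (GL chevD4.Idx K)) : Prop where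
  card : Fintype.card K = p ^ n * p ^ n * p ^ n
  two_le : 2 ≤ p ^ n
  le : H ≤ twistedD4 K (p ^ n)
  sub : ∀ g ∈ twistedD4 K (p ^ n), frobGL K p n g = g → g ∈ H

/-- The coordinates of the elements of `H` in the root group of the outer orbit. -/
def coordSet (p n : ℕ) [ExpChar K p] (H : Subgroup (GL chevD4.Idx K)) : Set K :=
  {y | tw K p n 0 y 0 0 0 0 ∈ H}

variable {H : Subgroup (GL chevD4.Idx K)}

theorem conj_turn {i : Fin 2} {r k : ℕ}
    (h : (i, r, k) ∈ [((0 : Fin 2), 19, 17), (0, 16, 20), (0, 15, 21), (0, 17, 19), (0, 20, 16),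
      (0, 21, 15), (0, 5, 18), (0, 10, 13), (0, 11, 12), (1, 18, 19), (1, 13, 16), (1, 12, 15),
      (1, 19, 18), (1, 16, 13), (1, 15, 12)]) :
    ∃ z : K, (z = 1 ∨ z = -1) ∧
      ∀ t : K, MulAut.conj (nWord K (d4TwistWord i)) (X r t) = X k (z * t) := by
  obtain ⟨hr, hrk⟩ := turn_facts _ h
  simp only at hr hrk
  obtain ⟨z, hz, hc⟩ := nWord_conj (K := K) (d4TwistWord i) ⟨r, hr⟩
  exact ⟨z, hz, fun t => by rw [← hrk]; exact hc t⟩

theorem tw_pos (a b c d e f : K) : tw K p n a b c d e f ∈ chevD4.posUnipotent K :=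
  E_mem_pos _ _ _ _ _ _ _ _ _ _ _ _

variable (o : Over p n H)
include o

local notation "σ" => frobEquiv K p n

theorem Over.nWord_mem' (i : Fin 2) : nWord K (d4TwistWord i) ∈ H :=
  o.sub _ (nWord_mem o.card o.two_le i) (frobGL_nWord _)

theorem Over.fixed_mem {a b c d e f : K} (ha : σ a = a) (hb : σ b = b) (hc : σ c = c) (hd : σ d = d)
    (he : σ e = e) (hf : σ f = f) : tw K p n a b c d e f ∈ H :=
  o.sub _ ((tw_mem_iff o.card o.two_le).2 ⟨ha, he, hf⟩) (by rw [frobGL_tw, ha, hb, hc, hd, he, hf])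

theorem Over.as_tw {a b b1 b2 c c1 c2 d d1 d2 e f : K}
    (h : E a b b1 b2 c c1 c2 d d1 d2 e f ∈ H) : tw K p n a b c d e f ∈ H := by
  obtain ⟨a', b', c', d', e', f', h', -⟩ :=
    mem_tw o.card o.two_le (o.le h) (E_mem_pos _ _ _ _ _ _ _ _ _ _ _ _)
  obtain ⟨rfl, rfl, -, -, rfl, -, -, rfl, -, -, rfl, rfl⟩ := E_inj h'
  exact h' ▸ h

theorem Over.strip {d e f : K} (h : tw K p n 0 0 0 d e f ∈ H) : tw K p n 0 0 0 d 0 0 ∈ H := by
  obtain ⟨-, he, hf⟩ := (tw_mem_iff o.card o.two_le).1 (o.le h)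
  have h2 := mul_mem h (o.fixed_mem (a := 0) (b := 0) (c := 0) (d := 0) (e := -e) (f := -f)
    (map_zero _) (map_zero _) (map_zero _) (map_zero _) (by rw [map_neg, he]) (by rw [map_neg, hf]))
  rw [tw_D_mul] at h2
  simpa using h2

theorem Over.neg_A {y : K} (h : tw K p n 0 y 0 0 0 0 ∈ H) : tw K p n 0 (-y) 0 0 0 0 ∈ H := by
  have e : tw K p n 0 (-y) 0 0 0 0 = (tw K p n 0 y 0 0 0 0)⁻¹ :=
    eq_inv_of_mul_eq_one_left (by rw [tw_A_mul, neg_add_cancel, tw_zero])
  rw [e]; exact inv_mem h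

theorem Over.neg_C {y : K} (h : tw K p n 0 0 y 0 0 0 ∈ H) : tw K p n 0 0 (-y) 0 0 0 ∈ H := by
  have e : tw K p n 0 0 (-y) 0 0 0 = (tw K p n 0 0 y 0 0 0)⁻¹ :=
    eq_inv_of_mul_eq_one_left (by rw [tw_C_mul, neg_add_cancel, tw_zero])
  rw [e]; exact inv_mem h

theorem Over.neg_D {y : K} (h : tw K p n 0 0 0 y 0 0 ∈ H) : tw K p n 0 0 0 (-y) 0 0 ∈ H := by
  have e : tw K p n 0 0 0 (-y) 0 0 = (tw K p n 0 0 0 y 0 0)⁻¹ :=
    eq_inv_of_mul_eq_one_left (by rw [tw_D_mul, neg_add_cancel, neg_zero.symm.trans neg_zero]; simp [tw_zero])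
  rw [e]; exact inv_mem h

theorem Over.A_to_C {y : K} (h : tw K p n 0 y 0 0 0 0 ∈ H) : tw K p n 0 0 y 0 0 0 ∈ H := by
  obtain ⟨z1, hz, h1⟩ := conj_turn (K := K) (i := 1) (r := 18) (k := 19) (by simp)
  obtain ⟨z2, -, h2⟩ := conj_turn (K := K) (i := 1) (r := 13) (k := 16) (by simp)
  obtain ⟨z3, -, h3⟩ := conj_turn (K := K) (i := 1) (r := 12) (k := 15) (by simp)
  have hm : MulAut.conj (nWord K (d4TwistWord 1)) (tw K p n 0 y 0 0 0 0) ∈ H :=
    mul_mem (mul_mem (o.nWord_mem' 1) h) (inv_mem (o.nWord_mem' 1))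
  have e : MulAut.conj (nWord K (d4TwistWord 1)) (tw K p n 0 y 0 0 0 0) =
      E 0 0 0 0 (z1 * y) (z2 * σ y) (z3 * σ (σ y)) 0 0 0 0 0 := by
    simp only [tw, E, map_zero, neg_zero, X_zero, one_mul, mul_one, map_mul, h1, h2, h3]
  rw [e] at hm
  have := o.as_tw hm
  rcases hz with rfl | rfl
  · simpa using this
  · simpa using o.neg_C this

theorem Over.C_to_A {y : K} (h : tw K p n 0 0 y 0 0 0 ∈ H) : tw K p n 0 y 0 0 0 0 ∈ H := by
  obtain ⟨z1, hz, h1⟩ := conj_turn (K := K) (i := 1) (r := 19) (k := 18) (by simp)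
  obtain ⟨z2, -, h2⟩ := conj_turn (K := K) (i := 1) (r := 16) (k := 13) (by simp)
  obtain ⟨z3, -, h3⟩ := conj_turn (K := K) (i := 1) (r := 15) (k := 12) (by simp)
  have hm : MulAut.conj (nWord K (d4TwistWord 1)) (tw K p n 0 0 y 0 0 0) ∈ H :=
    mul_mem (mul_mem (o.nWord_mem' 1) h) (inv_mem (o.nWord_mem' 1))
  have e : MulAut.conj (nWord K (d4TwistWord 1)) (tw K p n 0 0 y 0 0 0) =
      E 0 (z1 * y) (z2 * -σ y) (z3 * -σ (σ y)) 0 0 0 0 0 0 0 0 := by
    simp only [tw, E, map_zero, neg_zero, X_zero, one_mul, mul_one, map_mul, h1, h2, h3]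
  rw [e] at hm
  have := o.as_tw hm
  rcases hz with rfl | rfl
  · simpa using this
  · simpa using o.neg_A this

theorem Over.D_to_C {y : K} (h : tw K p n 0 0 0 y 0 0 ∈ H) : tw K p n 0 0 y 0 0 0 ∈ H := by
  obtain ⟨z1, hz, h1⟩ := conj_turn (K := K) (i := 0) (r := 17) (k := 19) (by simp)
  obtain ⟨z2, -, h2⟩ := conj_turn (K := K) (i := 0) (r := 20) (k := 16) (by simp)
  obtain ⟨z3, -, h3⟩ := conj_turn (K := K) (i := 0) (r := 21) (k := 15) (by simp)
  have hm : MulAut.conj (nWord K (d4TwistWord 0)) (tw K p n 0 0 0 y 0 0) ∈ H :=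
    mul_mem (mul_mem (o.nWord_mem' 0) h) (inv_mem (o.nWord_mem' 0))
  have e : MulAut.conj (nWord K (d4TwistWord 0)) (tw K p n 0 0 0 y 0 0) =
      E 0 0 0 0 (z1 * y) (z2 * -σ y) (z3 * -σ (σ y)) 0 0 0 0 0 := by
    simp only [tw, E, map_zero, neg_zero, X_zero, one_mul, mul_one, map_mul, h1, h2, h3]
  rw [e] at hm
  have := o.as_tw hm
  rcases hz with rfl | rfl
  · simpa using this
  · simpa using o.neg_C this

theorem Over.D_mem_coord {d e f : K} (h : tw K p n 0 0 0 d e f ∈ H) : d ∈ coordSet p n H :=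
  o.C_to_A (o.D_to_C (o.strip h))

theorem Over.quot {g k : GL chevD4.Idx K} (hg : g ∈ H) (hk : k ∈ H)
    (hgU : g ∈ chevD4.posUnipotent K) (hkU : k ∈ chevD4.posUnipotent K) :
    ∃ a b c d e f, tw K p n a b c d e f ∈ H ∧ g * k = tw K p n a b c d e f * (k * g) := by
  have hm : g * k * (k * g)⁻¹ ∈ H := mul_mem (mul_mem hg hk) (inv_mem (mul_mem hk hg))
  obtain ⟨a, b, c, d, e, f, he, -⟩ := mem_tw o.card o.two_le (o.le hm)
    (mul_mem (mul_mem hgU hkU) (inv_mem (mul_mem hkU hgU)))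
  exact ⟨a, b, c, d, e, f, he ▸ hm, by rw [← he]; group⟩

theorem Over.cross_mem {y z : K} (hy : y ∈ coordSet p n H) (hz : z ∈ coordSet p n H) :
    σ y * σ (σ z) + σ (σ y) * σ z ∈ coordSet p n H := by
  obtain ⟨a, b, c, d, e, f, hm, heq⟩ := o.quot hy (o.A_to_C hz) (tw_pos _ _ _ _ _ _) (tw_pos _ _ _ _ _ _)
  simp only [tw, E_mul_E, map_zero, neg_zero] at heq
  obtain ⟨q1, q2, -, -, q5, -, -, q8, -⟩ := E_inj heq
  obtain rfl : a = 0 := by linear_combination -q1
  obtain rfl : b = 0 := by linear_combination -q2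
  obtain rfl : c = 0 := by linear_combination -q5
  simp only [map_zero, neg_zero] at q8
  have hd : d = -(σ y * σ (σ z) + σ (σ y) * σ z) := by linear_combination -q8
  subst hd
  show tw K p n 0 _ 0 0 0 0 ∈ H
  simpa using o.C_to_A (o.D_to_C (o.neg_D (o.strip hm)))

theorem Over.sharp_mem {y : K} (hy : y ∈ coordSet p n H) : σ y * σ (σ y) ∈ coordSet p n H := by
  obtain ⟨a, b, c, d, e, f, hm, heq⟩ := o.quot hy (o.fixed_mem (a := 1) (b := 0) (c := 0) (d := 0)
    (e := 0) (f := 0) (map_one _) (map_zero _) (map_zero _) (map_zero _) (map_zero _) (map_zero _))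
    (tw_pos _ _ _ _ _ _) (tw_pos _ _ _ _ _ _)
  simp only [tw, E_mul_E, map_zero, neg_zero] at heq
  obtain ⟨q1, q2, -, -, q5, -, -, q8, -⟩ := E_inj heq
  obtain rfl : a = 0 := by linear_combination -q1
  obtain rfl : b = 0 := by linear_combination -q2
  obtain rfl : c = -y := by linear_combination -q5
  simp only [map_zero, neg_zero, map_neg, neg_neg] at q8
  have h2 := mul_mem (o.A_to_C hy) hm
  rw [tw_C_mul, add_neg_cancel] at h2
  have := o.D_mem_coord h2
  rwa [show d = σ y * σ (σ y) by linear_combination -q8] at this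

theorem Over.add_mem' {y z : K} (hy : y ∈ coordSet p n H) (hz : z ∈ coordSet p n H) :
    y + z ∈ coordSet p n H := by
  show tw K p n 0 (y + z) 0 0 0 0 ∈ H
  rw [← tw_A_mul]
  exact mul_mem hy hz

theorem Over.fix_mem {y : K} (hy : σ y = y) : y ∈ coordSet p n H :=
  o.fixed_mem (map_zero _) hy (map_zero _) (map_zero _) (map_zero _) (map_zero _)

theorem Over.smul_mem {y z : K} (hy : y ∈ coordSet p n H) (hz : σ z = z) :
    z * y ∈ coordSet p n H := by
  have h := o.cross_mem hy (o.fix_mem hz)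
  simp only [hz] at h
  have htr : σ (z * (y + σ y + σ (σ y))) = z * (y + σ y + σ (σ y)) := by
    simp only [map_mul, map_add, hz, frobEquiv_cube o.card]; ring
  have h3 := o.add_mem' (o.fix_mem htr) (o.neg_A h)
  rwa [show z * (y + σ y + σ (σ y)) + -(σ y * z + σ (σ y) * z) = z * y by ring] at h3

theorem Over.sq_mem {y : K} (hy : y ∈ coordSet p n H) : y * y ∈ coordSet p n H := by
  have ht : σ (y + σ y + σ (σ y)) = y + σ y + σ (σ y) := by
    simp only [map_add, frobEquiv_cube o.card]; ring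
  have hs : σ (-(y * σ y + y * σ (σ y) + σ y * σ (σ y))) =
      -(y * σ y + y * σ (σ y) + σ y * σ (σ y)) := by
    simp only [map_neg, map_add, map_mul, frobEquiv_cube o.card]; ring
  have h := o.add_mem' (o.add_mem' (o.sharp_mem hy) (o.smul_mem hy ht)) (o.fix_mem hs)
  rwa [show σ y * σ (σ y) + (y + σ y + σ (σ y)) * y + -(y * σ y + y * σ (σ y) + σ y * σ (σ y)) = y * y
    by ring] at h

/-- One coordinate outside the subfield gives all of them. -/
theorem Over.coordSet_full {y : K} (hy : y ∈ coordSet p n H) (hyf : σ y ≠ y) (t : K) :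
    t ∈ coordSet p n H := by
  classical
  set Fx := {x : K // σ x = x}
  have hcube := frobEquiv_cube (p := p) (n := n) o.card
  have hne2 : σ (σ y) ≠ y := fun e => hyf (by have := congrArg σ e; rwa [hcube, eq_comm] at this)
  have hne1 : σ (σ y) ≠ σ y := fun e => hyf ((frobEquiv K p n).injective e)
  let g : Fx × Fx × Fx → K := fun x => x.1.1 + x.2.1.1 * y + x.2.2.1 * (y * y)
  have hinj : Function.Injective g := by
    rintro ⟨⟨a, ha⟩, ⟨b, hb⟩, ⟨c, hc⟩⟩ ⟨⟨a', ha'⟩, ⟨b', hb'⟩, ⟨c', hc'⟩⟩ e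
    simp only [g] at e
    have e1 := congrArg σ e
    have e2 := congrArg σ e1
    simp only [map_add, map_mul, ha, hb, hc, ha', hb', hc'] at e1 e2
    have k1 : ((b - b') + (c - c') * (y + σ y)) * (σ y - y) = 0 := by linear_combination e1 - e
    have k2 : ((b - b') + (c - c') * (σ y + σ (σ y))) * (σ (σ y) - σ y) = 0 := by
      linear_combination e2 - e1
    have f1 := (mul_eq_zero.1 k1).resolve_right (sub_ne_zero.2 hyf)
    have f2 := (mul_eq_zero.1 k2).resolve_right (sub_ne_zero.2 hne1)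
    have hc0 : (c - c') * (σ (σ y) - y) = 0 := by linear_combination f2 - f1
    have hcc := sub_eq_zero.1 ((mul_eq_zero.1 hc0).resolve_right (sub_ne_zero.2 hne2))
    subst hcc
    have hbb : b = b' := by linear_combination f1
    subst hbb
    have haa : a = a' := by linear_combination e
    subst haa
    rfl
  have hcard : Nat.card Fx = p ^ n := by
    have h := card_pow_eq_self (F := K) o.two_le (by
      rw [o.card, show p ^ n * p ^ n * p ^ n = (p ^ n) ^ 3 by ring]
      simpa using Nat.sub_dvd_pow_sub_pow (p ^ n) 1 3)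
    exact (Nat.card_congr (Equiv.subtypeEquivRight fun x => by
      show σ x = x ↔ x ^ p ^ n = x
      rw [frobEquiv_apply])).trans h
  have hbij : Function.Bijective g := hinj.bijective_of_nat_card_le (by
    rw [Nat.card_prod, Nat.card_prod, hcard, Nat.card_eq_fintype_card, o.card, mul_assoc])
  obtain ⟨⟨⟨a, ha⟩, ⟨b, hb⟩, ⟨c, hc⟩⟩, rfl⟩ := hbij.2 t
  exact o.add_mem' (o.add_mem' (o.fix_mem ha) (o.smul_mem hy hb)) (o.smul_mem (o.sq_mem hy) hc)

/-- If the coordinates lie in the subfield, so does the intersection with `U`. -/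
theorem Over.inter_pos (hS : ∀ y ∈ coordSet p n H, σ y = y) {g : GL chevD4.Idx K} (hg : g ∈ H)
    (hU : g ∈ chevD4.posUnipotent K) :
    ∃ a b c d e f, g = tw K p n a b c d e f ∧ σ a = a ∧ σ b = b ∧ σ c = c ∧ σ d = d ∧ σ e = e ∧
      σ f = f := by
  obtain ⟨a, b, c, d, e, f, rfl, ha, he, hf⟩ := mem_tw o.card o.two_le (o.le hg) hU
  refine ⟨a, b, c, d, e, f, rfl, ha, ?_⟩
  have z := map_zero (frobEquiv K p n)
  have hcube := frobEquiv_cube (p := p) (n := n) o.card
  have h1 : tw K p n 0 b c d e f ∈ H := by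
    have := mul_mem (o.fixed_mem (a := -a) (by rw [map_neg, ha]) z z z z z) hg
    rwa [tw_first_mul, neg_add_cancel] at this
  have hb : σ b = b := by
    obtain ⟨a', b', c', d', e', f', hm, heq⟩ := o.quot h1
      (o.fixed_mem (c := 1) z z (map_one _) z z z) (tw_pos _ _ _ _ _ _) (tw_pos _ _ _ _ _ _)
    simp only [tw, E_mul_E, map_zero, map_one, neg_zero] at heq
    obtain ⟨q1, q2, -, -, q5, -, -, q8, -⟩ := E_inj heq
    obtain rfl : a' = 0 := by linear_combination -q1
    obtain rfl : b' = 0 := by linear_combination -q2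
    obtain rfl : c' = 0 := by linear_combination -q5
    simp only [map_zero, neg_zero] at q8
    have hd := hS _ (o.D_mem_coord hm)
    rw [show d' = -(σ b + σ (σ b)) by linear_combination -q8] at hd
    simp only [map_neg, map_add, hcube] at hd
    linear_combination hd
  have h2 : tw K p n 0 0 c d e f ∈ H := by
    have := mul_mem (o.fixed_mem (b := -b) z (by rw [map_neg, hb]) z z z z) h1
    rwa [tw_A_mul, neg_add_cancel] at this
  have hc : σ c = c := by
    obtain ⟨a', b', c', d', e', f', hm, heq⟩ := o.quot h2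
      (o.fixed_mem (b := 1) z (map_one _) z z z z) (tw_pos _ _ _ _ _ _) (tw_pos _ _ _ _ _ _)
    simp only [tw, E_mul_E, map_zero, map_one, neg_zero] at heq
    obtain ⟨q1, q2, -, -, q5, -, -, q8, -⟩ := E_inj heq
    obtain rfl : a' = 0 := by linear_combination -q1
    obtain rfl : b' = 0 := by linear_combination -q2
    obtain rfl : c' = 0 := by linear_combination -q5
    simp only [map_zero, neg_zero] at q8
    have hd := hS _ (o.D_mem_coord hm)
    rw [show d' = σ c + σ (σ c) by linear_combination -q8] at hd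
    simp only [map_add, hcube] at hd
    linear_combination -hd
  have h3 : tw K p n 0 0 0 d e f ∈ H := by
    have := mul_mem (o.fixed_mem (c := -c) z z (by rw [map_neg, hc]) z z z) h2
    rwa [tw_C_mul, neg_add_cancel] at this
  exact ⟨hb, hc, hS _ (o.D_mem_coord h3), he, hf⟩

end CfsgLib.Twisted.D4Gen
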