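import Cfsg.Agent.Lib.Twisted.TypeD4

/-!
The multiplication of the unipotent group of `D₄` in characteristic two, in ordered coordinates.
-/

set_option autoImplicit false
set_option linter.unusedSectionVars false
set_option linter.unusedTactic false
set_option linter.unusedSimpArgs false
set_option linter.unreachableTactic false
set_option maxHeartbeats 1000000

namespace CfsgLib.Twisted.D4Uni

open Cfsg.Lie CfsgLib.ChevStr
open scoped MatrixGroups

variable {F : Type*} [Field F] [CharP F 2]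

/-- A root element of `D₄`. -/
noncomputable def X (r : ℕ) (t : F) : GL chevD4.Idx F := (coreD4 F).xGL r t

theorem X_mem (r : ℕ) (t : F) : X r t ∈ chevD4.group F := (coreD4 F).xGL_mem_group r t

theorem X_add (r : ℕ) (t u : F) : X r (t + u) = X r t * X r u := (coreD4 F).xGL_add r t u

theorem X_zero (r : ℕ) : X r (0 : F) = 1 := (coreD4 F).xGL_zero r

theorem X_mul_assoc (r : ℕ) (t u : F) (z : GL chevD4.Idx F) :
    X r t * (X r u * z) = X r (t + u) * z := by rw [X_add, mul_assoc]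

theorem mul_congr {x x' y y' : GL chevD4.Idx F} (h : x = x') (h' : y = y') : x * y = x' * y' := by
  rw [h, h']

/-- Two roots commuting in characteristic two. -/
def cmOK (r s : ℕ) : Bool :=
  decide (r < chevD4.nroots) && decide (s < chevD4.nroots) && s != r && s != chevD4.neg r &&
    chevD4.commTerms r s == []

/-- Two roots with sum `k`. -/
def swOK (r s k : ℕ) : Bool :=
  decide (r < chevD4.nroots) && decide (s < chevD4.nroots) && s != r && s != chevD4.neg r &&
    (chevD4.commTerms r s == [(k, 1, 1, 1)] || chevD4.commTerms r s == [(k, -1, 1, 1)])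

theorem cm_of (r s : ℕ) (h : cmOK r s = true) (u t : F) (w : GL chevD4.Idx F) :
    X s u * (X r t * w) = X r t * (X s u * w) := by
  simp only [cmOK, Bool.and_eq_true, decide_eq_true_eq, bne_iff_ne, beq_iff_eq] at h
  obtain ⟨⟨⟨⟨h1, h2⟩, h3⟩, h4⟩, h5⟩ := h
  simp only [X]
  rw [← mul_assoc, (coreD4 F).xGL_comm h1 h2 h3 h4 t u]
  simp [ChevalleyDatum.commWord, h5, ChevCore.wordGL_nil, mul_assoc]

theorem sw_of (r s k : ℕ) (h : swOK r s k = true) (u t : F) (w : GL chevD4.Idx F) :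
    X s u * (X r t * w) = X r t * (X s u * (X k (t * u) * w)) := by
  simp only [swOK, Bool.and_eq_true, Bool.or_eq_true, decide_eq_true_eq, bne_iff_ne, beq_iff_eq] at h
  obtain ⟨⟨⟨⟨h1, h2⟩, h3⟩, h4⟩, h5⟩ := h
  simp only [X]
  rw [← mul_assoc, (coreD4 F).xGL_comm h1 h2 h3 h4 t u]
  rcases h5 with h5 | h5 <;>
    simp [ChevalleyDatum.commWord, h5, ChevCore.wordGL_cons, ChevCore.wordGL_nil, mul_assoc,
      CharTwo.neg_eq]

/-- The element with the given coordinates. -/
noncomputable def E12 (a b b1 b2 c c1 c2 d d1 d2 e f : F) : GL chevD4.Idx F :=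
  X 14 a * (X 18 b * (X 13 b1 * (X 12 b2 * (X 19 c * (X 16 c1 * (X 15 c2 * (X 17 d *
    (X 20 d1 * (X 21 d2 * (X 22 e * (X 23 f * 1)))))))))))

theorem E_congr {a b b1 b2 c c1 c2 d d1 d2 e f A B B1 B2 C C1 C2 D D1 D2 E G : F}
    (q1 : a = A) (q2 : b = B) (q3 : b1 = B1) (q4 : b2 = B2) (q5 : c = C) (q6 : c1 = C1)
    (q7 : c2 = C2) (q8 : d = D) (q9 : d1 = D1) (q10 : d2 = D2) (q11 : e = E) (q12 : f = G) :
    E12 a b b1 b2 c c1 c2 d d1 d2 e f = E12 A B B1 B2 C C1 C2 D D1 D2 E G := by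
  rw [q1, q2, q3, q4, q5, q6, q7, q8, q9, q10, q11, q12]

theorem p18_14 (u t : F) (w : GL chevD4.Idx F) :
    X 18 u * (X 14 t * w) = X 14 t * (X 18 u * (X 19 (t * u) * w)) :=
  sw_of 14 18 19 (by decide +kernel) u t w

theorem p13_14 (u t : F) (w : GL chevD4.Idx F) :
    X 13 u * (X 14 t * w) = X 14 t * (X 13 u * (X 16 (t * u) * w)) :=
  sw_of 14 13 16 (by decide +kernel) u t w

theorem p12_14 (u t : F) (w : GL chevD4.Idx F) :
    X 12 u * (X 14 t * w) = X 14 t * (X 12 u * (X 15 (t * u) * w)) :=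
  sw_of 14 12 15 (by decide +kernel) u t w

theorem p19_14 (u t : F) (w : GL chevD4.Idx F) : X 19 u * (X 14 t * w) = X 14 t * (X 19 u * w) :=
  cm_of 14 19 (by decide +kernel) u t w

theorem p16_14 (u t : F) (w : GL chevD4.Idx F) : X 16 u * (X 14 t * w) = X 14 t * (X 16 u * w) :=
  cm_of 14 16 (by decide +kernel) u t w

theorem p15_14 (u t : F) (w : GL chevD4.Idx F) : X 15 u * (X 14 t * w) = X 14 t * (X 15 u * w) :=
  cm_of 14 15 (by decide +kernel) u t w

theorem p17_14 (u t : F) (w : GL chevD4.Idx F) : X 17 u * (X 14 t * w) = X 14 t * (X 17 u * w) :=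
  cm_of 14 17 (by decide +kernel) u t w

theorem p20_14 (u t : F) (w : GL chevD4.Idx F) : X 20 u * (X 14 t * w) = X 14 t * (X 20 u * w) :=
  cm_of 14 20 (by decide +kernel) u t w

theorem p21_14 (u t : F) (w : GL chevD4.Idx F) : X 21 u * (X 14 t * w) = X 14 t * (X 21 u * w) :=
  cm_of 14 21 (by decide +kernel) u t w

theorem p22_14 (u t : F) (w : GL chevD4.Idx F) :
    X 22 u * (X 14 t * w) = X 14 t * (X 22 u * (X 23 (t * u) * w)) :=
  sw_of 14 22 23 (by decide +kernel) u t w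

theorem p23_14 (u t : F) (w : GL chevD4.Idx F) : X 23 u * (X 14 t * w) = X 14 t * (X 23 u * w) :=
  cm_of 14 23 (by decide +kernel) u t w

theorem p13_18 (u t : F) (w : GL chevD4.Idx F) : X 13 u * (X 18 t * w) = X 18 t * (X 13 u * w) :=
  cm_of 18 13 (by decide +kernel) u t w

theorem p12_18 (u t : F) (w : GL chevD4.Idx F) : X 12 u * (X 18 t * w) = X 18 t * (X 12 u * w) :=
  cm_of 18 12 (by decide +kernel) u t w

theorem p19_18 (u t : F) (w : GL chevD4.Idx F) : X 19 u * (X 18 t * w) = X 18 t * (X 19 u * w) :=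
  cm_of 18 19 (by decide +kernel) u t w

theorem p16_18 (u t : F) (w : GL chevD4.Idx F) :
    X 16 u * (X 18 t * w) = X 18 t * (X 16 u * (X 21 (t * u) * w)) :=
  sw_of 18 16 21 (by decide +kernel) u t w

theorem p15_18 (u t : F) (w : GL chevD4.Idx F) :
    X 15 u * (X 18 t * w) = X 18 t * (X 15 u * (X 20 (t * u) * w)) :=
  sw_of 18 15 20 (by decide +kernel) u t w

theorem p17_18 (u t : F) (w : GL chevD4.Idx F) :
    X 17 u * (X 18 t * w) = X 18 t * (X 17 u * (X 22 (t * u) * w)) :=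
  sw_of 18 17 22 (by decide +kernel) u t w

theorem p20_18 (u t : F) (w : GL chevD4.Idx F) : X 20 u * (X 18 t * w) = X 18 t * (X 20 u * w) :=
  cm_of 18 20 (by decide +kernel) u t w

theorem p21_18 (u t : F) (w : GL chevD4.Idx F) : X 21 u * (X 18 t * w) = X 18 t * (X 21 u * w) :=
  cm_of 18 21 (by decide +kernel) u t w

theorem p22_18 (u t : F) (w : GL chevD4.Idx F) : X 22 u * (X 18 t * w) = X 18 t * (X 22 u * w) :=
  cm_of 18 22 (by decide +kernel) u t w

theorem p23_18 (u t : F) (w : GL chevD4.Idx F) : X 23 u * (X 18 t * w) = X 18 t * (X 23 u * w) :=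
  cm_of 18 23 (by decide +kernel) u t w

theorem p12_13 (u t : F) (w : GL chevD4.Idx F) : X 12 u * (X 13 t * w) = X 13 t * (X 12 u * w) :=
  cm_of 13 12 (by decide +kernel) u t w

theorem p19_13 (u t : F) (w : GL chevD4.Idx F) :
    X 19 u * (X 13 t * w) = X 13 t * (X 19 u * (X 21 (t * u) * w)) :=
  sw_of 13 19 21 (by decide +kernel) u t w

theorem p16_13 (u t : F) (w : GL chevD4.Idx F) : X 16 u * (X 13 t * w) = X 13 t * (X 16 u * w) :=
  cm_of 13 16 (by decide +kernel) u t w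

theorem p15_13 (u t : F) (w : GL chevD4.Idx F) :
    X 15 u * (X 13 t * w) = X 13 t * (X 15 u * (X 17 (t * u) * w)) :=
  sw_of 13 15 17 (by decide +kernel) u t w

theorem p17_13 (u t : F) (w : GL chevD4.Idx F) : X 17 u * (X 13 t * w) = X 13 t * (X 17 u * w) :=
  cm_of 13 17 (by decide +kernel) u t w

theorem p20_13 (u t : F) (w : GL chevD4.Idx F) :
    X 20 u * (X 13 t * w) = X 13 t * (X 20 u * (X 22 (t * u) * w)) :=
  sw_of 13 20 22 (by decide +kernel) u t w

theorem p21_13 (u t : F) (w : GL chevD4.Idx F) : X 21 u * (X 13 t * w) = X 13 t * (X 21 u * w) :=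
  cm_of 13 21 (by decide +kernel) u t w

theorem p22_13 (u t : F) (w : GL chevD4.Idx F) : X 22 u * (X 13 t * w) = X 13 t * (X 22 u * w) :=
  cm_of 13 22 (by decide +kernel) u t w

theorem p23_13 (u t : F) (w : GL chevD4.Idx F) : X 23 u * (X 13 t * w) = X 13 t * (X 23 u * w) :=
  cm_of 13 23 (by decide +kernel) u t w

theorem p19_12 (u t : F) (w : GL chevD4.Idx F) :
    X 19 u * (X 12 t * w) = X 12 t * (X 19 u * (X 20 (t * u) * w)) :=
  sw_of 12 19 20 (by decide +kernel) u t w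

theorem p16_12 (u t : F) (w : GL chevD4.Idx F) :
    X 16 u * (X 12 t * w) = X 12 t * (X 16 u * (X 17 (t * u) * w)) :=
  sw_of 12 16 17 (by decide +kernel) u t w

theorem p15_12 (u t : F) (w : GL chevD4.Idx F) : X 15 u * (X 12 t * w) = X 12 t * (X 15 u * w) :=
  cm_of 12 15 (by decide +kernel) u t w

theorem p17_12 (u t : F) (w : GL chevD4.Idx F) : X 17 u * (X 12 t * w) = X 12 t * (X 17 u * w) :=
  cm_of 12 17 (by decide +kernel) u t w

theorem p20_12 (u t : F) (w : GL chevD4.Idx F) : X 20 u * (X 12 t * w) = X 12 t * (X 20 u * w) :=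
  cm_of 12 20 (by decide +kernel) u t w

theorem p21_12 (u t : F) (w : GL chevD4.Idx F) :
    X 21 u * (X 12 t * w) = X 12 t * (X 21 u * (X 22 (t * u) * w)) :=
  sw_of 12 21 22 (by decide +kernel) u t w

theorem p22_12 (u t : F) (w : GL chevD4.Idx F) : X 22 u * (X 12 t * w) = X 12 t * (X 22 u * w) :=
  cm_of 12 22 (by decide +kernel) u t w

theorem p23_12 (u t : F) (w : GL chevD4.Idx F) : X 23 u * (X 12 t * w) = X 12 t * (X 23 u * w) :=
  cm_of 12 23 (by decide +kernel) u t w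

theorem p16_19 (u t : F) (w : GL chevD4.Idx F) : X 16 u * (X 19 t * w) = X 19 t * (X 16 u * w) :=
  cm_of 19 16 (by decide +kernel) u t w

theorem p15_19 (u t : F) (w : GL chevD4.Idx F) : X 15 u * (X 19 t * w) = X 19 t * (X 15 u * w) :=
  cm_of 19 15 (by decide +kernel) u t w

theorem p17_19 (u t : F) (w : GL chevD4.Idx F) :
    X 17 u * (X 19 t * w) = X 19 t * (X 17 u * (X 23 (t * u) * w)) :=
  sw_of 19 17 23 (by decide +kernel) u t w

theorem p20_19 (u t : F) (w : GL chevD4.Idx F) : X 20 u * (X 19 t * w) = X 19 t * (X 20 u * w) :=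
  cm_of 19 20 (by decide +kernel) u t w

theorem p21_19 (u t : F) (w : GL chevD4.Idx F) : X 21 u * (X 19 t * w) = X 19 t * (X 21 u * w) :=
  cm_of 19 21 (by decide +kernel) u t w

theorem p22_19 (u t : F) (w : GL chevD4.Idx F) : X 22 u * (X 19 t * w) = X 19 t * (X 22 u * w) :=
  cm_of 19 22 (by decide +kernel) u t w

theorem p23_19 (u t : F) (w : GL chevD4.Idx F) : X 23 u * (X 19 t * w) = X 19 t * (X 23 u * w) :=
  cm_of 19 23 (by decide +kernel) u t w

theorem p15_16 (u t : F) (w : GL chevD4.Idx F) : X 15 u * (X 16 t * w) = X 16 t * (X 15 u * w) :=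
  cm_of 16 15 (by decide +kernel) u t w

theorem p17_16 (u t : F) (w : GL chevD4.Idx F) : X 17 u * (X 16 t * w) = X 16 t * (X 17 u * w) :=
  cm_of 16 17 (by decide +kernel) u t w

theorem p20_16 (u t : F) (w : GL chevD4.Idx F) :
    X 20 u * (X 16 t * w) = X 16 t * (X 20 u * (X 23 (t * u) * w)) :=
  sw_of 16 20 23 (by decide +kernel) u t w

theorem p21_16 (u t : F) (w : GL chevD4.Idx F) : X 21 u * (X 16 t * w) = X 16 t * (X 21 u * w) :=
  cm_of 16 21 (by decide +kernel) u t w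

theorem p22_16 (u t : F) (w : GL chevD4.Idx F) : X 22 u * (X 16 t * w) = X 16 t * (X 22 u * w) :=
  cm_of 16 22 (by decide +kernel) u t w

theorem p23_16 (u t : F) (w : GL chevD4.Idx F) : X 23 u * (X 16 t * w) = X 16 t * (X 23 u * w) :=
  cm_of 16 23 (by decide +kernel) u t w

theorem p17_15 (u t : F) (w : GL chevD4.Idx F) : X 17 u * (X 15 t * w) = X 15 t * (X 17 u * w) :=
  cm_of 15 17 (by decide +kernel) u t w

theorem p20_15 (u t : F) (w : GL chevD4.Idx F) : X 20 u * (X 15 t * w) = X 15 t * (X 20 u * w) :=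
  cm_of 15 20 (by decide +kernel) u t w

theorem p21_15 (u t : F) (w : GL chevD4.Idx F) :
    X 21 u * (X 15 t * w) = X 15 t * (X 21 u * (X 23 (t * u) * w)) :=
  sw_of 15 21 23 (by decide +kernel) u t w

theorem p22_15 (u t : F) (w : GL chevD4.Idx F) : X 22 u * (X 15 t * w) = X 15 t * (X 22 u * w) :=
  cm_of 15 22 (by decide +kernel) u t w

theorem p23_15 (u t : F) (w : GL chevD4.Idx F) : X 23 u * (X 15 t * w) = X 15 t * (X 23 u * w) :=
  cm_of 15 23 (by decide +kernel) u t w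

theorem p20_17 (u t : F) (w : GL chevD4.Idx F) : X 20 u * (X 17 t * w) = X 17 t * (X 20 u * w) :=
  cm_of 17 20 (by decide +kernel) u t w

theorem p21_17 (u t : F) (w : GL chevD4.Idx F) : X 21 u * (X 17 t * w) = X 17 t * (X 21 u * w) :=
  cm_of 17 21 (by decide +kernel) u t w

theorem p22_17 (u t : F) (w : GL chevD4.Idx F) : X 22 u * (X 17 t * w) = X 17 t * (X 22 u * w) :=
  cm_of 17 22 (by decide +kernel) u t w

theorem p23_17 (u t : F) (w : GL chevD4.Idx F) : X 23 u * (X 17 t * w) = X 17 t * (X 23 u * w) :=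
  cm_of 17 23 (by decide +kernel) u t w

theorem p21_20 (u t : F) (w : GL chevD4.Idx F) : X 21 u * (X 20 t * w) = X 20 t * (X 21 u * w) :=
  cm_of 20 21 (by decide +kernel) u t w

theorem p22_20 (u t : F) (w : GL chevD4.Idx F) : X 22 u * (X 20 t * w) = X 20 t * (X 22 u * w) :=
  cm_of 20 22 (by decide +kernel) u t w

theorem p23_20 (u t : F) (w : GL chevD4.Idx F) : X 23 u * (X 20 t * w) = X 20 t * (X 23 u * w) :=
  cm_of 20 23 (by decide +kernel) u t w

theorem p22_21 (u t : F) (w : GL chevD4.Idx F) : X 22 u * (X 21 t * w) = X 21 t * (X 22 u * w) :=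
  cm_of 21 22 (by decide +kernel) u t w

theorem p23_21 (u t : F) (w : GL chevD4.Idx F) : X 23 u * (X 21 t * w) = X 21 t * (X 23 u * w) :=
  cm_of 21 23 (by decide +kernel) u t w

theorem p23_22 (u t : F) (w : GL chevD4.Idx F) : X 23 u * (X 22 t * w) = X 22 t * (X 23 u * w) :=
  cm_of 22 23 (by decide +kernel) u t w

theorem E_mul_X14 (a b b1 b2 c c1 c2 d d1 d2 e f t : F) :
    E12 a b b1 b2 c c1 c2 d d1 d2 e f * X 14 t =
      E12 (a + t) b b1 b2 (c + b * t) (c1 + b1 * t) (c2 + b2 * t) (d + b1 * b2 * t) (d1 + b * b2 * t) (d2 + b * b1 * t) (e + b * b1 * b2 * t) (f + e * t + b * b1 * c2 * t + b * b2 * c1 * t + b1 * b2 * c * t) := by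
  rw [← mul_one (X 14 t)]
  simp only [E12, mul_assoc, one_mul, X_mul_assoc, p18_14, p13_14, p13_18, p12_14, p12_18, p12_13, p19_14, p19_18, p19_13, p19_12, p16_14, p16_18, p16_13, p16_12, p16_19, p15_14, p15_18, p15_13, p15_12, p15_19, p15_16, p17_14, p17_18, p17_13, p17_12, p17_19, p17_16, p17_15, p20_14, p20_18, p20_13, p20_12, p20_19, p20_16, p20_15, p20_17, p21_14, p21_18, p21_13, p21_12, p21_19, p21_16, p21_15, p21_17, p21_20, p22_14, p22_18, p22_13, p22_12, p22_19, p22_16, p22_15, p22_17, p22_20, p22_21, p23_14, p23_18, p23_13, p23_12, p23_19, p23_16, p23_15, p23_17, p23_20, p23_21, p23_22]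
  repeat' refine mul_congr ?_ ?_
  all_goals first
    | rfl
    | (refine congrArg _ ?_; ring1)
    | (refine congrArg _ ?_; ring_nf; simp [CharTwo.two_eq_zero]; done)

theorem E_mul_X18 (a b b1 b2 c c1 c2 d d1 d2 e f t : F) :
    E12 a b b1 b2 c c1 c2 d d1 d2 e f * X 18 t =
      E12 a (b + t) b1 b2 c c1 c2 d (d1 + c2 * t) (d2 + c1 * t) (e + d * t) (f + c1 * c2 * t) := by
  rw [← mul_one (X 18 t)]
  simp only [E12, mul_assoc, one_mul, X_mul_assoc, p13_18, p12_18, p12_13, p19_18, p19_13, p19_12, p16_18, p16_13, p16_12, p16_19, p15_18, p15_13, p15_12, p15_19, p15_16, p17_18, p17_13, p17_12, p17_19, p17_16, p17_15, p20_18, p20_13, p20_12, p20_19, p20_16, p20_15, p20_17, p21_18, p21_13, p21_12, p21_19, p21_16, p21_15, p21_17, p21_20, p22_18, p22_13, p22_12, p22_19, p22_16, p22_15, p22_17, p22_20, p22_21, p23_18, p23_13, p23_12, p23_19, p23_16, p23_15, p23_17, p23_20, p23_21, p23_22]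
  repeat' refine mul_congr ?_ ?_
  all_goals first
    | rfl
    | (refine congrArg _ ?_; ring1)
    | (refine congrArg _ ?_; ring_nf; simp [CharTwo.two_eq_zero]; done)

theorem E_mul_X13 (a b b1 b2 c c1 c2 d d1 d2 e f t : F) :
    E12 a b b1 b2 c c1 c2 d d1 d2 e f * X 13 t =
      E12 a b (b1 + t) b2 c c1 c2 (d + c2 * t) d1 (d2 + c * t) (e + d1 * t) (f + c * c2 * t) := by
  rw [← mul_one (X 13 t)]
  simp only [E12, mul_assoc, one_mul, X_mul_assoc, p12_13, p19_13, p19_12, p16_13, p16_12, p16_19, p15_13, p15_12, p15_19, p15_16, p17_13, p17_12, p17_19, p17_16, p17_15, p20_13, p20_12, p20_19, p20_16, p20_15, p20_17, p21_13, p21_12, p21_19, p21_16, p21_15, p21_17, p21_20, p22_13, p22_12, p22_19, p22_16, p22_15, p22_17, p22_20, p22_21, p23_13, p23_12, p23_19, p23_16, p23_15, p23_17, p23_20, p23_21, p23_22]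
  repeat' refine mul_congr ?_ ?_
  all_goals first
    | rfl
    | (refine congrArg _ ?_; ring1)
    | (refine congrArg _ ?_; ring_nf; simp [CharTwo.two_eq_zero]; done)

theorem E_mul_X12 (a b b1 b2 c c1 c2 d d1 d2 e f t : F) :
    E12 a b b1 b2 c c1 c2 d d1 d2 e f * X 12 t =
      E12 a b b1 (b2 + t) c c1 c2 (d + c1 * t) (d1 + c * t) d2 (e + d2 * t) (f + c * c1 * t) := by
  rw [← mul_one (X 12 t)]
  simp only [E12, mul_assoc, one_mul, X_mul_assoc, p19_12, p16_12, p16_19, p15_12, p15_19, p15_16, p17_12, p17_19, p17_16, p17_15, p20_12, p20_19, p20_16, p20_15, p20_17, p21_12, p21_19, p21_16, p21_15, p21_17, p21_20, p22_12, p22_19, p22_16, p22_15, p22_17, p22_20, p22_21, p23_12, p23_19, p23_16, p23_15, p23_17, p23_20, p23_21, p23_22]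
  repeat' refine mul_congr ?_ ?_
  all_goals first
    | rfl
    | (refine congrArg _ ?_; ring1)
    | (refine congrArg _ ?_; ring_nf; simp [CharTwo.two_eq_zero]; done)

theorem E_mul_X19 (a b b1 b2 c c1 c2 d d1 d2 e f t : F) :
    E12 a b b1 b2 c c1 c2 d d1 d2 e f * X 19 t =
      E12 a b b1 b2 (c + t) c1 c2 d d1 d2 e (f + d * t) := by
  rw [← mul_one (X 19 t)]
  simp only [E12, mul_assoc, one_mul, X_mul_assoc, p16_19, p15_19, p15_16, p17_19, p17_16, p17_15, p20_19, p20_16, p20_15, p20_17, p21_19, p21_16, p21_15, p21_17, p21_20, p22_19, p22_16, p22_15, p22_17, p22_20, p22_21, p23_19, p23_16, p23_15, p23_17, p23_20, p23_21, p23_22]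
  repeat' refine mul_congr ?_ ?_
  all_goals first
    | rfl
    | (refine congrArg _ ?_; ring1)
    | (refine congrArg _ ?_; ring_nf; simp [CharTwo.two_eq_zero]; done)

theorem E_mul_X16 (a b b1 b2 c c1 c2 d d1 d2 e f t : F) :
    E12 a b b1 b2 c c1 c2 d d1 d2 e f * X 16 t =
      E12 a b b1 b2 c (c1 + t) c2 d d1 d2 e (f + d1 * t) := by
  rw [← mul_one (X 16 t)]
  simp only [E12, mul_assoc, one_mul, X_mul_assoc, p15_16, p17_16, p17_15, p20_16, p20_15, p20_17, p21_16, p21_15, p21_17, p21_20, p22_16, p22_15, p22_17, p22_20, p22_21, p23_16, p23_15, p23_17, p23_20, p23_21, p23_22]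
  repeat' refine mul_congr ?_ ?_
  all_goals first
    | rfl
    | (refine congrArg _ ?_; ring1)
    | (refine congrArg _ ?_; ring_nf; simp [CharTwo.two_eq_zero]; done)

theorem E_mul_X15 (a b b1 b2 c c1 c2 d d1 d2 e f t : F) :
    E12 a b b1 b2 c c1 c2 d d1 d2 e f * X 15 t =
      E12 a b b1 b2 c c1 (c2 + t) d d1 d2 e (f + d2 * t) := by
  rw [← mul_one (X 15 t)]
  simp only [E12, mul_assoc, one_mul, X_mul_assoc, p17_15, p20_15, p20_17, p21_15, p21_17, p21_20, p22_15, p22_17, p22_20, p22_21, p23_15, p23_17, p23_20, p23_21, p23_22]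
  repeat' refine mul_congr ?_ ?_
  all_goals first
    | rfl
    | (refine congrArg _ ?_; ring1)
    | (refine congrArg _ ?_; ring_nf; simp [CharTwo.two_eq_zero]; done)

theorem E_mul_X17 (a b b1 b2 c c1 c2 d d1 d2 e f t : F) :
    E12 a b b1 b2 c c1 c2 d d1 d2 e f * X 17 t =
      E12 a b b1 b2 c c1 c2 (d + t) d1 d2 e f := by
  rw [← mul_one (X 17 t)]
  simp only [E12, mul_assoc, one_mul, X_mul_assoc, p20_17, p21_17, p21_20, p22_17, p22_20, p22_21, p23_17, p23_20, p23_21, p23_22]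
  repeat' refine mul_congr ?_ ?_
  all_goals first
    | rfl
    | (refine congrArg _ ?_; ring1)
    | (refine congrArg _ ?_; ring_nf; simp [CharTwo.two_eq_zero]; done)

theorem E_mul_X20 (a b b1 b2 c c1 c2 d d1 d2 e f t : F) :
    E12 a b b1 b2 c c1 c2 d d1 d2 e f * X 20 t =
      E12 a b b1 b2 c c1 c2 d (d1 + t) d2 e f := by
  rw [← mul_one (X 20 t)]
  simp only [E12, mul_assoc, one_mul, X_mul_assoc, p21_20, p22_20, p22_21, p23_20, p23_21, p23_22]
  repeat' refine mul_congr ?_ ?_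
  all_goals first
    | rfl
    | (refine congrArg _ ?_; ring1)
    | (refine congrArg _ ?_; ring_nf; simp [CharTwo.two_eq_zero]; done)

theorem E_mul_X21 (a b b1 b2 c c1 c2 d d1 d2 e f t : F) :
    E12 a b b1 b2 c c1 c2 d d1 d2 e f * X 21 t =
      E12 a b b1 b2 c c1 c2 d d1 (d2 + t) e f := by
  rw [← mul_one (X 21 t)]
  simp only [E12, mul_assoc, one_mul, X_mul_assoc, p22_21, p23_21, p23_22]
  repeat' refine mul_congr ?_ ?_
  all_goals first
    | rfl
    | (refine congrArg _ ?_; ring1)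
    | (refine congrArg _ ?_; ring_nf; simp [CharTwo.two_eq_zero]; done)

theorem E_mul_X22 (a b b1 b2 c c1 c2 d d1 d2 e f t : F) :
    E12 a b b1 b2 c c1 c2 d d1 d2 e f * X 22 t =
      E12 a b b1 b2 c c1 c2 d d1 d2 (e + t) f := by
  rw [← mul_one (X 22 t)]
  simp only [E12, mul_assoc, one_mul, X_mul_assoc, p23_22]
  repeat' refine mul_congr ?_ ?_
  all_goals first
    | rfl
    | (refine congrArg _ ?_; ring1)
    | (refine congrArg _ ?_; ring_nf; simp [CharTwo.two_eq_zero]; done)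

theorem E_mul_X23 (a b b1 b2 c c1 c2 d d1 d2 e f t : F) :
    E12 a b b1 b2 c c1 c2 d d1 d2 e f * X 23 t =
      E12 a b b1 b2 c c1 c2 d d1 d2 e (f + t) := by
  rw [← mul_one (X 23 t)]
  simp only [E12, mul_assoc, one_mul, X_mul_assoc]
  repeat' refine mul_congr ?_ ?_
  all_goals first
    | rfl
    | (refine congrArg _ ?_; ring1)
    | (refine congrArg _ ?_; ring_nf; simp [CharTwo.two_eq_zero]; done)

theorem E_mul_E (a b b1 b2 c c1 c2 d d1 d2 e f A B B1 B2 C C1 C2 D D1 D2 E F : F) :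
    E12 a b b1 b2 c c1 c2 d d1 d2 e f * E12 A B B1 B2 C C1 C2 D D1 D2 E F =
      E12 (A + a)
        (B + b)
        (B1 + b1)
        (B2 + b2)
        (C + c + A * b)
        (C1 + c1 + A * b1)
        (C2 + c2 + A * b2)
        (D + d + B1 * c2 + B2 * c1 + A * B1 * b2 + A * B2 * b1 + A * b1 * b2)
        (D1 + d1 + B * c2 + B2 * c + A * B * b2 + A * B2 * b + A * b * b2)
        (D2 + d2 + B * c1 + B1 * c + A * B * b1 + A * B1 * b + A * b * b1)
        (E + e + B * d + B1 * d1 + B2 * d2 + B * B1 * c2 + B * B2 * c1 + B1 * B2 * c + A * B * B1 * b2 + A * B * B2 * b1 + A * B * b1 * b2 + A * B1 * B2 * b + A * B1 * b * b2 + A * B2 * b * b1 + A * b * b1 * b2)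
        (F + f + A * e + C * d + C1 * d1 + C2 * d2 + B * C1 * c2 + B * C2 * c1 + B * c1 * c2 + B1 * C * c2 + B1 * C2 * c + B1 * c * c2 + B2 * C * c1 + B2 * C1 * c + B2 * c * c1 + A * B * C1 * b2 + A * B * C2 * b1 + A * B * b1 * c2 + A * B * b2 * c1 + A * B1 * C * b2 + A * B1 * C2 * b + A * B1 * b * c2 + A * B1 * b2 * c + A * B2 * C * b1 + A * B2 * C1 * b + A * B2 * b * c1 + A * B2 * b1 * c + A * C * b1 * b2 + A * C1 * b * b2 + A * C2 * b * b1 + A * b * b1 * c2 + A * b * b2 * c1 + A * b1 * b2 * c + A * A * B * b1 * b2 + A * A * B1 * b * b2 + A * A * B2 * b * b1) := by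
  conv_lhs => arg 2; unfold E12
  simp only [← mul_assoc, mul_one]
  rw [E_mul_X14, E_mul_X18, E_mul_X13, E_mul_X12, E_mul_X19, E_mul_X16, E_mul_X15, E_mul_X17, E_mul_X20, E_mul_X21, E_mul_X22, E_mul_X23]
  refine E_congr ?_ ?_ ?_ ?_ ?_ ?_ ?_ ?_ ?_ ?_ ?_ ?_
  all_goals first
    | ring1
    | (ring_nf; simp [CharTwo.two_eq_zero]; done)
end CfsgLib.Twisted.D4Uni
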