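import Cfsg.Agent.Lib.Twisted.TypeD4

/-!
The multiplication of the unipotent group of `D₄` over any field, in ordered coordinates.
-/

set_option autoImplicit false
set_option linter.unusedSectionVars false
set_option linter.unusedSimpArgs false
set_option linter.unusedTactic false
set_option linter.unreachableTactic false
set_option maxHeartbeats 1000000

namespace CfsgLib.Twisted.D4Gen

open Cfsg.Lie CfsgLib.ChevStr
open scoped MatrixGroups

variable {F : Type*} [Field F]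

/-- A root element of `D₄`. -/
noncomputable def X (r : ℕ) (t : F) : GL chevD4.Idx F := (coreD4 F).xGL r t

theorem X_mem (r : ℕ) (t : F) : X r t ∈ chevD4.group F := (coreD4 F).xGL_mem_group r t

theorem X_add (r : ℕ) (t u : F) : X r (t + u) = X r t * X r u := (coreD4 F).xGL_add r t u

theorem X_zero (r : ℕ) : X r (0 : F) = 1 := (coreD4 F).xGL_zero r

theorem X_mul_assoc (r : ℕ) (t u : F) (z : GL chevD4.Idx F) :
    X r t * (X r u * z) = X r (t + u) * z := by rw [X_add, mul_assoc]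

theorem mul_congr {x x' y y' : GL chevD4.Idx F} (h : x = x') (h' : y = y') : x * y = x' * y' := by
  rw [h, h']

/-- Two commuting root subgroups. -/
def cmOK (r s : ℕ) : Bool :=
  decide (r < chevD4.nroots) && decide (s < chevD4.nroots) && s != r && s != chevD4.neg r &&
    chevD4.commTerms r s == []

/-- Two roots with sum `k` and constant `z`. -/
def swOK (r s k : ℕ) (z : ℤ) : Bool :=
  decide (r < chevD4.nroots) && decide (s < chevD4.nroots) && s != r && s != chevD4.neg r &&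
    chevD4.commTerms r s == [(k, z, 1, 1)]

theorem cm_of (r s : ℕ) (h : cmOK r s = true) (u t : F) (w : GL chevD4.Idx F) :
    X s u * (X r t * w) = X r t * (X s u * w) := by
  simp only [cmOK, Bool.and_eq_true, decide_eq_true_eq, bne_iff_ne, beq_iff_eq] at h
  obtain ⟨⟨⟨⟨h1, h2⟩, h3⟩, h4⟩, h5⟩ := h
  simp only [X]
  rw [← mul_assoc, (coreD4 F).xGL_comm h1 h2 h3 h4 t u]
  simp [ChevalleyDatum.commWord, h5, ChevCore.wordGL_nil, mul_assoc]

theorem sw_of (r s k : ℕ) (z : ℤ) (h : swOK r s k z = true) (u t : F) (w : GL chevD4.Idx F)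
    (v : F) (hv : v = (z : F) * -t * u) :
    X s u * (X r t * w) = X r t * (X s u * (X k v * w)) := by
  simp only [swOK, Bool.and_eq_true, decide_eq_true_eq, bne_iff_ne, beq_iff_eq] at h
  obtain ⟨⟨⟨⟨h1, h2⟩, h3⟩, h4⟩, h5⟩ := h
  subst hv
  simp only [X]
  rw [← mul_assoc, (coreD4 F).xGL_comm h1 h2 h3 h4 t u]
  simp [ChevalleyDatum.commWord, h5, ChevCore.wordGL_cons, ChevCore.wordGL_nil, mul_assoc]

/-- The element with the given coordinates. -/
noncomputable def E (a b b1 b2 c c1 c2 d d1 d2 e f : F) : GL chevD4.Idx F :=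
  X 14 a * (X 18 b * (X 13 b1 * (X 12 b2 * (X 19 c * (X 16 c1 * (X 15 c2 * (X 17 d *
    (X 20 d1 * (X 21 d2 * (X 22 e * (X 23 f * 1)))))))))))

theorem E_congr {a b b1 b2 c c1 c2 d d1 d2 e f A B B1 B2 C C1 C2 D D1 D2 E' G : F}
    (q1 : a = A) (q2 : b = B) (q3 : b1 = B1) (q4 : b2 = B2) (q5 : c = C) (q6 : c1 = C1)
    (q7 : c2 = C2) (q8 : d = D) (q9 : d1 = D1) (q10 : d2 = D2) (q11 : e = E') (q12 : f = G) :
    E a b b1 b2 c c1 c2 d d1 d2 e f = E A B B1 B2 C C1 C2 D D1 D2 E' G := by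
  rw [q1, q2, q3, q4, q5, q6, q7, q8, q9, q10, q11, q12]

theorem p18_14 (u t : F) (w : GL chevD4.Idx F) :
    X 18 u * (X 14 t * w) = X 14 t * (X 18 u * (X 19 (-(t * u)) * w)) :=
  sw_of 14 18 19 (1) (by decide +kernel) u t w _ (by simp)

theorem p13_14 (u t : F) (w : GL chevD4.Idx F) :
    X 13 u * (X 14 t * w) = X 14 t * (X 13 u * (X 16 ((t * u)) * w)) :=
  sw_of 14 13 16 (-1) (by decide +kernel) u t w _ (by simp)

theorem p12_14 (u t : F) (w : GL chevD4.Idx F) :
    X 12 u * (X 14 t * w) = X 14 t * (X 12 u * (X 15 ((t * u)) * w)) :=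
  sw_of 14 12 15 (-1) (by decide +kernel) u t w _ (by simp)

theorem p19_14 (u t : F) (w : GL chevD4.Idx F) : X 19 u * (X 14 t * w) = X 14 t * (X 19 u * w) :=
  cm_of 14 19 (by decide +kernel) u t w

theorem p16_14 (u t : F) (w : GL chevD4.Idx F) : X 16 u * (X 14 t * w) = X 14 t * (X 16 u * w) :=
  cm_of 14 16 (by decide +kernel) u t w

theorem p15_14 (u t : F) (w : GL chevD4.Idx F) : X 15 u * (X 14 t * w) = X 14 t * (X 15 u * w) :=
  cm_of 14 15 (by decide +kernel) u t w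

theorem p17_14 (u t : F) (w : GL chevD4.Idx F) : X 17 u * (X 14 t * w) = X 14 t * (X 17 u * w) :=
  cm_of 14 17 (by decide +kernel) u t w

theorem p20_14 (u t : F) (w : GL chevD4.Idx F) : X 20 u * (X 14 t * w) = X 14 t * (X 20 u * w) :=
  cm_of 14 20 (by decide +kernel) u t w

theorem p21_14 (u t : F) (w : GL chevD4.Idx F) : X 21 u * (X 14 t * w) = X 14 t * (X 21 u * w) :=
  cm_of 14 21 (by decide +kernel) u t w

theorem p22_14 (u t : F) (w : GL chevD4.Idx F) :
    X 22 u * (X 14 t * w) = X 14 t * (X 22 u * (X 23 (-(t * u)) * w)) :=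
  sw_of 14 22 23 (1) (by decide +kernel) u t w _ (by simp)

theorem p23_14 (u t : F) (w : GL chevD4.Idx F) : X 23 u * (X 14 t * w) = X 14 t * (X 23 u * w) :=
  cm_of 14 23 (by decide +kernel) u t w

theorem p13_18 (u t : F) (w : GL chevD4.Idx F) : X 13 u * (X 18 t * w) = X 18 t * (X 13 u * w) :=
  cm_of 18 13 (by decide +kernel) u t w

theorem p12_18 (u t : F) (w : GL chevD4.Idx F) : X 12 u * (X 18 t * w) = X 18 t * (X 12 u * w) :=
  cm_of 18 12 (by decide +kernel) u t w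

theorem p19_18 (u t : F) (w : GL chevD4.Idx F) : X 19 u * (X 18 t * w) = X 18 t * (X 19 u * w) :=
  cm_of 18 19 (by decide +kernel) u t w

theorem p16_18 (u t : F) (w : GL chevD4.Idx F) :
    X 16 u * (X 18 t * w) = X 18 t * (X 16 u * (X 21 ((t * u)) * w)) :=
  sw_of 18 16 21 (-1) (by decide +kernel) u t w _ (by simp)

theorem p15_18 (u t : F) (w : GL chevD4.Idx F) :
    X 15 u * (X 18 t * w) = X 18 t * (X 15 u * (X 20 ((t * u)) * w)) :=
  sw_of 18 15 20 (-1) (by decide +kernel) u t w _ (by simp)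

theorem p17_18 (u t : F) (w : GL chevD4.Idx F) :
    X 17 u * (X 18 t * w) = X 18 t * (X 17 u * (X 22 ((t * u)) * w)) :=
  sw_of 18 17 22 (-1) (by decide +kernel) u t w _ (by simp)

theorem p20_18 (u t : F) (w : GL chevD4.Idx F) : X 20 u * (X 18 t * w) = X 18 t * (X 20 u * w) :=
  cm_of 18 20 (by decide +kernel) u t w

theorem p21_18 (u t : F) (w : GL chevD4.Idx F) : X 21 u * (X 18 t * w) = X 18 t * (X 21 u * w) :=
  cm_of 18 21 (by decide +kernel) u t w

theorem p22_18 (u t : F) (w : GL chevD4.Idx F) : X 22 u * (X 18 t * w) = X 18 t * (X 22 u * w) :=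
  cm_of 18 22 (by decide +kernel) u t w

theorem p23_18 (u t : F) (w : GL chevD4.Idx F) : X 23 u * (X 18 t * w) = X 18 t * (X 23 u * w) :=
  cm_of 18 23 (by decide +kernel) u t w

theorem p12_13 (u t : F) (w : GL chevD4.Idx F) : X 12 u * (X 13 t * w) = X 13 t * (X 12 u * w) :=
  cm_of 13 12 (by decide +kernel) u t w

theorem p19_13 (u t : F) (w : GL chevD4.Idx F) :
    X 19 u * (X 13 t * w) = X 13 t * (X 19 u * (X 21 (-(t * u)) * w)) :=
  sw_of 13 19 21 (1) (by decide +kernel) u t w _ (by simp)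

theorem p16_13 (u t : F) (w : GL chevD4.Idx F) : X 16 u * (X 13 t * w) = X 13 t * (X 16 u * w) :=
  cm_of 13 16 (by decide +kernel) u t w

theorem p15_13 (u t : F) (w : GL chevD4.Idx F) :
    X 15 u * (X 13 t * w) = X 13 t * (X 15 u * (X 17 (-(t * u)) * w)) :=
  sw_of 13 15 17 (1) (by decide +kernel) u t w _ (by simp)

theorem p17_13 (u t : F) (w : GL chevD4.Idx F) : X 17 u * (X 13 t * w) = X 13 t * (X 17 u * w) :=
  cm_of 13 17 (by decide +kernel) u t w

theorem p20_13 (u t : F) (w : GL chevD4.Idx F) :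
    X 20 u * (X 13 t * w) = X 13 t * (X 20 u * (X 22 (-(t * u)) * w)) :=
  sw_of 13 20 22 (1) (by decide +kernel) u t w _ (by simp)

theorem p21_13 (u t : F) (w : GL chevD4.Idx F) : X 21 u * (X 13 t * w) = X 13 t * (X 21 u * w) :=
  cm_of 13 21 (by decide +kernel) u t w

theorem p22_13 (u t : F) (w : GL chevD4.Idx F) : X 22 u * (X 13 t * w) = X 13 t * (X 22 u * w) :=
  cm_of 13 22 (by decide +kernel) u t w

theorem p23_13 (u t : F) (w : GL chevD4.Idx F) : X 23 u * (X 13 t * w) = X 13 t * (X 23 u * w) :=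
  cm_of 13 23 (by decide +kernel) u t w

theorem p19_12 (u t : F) (w : GL chevD4.Idx F) :
    X 19 u * (X 12 t * w) = X 12 t * (X 19 u * (X 20 (-(t * u)) * w)) :=
  sw_of 12 19 20 (1) (by decide +kernel) u t w _ (by simp)

theorem p16_12 (u t : F) (w : GL chevD4.Idx F) :
    X 16 u * (X 12 t * w) = X 12 t * (X 16 u * (X 17 (-(t * u)) * w)) :=
  sw_of 12 16 17 (1) (by decide +kernel) u t w _ (by simp)

theorem p15_12 (u t : F) (w : GL chevD4.Idx F) : X 15 u * (X 12 t * w) = X 12 t * (X 15 u * w) :=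
  cm_of 12 15 (by decide +kernel) u t w

theorem p17_12 (u t : F) (w : GL chevD4.Idx F) : X 17 u * (X 12 t * w) = X 12 t * (X 17 u * w) :=
  cm_of 12 17 (by decide +kernel) u t w

theorem p20_12 (u t : F) (w : GL chevD4.Idx F) : X 20 u * (X 12 t * w) = X 12 t * (X 20 u * w) :=
  cm_of 12 20 (by decide +kernel) u t w

theorem p21_12 (u t : F) (w : GL chevD4.Idx F) :
    X 21 u * (X 12 t * w) = X 12 t * (X 21 u * (X 22 (-(t * u)) * w)) :=
  sw_of 12 21 22 (1) (by decide +kernel) u t w _ (by simp)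

theorem p22_12 (u t : F) (w : GL chevD4.Idx F) : X 22 u * (X 12 t * w) = X 12 t * (X 22 u * w) :=
  cm_of 12 22 (by decide +kernel) u t w

theorem p23_12 (u t : F) (w : GL chevD4.Idx F) : X 23 u * (X 12 t * w) = X 12 t * (X 23 u * w) :=
  cm_of 12 23 (by decide +kernel) u t w

theorem p16_19 (u t : F) (w : GL chevD4.Idx F) : X 16 u * (X 19 t * w) = X 19 t * (X 16 u * w) :=
  cm_of 19 16 (by decide +kernel) u t w

theorem p15_19 (u t : F) (w : GL chevD4.Idx F) : X 15 u * (X 19 t * w) = X 19 t * (X 15 u * w) :=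
  cm_of 19 15 (by decide +kernel) u t w

theorem p17_19 (u t : F) (w : GL chevD4.Idx F) :
    X 17 u * (X 19 t * w) = X 19 t * (X 17 u * (X 23 ((t * u)) * w)) :=
  sw_of 19 17 23 (-1) (by decide +kernel) u t w _ (by simp)

theorem p20_19 (u t : F) (w : GL chevD4.Idx F) : X 20 u * (X 19 t * w) = X 19 t * (X 20 u * w) :=
  cm_of 19 20 (by decide +kernel) u t w

theorem p21_19 (u t : F) (w : GL chevD4.Idx F) : X 21 u * (X 19 t * w) = X 19 t * (X 21 u * w) :=
  cm_of 19 21 (by decide +kernel) u t w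

theorem p22_19 (u t : F) (w : GL chevD4.Idx F) : X 22 u * (X 19 t * w) = X 19 t * (X 22 u * w) :=
  cm_of 19 22 (by decide +kernel) u t w

theorem p23_19 (u t : F) (w : GL chevD4.Idx F) : X 23 u * (X 19 t * w) = X 19 t * (X 23 u * w) :=
  cm_of 19 23 (by decide +kernel) u t w

theorem p15_16 (u t : F) (w : GL chevD4.Idx F) : X 15 u * (X 16 t * w) = X 16 t * (X 15 u * w) :=
  cm_of 16 15 (by decide +kernel) u t w

theorem p17_16 (u t : F) (w : GL chevD4.Idx F) : X 17 u * (X 16 t * w) = X 16 t * (X 17 u * w) :=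
  cm_of 16 17 (by decide +kernel) u t w

theorem p20_16 (u t : F) (w : GL chevD4.Idx F) :
    X 20 u * (X 16 t * w) = X 16 t * (X 20 u * (X 23 ((t * u)) * w)) :=
  sw_of 16 20 23 (-1) (by decide +kernel) u t w _ (by simp)

theorem p21_16 (u t : F) (w : GL chevD4.Idx F) : X 21 u * (X 16 t * w) = X 16 t * (X 21 u * w) :=
  cm_of 16 21 (by decide +kernel) u t w

theorem p22_16 (u t : F) (w : GL chevD4.Idx F) : X 22 u * (X 16 t * w) = X 16 t * (X 22 u * w) :=
  cm_of 16 22 (by decide +kernel) u t w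

theorem p23_16 (u t : F) (w : GL chevD4.Idx F) : X 23 u * (X 16 t * w) = X 16 t * (X 23 u * w) :=
  cm_of 16 23 (by decide +kernel) u t w

theorem p17_15 (u t : F) (w : GL chevD4.Idx F) : X 17 u * (X 15 t * w) = X 15 t * (X 17 u * w) :=
  cm_of 15 17 (by decide +kernel) u t w

theorem p20_15 (u t : F) (w : GL chevD4.Idx F) : X 20 u * (X 15 t * w) = X 15 t * (X 20 u * w) :=
  cm_of 15 20 (by decide +kernel) u t w

theorem p21_15 (u t : F) (w : GL chevD4.Idx F) :
    X 21 u * (X 15 t * w) = X 15 t * (X 21 u * (X 23 ((t * u)) * w)) :=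
  sw_of 15 21 23 (-1) (by decide +kernel) u t w _ (by simp)

theorem p22_15 (u t : F) (w : GL chevD4.Idx F) : X 22 u * (X 15 t * w) = X 15 t * (X 22 u * w) :=
  cm_of 15 22 (by decide +kernel) u t w

theorem p23_15 (u t : F) (w : GL chevD4.Idx F) : X 23 u * (X 15 t * w) = X 15 t * (X 23 u * w) :=
  cm_of 15 23 (by decide +kernel) u t w

theorem p20_17 (u t : F) (w : GL chevD4.Idx F) : X 20 u * (X 17 t * w) = X 17 t * (X 20 u * w) :=
  cm_of 17 20 (by decide +kernel) u t w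

theorem p21_17 (u t : F) (w : GL chevD4.Idx F) : X 21 u * (X 17 t * w) = X 17 t * (X 21 u * w) :=
  cm_of 17 21 (by decide +kernel) u t w

theorem p22_17 (u t : F) (w : GL chevD4.Idx F) : X 22 u * (X 17 t * w) = X 17 t * (X 22 u * w) :=
  cm_of 17 22 (by decide +kernel) u t w

theorem p23_17 (u t : F) (w : GL chevD4.Idx F) : X 23 u * (X 17 t * w) = X 17 t * (X 23 u * w) :=
  cm_of 17 23 (by decide +kernel) u t w

theorem p21_20 (u t : F) (w : GL chevD4.Idx F) : X 21 u * (X 20 t * w) = X 20 t * (X 21 u * w) :=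
  cm_of 20 21 (by decide +kernel) u t w

theorem p22_20 (u t : F) (w : GL chevD4.Idx F) : X 22 u * (X 20 t * w) = X 20 t * (X 22 u * w) :=
  cm_of 20 22 (by decide +kernel) u t w

theorem p23_20 (u t : F) (w : GL chevD4.Idx F) : X 23 u * (X 20 t * w) = X 20 t * (X 23 u * w) :=
  cm_of 20 23 (by decide +kernel) u t w

theorem p22_21 (u t : F) (w : GL chevD4.Idx F) : X 22 u * (X 21 t * w) = X 21 t * (X 22 u * w) :=
  cm_of 21 22 (by decide +kernel) u t w

theorem p23_21 (u t : F) (w : GL chevD4.Idx F) : X 23 u * (X 21 t * w) = X 21 t * (X 23 u * w) :=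
  cm_of 21 23 (by decide +kernel) u t w

theorem p23_22 (u t : F) (w : GL chevD4.Idx F) : X 23 u * (X 22 t * w) = X 22 t * (X 23 u * w) :=
  cm_of 22 23 (by decide +kernel) u t w

theorem p13_12 (u t : F) (w : GL chevD4.Idx F) : X 13 u * (X 12 t * w) = X 12 t * (X 13 u * w) :=
  cm_of 12 13 (by decide +kernel) u t w

theorem p14_12 (u t : F) (w : GL chevD4.Idx F) :
    X 14 u * (X 12 t * w) = X 12 t * (X 14 u * (X 15 (-(t * u)) * w)) :=
  sw_of 12 14 15 (1) (by decide +kernel) u t w _ (by simp)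

theorem p18_12 (u t : F) (w : GL chevD4.Idx F) : X 18 u * (X 12 t * w) = X 12 t * (X 18 u * w) :=
  cm_of 12 18 (by decide +kernel) u t w

theorem p14_13 (u t : F) (w : GL chevD4.Idx F) :
    X 14 u * (X 13 t * w) = X 13 t * (X 14 u * (X 16 (-(t * u)) * w)) :=
  sw_of 13 14 16 (1) (by decide +kernel) u t w _ (by simp)

theorem p18_13 (u t : F) (w : GL chevD4.Idx F) : X 18 u * (X 13 t * w) = X 13 t * (X 18 u * w) :=
  cm_of 13 18 (by decide +kernel) u t w

theorem p16_15 (u t : F) (w : GL chevD4.Idx F) : X 16 u * (X 15 t * w) = X 15 t * (X 16 u * w) :=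
  cm_of 15 16 (by decide +kernel) u t w

theorem p18_15 (u t : F) (w : GL chevD4.Idx F) :
    X 18 u * (X 15 t * w) = X 15 t * (X 18 u * (X 20 (-(t * u)) * w)) :=
  sw_of 15 18 20 (1) (by decide +kernel) u t w _ (by simp)

theorem p19_15 (u t : F) (w : GL chevD4.Idx F) : X 19 u * (X 15 t * w) = X 15 t * (X 19 u * w) :=
  cm_of 15 19 (by decide +kernel) u t w

theorem p18_16 (u t : F) (w : GL chevD4.Idx F) :
    X 18 u * (X 16 t * w) = X 16 t * (X 18 u * (X 21 (-(t * u)) * w)) :=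
  sw_of 16 18 21 (1) (by decide +kernel) u t w _ (by simp)

theorem p19_16 (u t : F) (w : GL chevD4.Idx F) : X 19 u * (X 16 t * w) = X 16 t * (X 19 u * w) :=
  cm_of 16 19 (by decide +kernel) u t w

theorem p18_17 (u t : F) (w : GL chevD4.Idx F) :
    X 18 u * (X 17 t * w) = X 17 t * (X 18 u * (X 22 (-(t * u)) * w)) :=
  sw_of 17 18 22 (1) (by decide +kernel) u t w _ (by simp)

theorem p19_17 (u t : F) (w : GL chevD4.Idx F) :
    X 19 u * (X 17 t * w) = X 17 t * (X 19 u * (X 23 (-(t * u)) * w)) :=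
  sw_of 17 19 23 (1) (by decide +kernel) u t w _ (by simp)

theorem E_mul_X14 (a b b1 b2 c c1 c2 d d1 d2 e f t : F) :
    E a b b1 b2 c c1 c2 d d1 d2 e f * X 14 t = E (a + t) b b1 b2 (c - b * t) (c1 + b1 * t) (c2 + b2 * t) (d - b1 * b2 * t) (d1 + b * b2 * t) (d2 + b * b1 * t) (e - b * b1 * b2 * t) (f - e * t + b * b1 * c2 * t + b * b2 * c1 * t - b1 * b2 * c * t + 2 * b * b1 * b2 * t * t) := by
  rw [← mul_one (X 14 t)]
  simp only [E, mul_assoc, one_mul, X_mul_assoc, p18_14, p13_14, p13_18, p12_14, p12_18, p12_13, p19_14, p19_18, p19_13, p19_12, p16_14, p16_18, p16_13, p16_12, p16_19, p15_14, p15_18, p15_13, p15_12, p15_19, p15_16, p17_14, p17_18, p17_13, p17_12, p17_19, p17_16, p17_15, p20_14, p20_18, p20_13, p20_12, p20_19, p20_16, p20_15, p20_17, p21_14, p21_18, p21_13, p21_12, p21_19, p21_16, p21_15, p21_17, p21_20, p22_14, p22_18, p22_13, p22_12, p22_19, p22_16, p22_15, p22_17, p22_20, p22_21, p23_14, p23_18, p23_13, p23_12, p23_19,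 p23_16, p23_15, p23_17, p23_20, p23_21, p23_22]
  repeat' refine mul_congr ?_ ?_
  all_goals first
    | rfl
    | (refine congrArg _ ?_; ring1)

theorem E_mul_X18 (a b b1 b2 c c1 c2 d d1 d2 e f t : F) :
    E a b b1 b2 c c1 c2 d d1 d2 e f * X 18 t = E a (b + t) b1 b2 c c1 c2 d (d1 + c2 * t) (d2 + c1 * t) (e + d * t) (f + c1 * c2 * t) := by
  rw [← mul_one (X 18 t)]
  simp only [E, mul_assoc, one_mul, X_mul_assoc, p13_18, p12_18, p12_13, p19_18, p19_13, p19_12, p16_18, p16_13, p16_12, p16_19, p15_18, p15_13, p15_12, p15_19, p15_16, p17_18, p17_13, p17_12, p17_19, p17_16, p17_15, p20_18, p20_13, p20_12, p20_19, p20_16, p20_15, p20_17, p21_18, p21_13, p21_12, p21_19, p21_16, p21_15, p21_17, p21_20, p22_18, p22_13, p22_12, p22_19, p22_16, p22_15, p22_17, p22_20, p22_21, p23_18, p23_13, p23_12, p23_19, p23_16, p23_15, p23_17, p23_20, p23_21, p23_22]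
  repeat' refine mul_congr ?_ ?_
  all_goals first
    | rfl
    | (refine congrArg _ ?_; ring1)

theorem E_mul_X13 (a b b1 b2 c c1 c2 d d1 d2 e f t : F) :
    E a b b1 b2 c c1 c2 d d1 d2 e f * X 13 t = E a b (b1 + t) b2 c c1 c2 (d - c2 * t) d1 (d2 - c * t) (e - d1 * t) (f - c * c2 * t) := by
  rw [← mul_one (X 13 t)]
  simp only [E, mul_assoc, one_mul, X_mul_assoc, p12_13, p19_13, p19_12, p16_13, p16_12, p16_19, p15_13, p15_12, p15_19, p15_16, p17_13, p17_12, p17_19, p17_16, p17_15, p20_13, p20_12, p20_19, p20_16, p20_15, p20_17, p21_13, p21_12, p21_19, p21_16, p21_15, p21_17, p21_20, p22_13, p22_12, p22_19, p22_16, p22_15, p22_17, p22_20, p22_21, p23_13, p23_12, p23_19, p23_16, p23_15, p23_17, p23_20, p23_21, p23_22]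
  repeat' refine mul_congr ?_ ?_
  all_goals first
    | rfl
    | (refine congrArg _ ?_; ring1)

theorem E_mul_X12 (a b b1 b2 c c1 c2 d d1 d2 e f t : F) :
    E a b b1 b2 c c1 c2 d d1 d2 e f * X 12 t = E a b b1 (b2 + t) c c1 c2 (d - c1 * t) (d1 - c * t) d2 (e - d2 * t) (f - c * c1 * t) := by
  rw [← mul_one (X 12 t)]
  simp only [E, mul_assoc, one_mul, X_mul_assoc, p19_12, p16_12, p16_19, p15_12, p15_19, p15_16, p17_12, p17_19, p17_16, p17_15, p20_12, p20_19, p20_16, p20_15, p20_17, p21_12, p21_19, p21_16, p21_15, p21_17, p21_20, p22_12, p22_19, p22_16, p22_15, p22_17, p22_20, p22_21, p23_12, p23_19, p23_16, p23_15, p23_17, p23_20, p23_21, p23_22]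
  repeat' refine mul_congr ?_ ?_
  all_goals first
    | rfl
    | (refine congrArg _ ?_; ring1)

theorem E_mul_X19 (a b b1 b2 c c1 c2 d d1 d2 e f t : F) :
    E a b b1 b2 c c1 c2 d d1 d2 e f * X 19 t = E a b b1 b2 (c + t) c1 c2 d d1 d2 e (f + d * t) := by
  rw [← mul_one (X 19 t)]
  simp only [E, mul_assoc, one_mul, X_mul_assoc, p16_19, p15_19, p15_16, p17_19, p17_16, p17_15, p20_19, p20_16, p20_15, p20_17, p21_19, p21_16, p21_15, p21_17, p21_20, p22_19, p22_16, p22_15, p22_17, p22_20, p22_21, p23_19, p23_16, p23_15, p23_17, p23_20, p23_21, p23_22]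
  repeat' refine mul_congr ?_ ?_
  all_goals first
    | rfl
    | (refine congrArg _ ?_; ring1)

theorem E_mul_X16 (a b b1 b2 c c1 c2 d d1 d2 e f t : F) :
    E a b b1 b2 c c1 c2 d d1 d2 e f * X 16 t = E a b b1 b2 c (c1 + t) c2 d d1 d2 e (f + d1 * t) := by
  rw [← mul_one (X 16 t)]
  simp only [E, mul_assoc, one_mul, X_mul_assoc, p15_16, p17_16, p17_15, p20_16, p20_15, p20_17, p21_16, p21_15, p21_17, p21_20, p22_16, p22_15, p22_17, p22_20, p22_21, p23_16, p23_15, p23_17, p23_20, p23_21, p23_22]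
  repeat' refine mul_congr ?_ ?_
  all_goals first
    | rfl
    | (refine congrArg _ ?_; ring1)

theorem E_mul_X15 (a b b1 b2 c c1 c2 d d1 d2 e f t : F) :
    E a b b1 b2 c c1 c2 d d1 d2 e f * X 15 t = E a b b1 b2 c c1 (c2 + t) d d1 d2 e (f + d2 * t) := by
  rw [← mul_one (X 15 t)]
  simp only [E, mul_assoc, one_mul, X_mul_assoc, p17_15, p20_15, p20_17, p21_15, p21_17, p21_20, p22_15, p22_17, p22_20, p22_21, p23_15, p23_17, p23_20, p23_21, p23_22]
  repeat' refine mul_congr ?_ ?_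
  all_goals first
    | rfl
    | (refine congrArg _ ?_; ring1)

theorem E_mul_X17 (a b b1 b2 c c1 c2 d d1 d2 e f t : F) :
    E a b b1 b2 c c1 c2 d d1 d2 e f * X 17 t = E a b b1 b2 c c1 c2 (d + t) d1 d2 e f := by
  rw [← mul_one (X 17 t)]
  simp only [E, mul_assoc, one_mul, X_mul_assoc, p20_17, p21_17, p21_20, p22_17, p22_20, p22_21, p23_17, p23_20, p23_21, p23_22]
  repeat' refine mul_congr ?_ ?_
  all_goals first
    | rfl
    | (refine congrArg _ ?_; ring1)

theorem E_mul_X20 (a b b1 b2 c c1 c2 d d1 d2 e f t : F) :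
    E a b b1 b2 c c1 c2 d d1 d2 e f * X 20 t = E a b b1 b2 c c1 c2 d (d1 + t) d2 e f := by
  rw [← mul_one (X 20 t)]
  simp only [E, mul_assoc, one_mul, X_mul_assoc, p21_20, p22_20, p22_21, p23_20, p23_21, p23_22]
  repeat' refine mul_congr ?_ ?_
  all_goals first
    | rfl
    | (refine congrArg _ ?_; ring1)

theorem E_mul_X21 (a b b1 b2 c c1 c2 d d1 d2 e f t : F) :
    E a b b1 b2 c c1 c2 d d1 d2 e f * X 21 t = E a b b1 b2 c c1 c2 d d1 (d2 + t) e f := by
  rw [← mul_one (X 21 t)]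
  simp only [E, mul_assoc, one_mul, X_mul_assoc, p22_21, p23_21, p23_22]
  repeat' refine mul_congr ?_ ?_
  all_goals first
    | rfl
    | (refine congrArg _ ?_; ring1)

theorem E_mul_X22 (a b b1 b2 c c1 c2 d d1 d2 e f t : F) :
    E a b b1 b2 c c1 c2 d d1 d2 e f * X 22 t = E a b b1 b2 c c1 c2 d d1 d2 (e + t) f := by
  rw [← mul_one (X 22 t)]
  simp only [E, mul_assoc, one_mul, X_mul_assoc, p23_22]
  repeat' refine mul_congr ?_ ?_
  all_goals first
    | rfl
    | (refine congrArg _ ?_; ring1)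

theorem E_mul_X23 (a b b1 b2 c c1 c2 d d1 d2 e f t : F) :
    E a b b1 b2 c c1 c2 d d1 d2 e f * X 23 t = E a b b1 b2 c c1 c2 d d1 d2 e (f + t) := by
  rw [← mul_one (X 23 t)]
  simp only [E, mul_assoc, one_mul, X_mul_assoc, one_mul]
  repeat' refine mul_congr ?_ ?_
  all_goals first
    | rfl
    | (refine congrArg _ ?_; ring1)

theorem E_mul_E (a b b1 b2 c c1 c2 d d1 d2 e f A' B' B1' B2' C' C1' C2' D' D1' D2' E' F' : F) :
    E a b b1 b2 c c1 c2 d d1 d2 e f * E A' B' B1' B2' C' C1' C2' D' D1' D2' E' F' =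
      E (A' + a)
        (B' + b)
        (B1' + b1)
        (B2' + b2)
        (C' + c - A' * b)
        (C1' + c1 + A' * b1)
        (C2' + c2 + A' * b2)
        (D' + d - B1' * c2 - B2' * c1 - A' * B1' * b2 - A' * B2' * b1 - A' * b1 * b2)
        (D1' + d1 + B' * c2 - B2' * c + A' * B' * b2 + A' * B2' * b + A' * b * b2)
        (D2' + d2 + B' * c1 - B1' * c + A' * B' * b1 + A' * B1' * b + A' * b * b1)
        (E' + e + B' * d - B1' * d1 - B2' * d2 - B' * B1' * c2 - B' * B2' * c1 + B1' * B2' * c - A' * B' * B1' * b2 - A' * B' * B2' * b1 - A' * B' * b1 * b2 - A' * B1' * B2' * b - A' * B1' * b * b2 - A' * B2' * b * b1 - A' * b * b1 * b2)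
        (F' + f - A' * e + C' * d + C1' * d1 + C2' * d2 + B' * C1' * c2 + B' * C2' * c1 + B' * c1 * c2 - B1' * C' * c2 - B1' * C2' * c - B1' * c * c2 - B2' * C' * c1 - B2' * C1' * c - B2' * c * c1 + A' * B' * C1' * b2 + A' * B' * C2' * b1 + A' * B' * b1 * c2 + A' * B' * b2 * c1 - A' * B1' * C' * b2 + A' * B1' * C2' * b + A' * B1' * b * c2 - A' * B1' * b2 * c - A' * B2' * C' * b1 + A' * B2' * C1' * b + A' * B2' * b * c1 - A' * B2' * b1 * c - A' * C' * b1 * b2 + A' * C1' * b * b2 + A' * C2' * b * b1 + A' * b * b1 * c2 + A' * b * b2 * c1 - A' * b1 * b2 * c + A' * A' * B' * b1 * b2 + A' * A' * B1' * b * b2 + A' * A' * B2' * b * b1 + 2 * A' * A' * b * b1 * b2) := by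
  conv_lhs => arg 2; unfold E
  simp only [← mul_assoc, mul_one]
  rw [E_mul_X14, E_mul_X18, E_mul_X13, E_mul_X12, E_mul_X19, E_mul_X16, E_mul_X15, E_mul_X17, E_mul_X20, E_mul_X21, E_mul_X22, E_mul_X23]
  refine E_congr ?_ ?_ ?_ ?_ ?_ ?_ ?_ ?_ ?_ ?_ ?_ ?_
  all_goals ring1

theorem E_sorted (a b b1 b2 c c1 c2 d d1 d2 e f : F) : E a b b1 b2 c c1 c2 d d1 d2 e f =
    X 12 (b2) * (X 13 (b1) * (X 14 (a) * (X 15 (c2 - a * b2) * (X 16 (c1 - a * b1) * (X 17 (d + a * b1 * b2) * (X 18 (b) * (X 19 (c) * (X 20 (d1 - b * c2) * (X 21 (d2 - b * c1) * (X 22 (e - b * d) * (X 23 (f - c * d - b * c1 * c2) * (1)))))))))))) := by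
  simp only [E, X_mul_assoc, p13_12, p14_12, p14_13, p15_12, p15_13, p15_14, p16_12, p16_13, p16_14, p16_15, p17_12, p17_13, p17_14, p17_15, p17_16, p18_12, p18_13, p18_14, p18_15, p18_16, p18_17, p19_12, p19_13, p19_14, p19_15, p19_16, p19_17, p19_18, p20_12, p20_13, p20_14, p20_15, p20_16, p20_17, p20_18, p20_19, p21_12, p21_13, p21_14, p21_15, p21_16, p21_17, p21_18, p21_19, p21_20, p22_12, p22_13, p22_14, p22_15, p22_16, p22_17, p22_18, p22_19, p22_20, p22_21, p23_12, p23_13, p23_14, p23_15, p23_16, p23_17, p23_18, p23_19, p23_20, p23_21, p23_22]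
  repeat' refine mul_congr ?_ ?_
  all_goals first
    | rfl
    | (refine congrArg _ ?_; ring1)
theorem E_zero : E (0 : F) 0 0 0 0 0 0 0 0 0 0 0 = 1 := by simp [E, X_zero]

theorem pos_roots : ∀ r : Fin chevD4.nroots,
    (r : ℕ) ∈ [12, 13, 14, 15, 16, 17, 18, 19, 20, 21, 22, 23] ↔ chevD4.IsPosRoot r := by
  decide +kernel

theorem E_inj {a b b1 b2 c c1 c2 d d1 d2 e f A B B1 B2 C C1 C2 D D1 D2 E' G : F}
    (h : E a b b1 b2 c c1 c2 d d1 d2 e f = E A B B1 B2 C C1 C2 D D1 D2 E' G) :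
    a = A ∧ b = B ∧ b1 = B1 ∧ b2 = B2 ∧ c = C ∧ c1 = C1 ∧ c2 = C2 ∧ d = D ∧ d1 = D1 ∧ d2 = D2 ∧
      e = E' ∧ f = G := by
  have hpos : ∀ r ∈ [12, 13, 14, 15, 16, 17, 18, 19, 20, 21, 22, 23], chevD4.IsPosRoot r := by
    decide +kernel
  rw [E_sorted, E_sorted] at h
  have h' := (coreD4 F).word_injective (L := [12, 13, 14, 15, 16, 17, 18, 19, 20, 21, 22, 23])
    (by decide) hpos
    (fun r => [b2, b1, a, c2 - a * b2, c1 - a * b1, d + a * b1 * b2, b, c, d1 - b * c2, d2 - b * c1,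
      e - b * d, f - c * d - b * c1 * c2].getD (r - 12) 0)
    (fun r => [B2, B1, A, C2 - A * B2, C1 - A * B1, D + A * B1 * B2, B, C, D1 - B * C2, D2 - B * C1,
      E' - B * D, G - C * D - B * C1 * C2].getD (r - 12) 0)
    (by simpa [X, (coreD4 F).word_cons, (coreD4 F).word_nil] using h)
  obtain rfl : b2 = B2 := by simpa using h' 12 (by simp)
  obtain rfl : b1 = B1 := by simpa using h' 13 (by simp)
  obtain rfl : a = A := by simpa using h' 14 (by simp)
  obtain rfl : b = B := by simpa using h' 18 (by simp)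
  obtain rfl : c = C := by simpa using h' 19 (by simp)
  obtain rfl : c2 = C2 := by simpa using h' 15 (by simp)
  obtain rfl : c1 = C1 := by simpa using h' 16 (by simp)
  obtain rfl : d = D := by simpa using h' 17 (by simp)
  obtain rfl : d1 = D1 := by simpa using h' 20 (by simp)
  obtain rfl : d2 = D2 := by simpa using h' 21 (by simp)
  obtain rfl : e = E' := by simpa using h' 22 (by simp)
  obtain rfl : f = G := by simpa using h' 23 (by simp)
  exact ⟨rfl, rfl, rfl, rfl, rfl, rfl, rfl, rfl, rfl, rfl, rfl, rfl⟩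

theorem exists_E {u : GL chevD4.Idx F} (hu : u ∈ chevD4.posUnipotent F) :
    ∃ a b b1 b2 c c1 c2 d d1 d2 e f, u = E a b b1 b2 c c1 c2 d d1 d2 e f := by
  have heq : {r | r ∈ [12, 13, 14, 15, 16, 17, 18, 19, 20, 21, 22, 23]} =
      {r | chevD4.IsPosRoot r} := by
    refine Set.ext fun r => ⟨fun hr => ?_, fun hr => (pos_roots ⟨r, hr.1⟩).2 hr⟩
    have h : ∀ r ∈ [12, 13, 14, 15, 16, 17, 18, 19, 20, 21, 22, 23], r < chevD4.nroots := by
      decide +kernel
    exact (pos_roots ⟨r, h r hr⟩).1 hr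
  obtain ⟨v, rfl⟩ := (coreD4 F).exists_word (L := [12, 13, 14, 15, 16, 17, 18, 19, 20, 21, 22, 23])
    (by decide) (heq ▸ (coreD4 F).R.isClosed_pos) u
    (by rw [heq, ← (coreD4 F).posUnipotent_eq]; exact hu)
  refine ⟨v 14, v 18, v 13, v 12, v 19, v 16 + v 14 * v 13, v 15 + v 14 * v 12,
    v 17 - v 14 * v 13 * v 12, v 20 + v 18 * (v 15 + v 14 * v 12),
    v 21 + v 18 * (v 16 + v 14 * v 13), v 22 + v 18 * (v 17 - v 14 * v 13 * v 12),
    v 23 + v 19 * (v 17 - v 14 * v 13 * v 12) + v 18 * (v 16 + v 14 * v 13) * (v 15 + v 14 * v 12), ?_⟩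
  rw [E_sorted]
  simp only [X, (coreD4 F).word_cons, (coreD4 F).word_nil]
  repeat' refine mul_congr ?_ ?_
  all_goals first
    | rfl
    | (refine congrArg _ ?_; ring1)

theorem E_mem_pos (a b b1 b2 c c1 c2 d d1 d2 e f : F) :
    E a b b1 b2 c c1 c2 d d1 d2 e f ∈ chevD4.posUnipotent F := by
  have hp : ∀ r ∈ [12, 13, 14, 15, 16, 17, 18, 19, 20, 21, 22, 23], chevD4.IsPosRoot r := by
    decide +kernel
  simp only [E, X]
  repeat' first
    | exact one_mem _
    | exact (coreD4 F).xGL_mem_posUnipotent (hp _ (by simp)) _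
    | apply mul_mem

/-- An element of `U` commuting with a root element of the second node has no coordinate at `18`. -/
theorem coord_of_commute {a b b1 b2 c c1 c2 d d1 d2 e f s : F} (hs : s ≠ 0)
    (h : E a b b1 b2 c c1 c2 d d1 d2 e f * X 14 s = X 14 s * E a b b1 b2 c c1 c2 d d1 d2 e f) :
    b = 0 := by
  have h2 : X 14 s * E a b b1 b2 c c1 c2 d d1 d2 e f = E (s + a) b b1 b2 c c1 c2 d d1 d2 e f := by
    simp only [E, X_mul_assoc]
  rw [E_mul_X14, h2] at h
  obtain ⟨-, -, -, -, hc, -⟩ := E_inj h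
  have : b * s = 0 := by linear_combination -hc
  exact (mul_eq_zero.1 this).resolve_right hs

end CfsgLib.Twisted.D4Gen
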