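import Cfsg.Agent.Lib.TwistedStr.F4TwistedElements

/-!
Every involution of the unipotent group of `²F₄` is conjugate to a root element of pair type, either
in the central one or in one of the other type.
-/

set_option autoImplicit false
set_option linter.unusedSectionVars false
set_option linter.unusedSimpArgs false

namespace CfsgLib.Twisted.F4Uni

open Cfsg.Lie CfsgLib.ChevStr
open scoped MatrixGroups

variable {K : Type*} [Field K] [Fintype K] [CharP K 2] {m : ℕ}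

local notation "θ" => th K m
local notation "G" => twistedF4 K (2 ^ m)

/-- Conjugate by an element of the group. -/
def Rel (H : Subgroup (GL chevF4.Idx K)) (g h : GL chevF4.Idx K) : Prop := ∃ k ∈ H, k * g * k⁻¹ = h

variable {H : Subgroup (GL chevF4.Idx K)}

theorem Rel.refl (g : GL chevF4.Idx K) : Rel H g g := ⟨1, one_mem _, by group⟩

theorem Rel.trans {g h l : GL chevF4.Idx K} (r : Rel H g h) (r' : Rel H h l) : Rel H g l := by
  obtain ⟨k, hk, rfl⟩ := r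
  obtain ⟨k', hk', rfl⟩ := r'
  exact ⟨k' * k, mul_mem hk' hk, by group⟩

theorem Rel.sq_one {g h : GL chevF4.Idx K} (r : Rel H g h) (hg : g * g = 1) : h * h = 1 := by
  obtain ⟨k, -, rfl⟩ := r
  rw [show k * g * k⁻¹ * (k * g * k⁻¹) = k * (g * g) * k⁻¹ by group, hg]
  group

theorem Rel.ne_one {g h : GL chevF4.Idx K} (r : Rel H g h) (hg : g ≠ 1) : h ≠ 1 := by
  obtain ⟨k, -, rfl⟩ := r
  exact fun e => hg (conj_eq_one_iff.1 e)

theorem rel_of_inv {g g' u v : GL chevF4.Idx K} (hg : g ∈ H) (hi : g * g' = 1) (h : g * u * g' = v) :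
    Rel H u v := ⟨g, hg, by rw [← eq_inv_of_mul_eq_one_right hi]; exact h⟩

/-- The element is conjugate to a root element of one of the two kinds. -/
def Std (m : ℕ) (u : GL chevF4.Idx K) : Prop :=
  (∃ t : K, t ≠ 0 ∧ Rel (twistedF4 K (2 ^ m)) u (T2 (th K m) t)) ∨
    ∃ t : K, t ≠ 0 ∧ Rel (twistedF4 K (2 ^ m)) u (Z5 (th K m) t)

theorem Std.of_rel {u v : GL chevF4.Idx K} (r : Rel (twistedF4 K (2 ^ m)) u v) (h : Std m v) :
    Std m u := by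
  rcases h with ⟨t, ht, h⟩ | ⟨t, ht, h⟩
  exacts [Or.inl ⟨t, ht, r.trans h⟩, Or.inr ⟨t, ht, r.trans h⟩]

theorem exists_mul_self (c : K) : ∃ d : K, d * d = c :=
  let ⟨d, hd⟩ := FiniteField.isSquare_of_char_two (F := K) (ringChar.eq K 2) c
  ⟨d, hd.symm⟩

variable (hn : Fintype.card K = 2 * (2 ^ m * 2 ^ m))
include hn

theorem ph_surj (c : K) : ∃ s : K, ph θ s = c := by
  have := halfFrob hn
  obtain ⟨d, hd⟩ := exists_mul_self c
  exact ⟨ph θ d, by rw [ph_ph, hd]⟩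

theorem ph_eq_zero {x : K} : ph θ x = 0 ↔ x = 0 := by
  rw [ph, sq_eq_zero_iff, map_eq_zero_iff _ (th K m).injective]

theorem mem_T8 (s : K) : T8 θ s ∈ G ∧ T8 θ s * (T8 θ s * 1) = 1 := by
  have := halfFrob hn
  refine ⟨?_, by rw [mT8, CharTwo.add_self_eq_zero, T8_zero, one_mul]⟩
  simpa [E, A1_zero, Z1_zero, T2_zero, A3_zero, Z3_zero, T4_zero, A5_zero, Z5_zero, T6_zero, A7_zero,
    Z7_zero] using (Subgroup.mem_inf.1 (E_mem hn (m := m) 0 0 0 0 0 0 0 0 0 0 0 s)).2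

theorem mem_Z7 (s : K) : Z7 θ s ∈ G ∧ Z7 θ s * (Z7 θ s * 1) = 1 := by
  have := halfFrob hn
  refine ⟨?_, by rw [mZ7, CharTwo.add_self_eq_zero, Z7_zero, one_mul]⟩
  simpa [E, A1_zero, Z1_zero, T2_zero, A3_zero, Z3_zero, T4_zero, A5_zero, Z5_zero, T6_zero, A7_zero,
    T8_zero] using (Subgroup.mem_inf.1 (E_mem hn (m := m) 0 0 0 0 0 0 0 0 0 0 s 0)).2

theorem mem_T6 (s : K) : T6 θ s ∈ G ∧ T6 θ s * (T6 θ s * 1) = 1 := by
  have := halfFrob hn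
  refine ⟨?_, by rw [mT6, CharTwo.add_self_eq_zero, T6_zero, one_mul]⟩
  simpa [E, A1_zero, Z1_zero, T2_zero, A3_zero, Z3_zero, T4_zero, A5_zero, Z5_zero, A7_zero,
    Z7_zero, T8_zero] using (Subgroup.mem_inf.1 (E_mem hn (m := m) 0 0 0 0 0 0 0 0 s 0 0 0)).2

theorem mem_Z1 (s : K) : Z1 θ s ∈ G ∧ Z1 θ s * (Z1 θ s * 1) = 1 := by
  have := halfFrob hn
  refine ⟨?_, by rw [mZ1, CharTwo.add_self_eq_zero, Z1_zero, one_mul]⟩
  simpa [E, A1_zero, T2_zero, A3_zero, Z3_zero, T4_zero, A5_zero, Z5_zero, T6_zero, A7_zero,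
    Z7_zero, T8_zero] using (Subgroup.mem_inf.1 (E_mem hn (m := m) 0 s 0 0 0 0 0 0 0 0 0 0)).2

theorem mem_A1 (s : K) : A1 θ s ∈ G ∧ A1 θ s * (A1 θ s * (Z1 θ (ph θ s * s) * 1)) = 1 := by
  have := halfFrob hn
  refine ⟨?_, by rw [mA1, mZ1, CharTwo.add_self_eq_zero, CharTwo.add_self_eq_zero, A1_zero, Z1_zero,
    one_mul, one_mul]⟩
  simpa [E, Z1_zero, T2_zero, A3_zero, Z3_zero, T4_zero, A5_zero, Z5_zero, T6_zero, A7_zero,
    Z7_zero, T8_zero] using (Subgroup.mem_inf.1 (E_mem hn (m := m) s 0 0 0 0 0 0 0 0 0 0 0)).2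

theorem mem_A5 (s : K) : A5 θ s ∈ G ∧ A5 θ s * (A5 θ s * (Z5 θ (ph θ s * s) * 1)) = 1 := by
  have := halfFrob hn
  refine ⟨?_, by rw [mA5, mZ5, CharTwo.add_self_eq_zero, CharTwo.add_self_eq_zero, A5_zero, Z5_zero,
    one_mul, one_mul]⟩
  simpa [E, A1_zero, Z1_zero, T2_zero, A3_zero, Z3_zero, T4_zero, Z5_zero, T6_zero, A7_zero,
    Z7_zero, T8_zero] using (Subgroup.mem_inf.1 (E_mem hn (m := m) 0 0 0 0 0 0 s 0 0 0 0 0)).2

theorem mem_A7 (s : K) : A7 θ s ∈ G ∧ A7 θ s * (A7 θ s * (Z7 θ (ph θ s * s) * 1)) = 1 := by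
  have := halfFrob hn
  refine ⟨?_, by rw [mA7, mZ7, CharTwo.add_self_eq_zero, CharTwo.add_self_eq_zero, A7_zero, Z7_zero,
    one_mul, one_mul]⟩
  simpa [E, A1_zero, Z1_zero, T2_zero, A3_zero, Z3_zero, T4_zero, A5_zero, Z5_zero, T6_zero,
    Z7_zero, T8_zero] using (Subgroup.mem_inf.1 (E_mem hn (m := m) 0 0 0 0 0 0 0 0 0 s 0 0)).2

theorem exists_turn {i : Fin 2} {r s r' s' : ℕ} (h : (i, (r, s), r', s') ∈ turnList) (t : K) :
    ∃ u, (t ≠ 0 → u ≠ 0) ∧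
      MulAut.conj ((gensF4 K hn).s i) (X r t * X s (θ t)) = X r' u * X s' (θ u) :=
  turn_P hn h t

theorem rel_turn8 (b2 c3 b4 c5 b6 c7 : K) (hbc : c7 * b2 = 0) :
    ∃ b2' c3' b4' c5' b6' c7' : K, (b6 ≠ 0 → b2' ≠ 0) ∧ (c5 ≠ 0 → c3' ≠ 0) ∧ (c7 ≠ 0 → c7' ≠ 0) ∧
      (c7 = 0 → c7' = 0) ∧
      Rel G (E θ 0 0 b2 0 c3 b4 0 c5 b6 0 c7 0) (E θ 0 c7' b2' 0 c3' b4' 0 c5' b6' 0 0 0) := by
  have := halfFrob hn
  obtain ⟨u2, -, e2⟩ := exists_turn hn (i := 0) (r := 32) (s := 37) (r' := 43) (s' := 38) (by simp [turnList]) b2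
  obtain ⟨u3, -, e3⟩ := exists_turn hn (i := 0) (r := 46) (s := 40) (r' := 47) (s' := 44) (by simp [turnList]) c3
  obtain ⟨u4, -, e4⟩ := exists_turn hn (i := 0) (r := 45) (s := 39) (r' := 45) (s' := 39) (by simp [turnList]) b4
  obtain ⟨u5, h5, e5⟩ := exists_turn hn (i := 0) (r := 47) (s := 44) (r' := 46) (s' := 40) (by simp [turnList]) c5
  obtain ⟨u6, h6, e6⟩ := exists_turn hn (i := 0) (r := 43) (s := 38) (r' := 32) (s' := 37) (by simp [turnList]) b6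
  by_cases h : c7 = 0
  · subst h
    refine ⟨u6, u5, u4, u3, u2, 0, h6, h5, fun h => h, fun _ => rfl, _, (gensF4 K hn).s_mem 0, ?_⟩
    rw [← MulAut.conj_apply]
    have := turn8_E θ u2 u3 u4 u5 u6 (0 : K)
    simp only [mul_zero, zero_add] at this
    rw [← this]
    simp only [E, A1_zero, A3_zero, A5_zero, A7_zero, Z1_zero, Z7_zero, T8_zero, one_mul, mul_one,
      map_mul, map_one]
    simp only [T2, Z3, T4, Z5, T6, e2, e3, e4, e5, e6]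
  · obtain ⟨u7, h7, e7⟩ := exists_turn hn (i := 0) (r := 42) (s := 36) (r' := 30) (s' := 28) (by simp [turnList]) c7
    obtain rfl : b2 = 0 := (mul_eq_zero.1 hbc).resolve_left h
    refine ⟨u6, u5, u4, u3, 0, u7, h6, h5, h7, fun h' => absurd h' h, _, (gensF4 K hn).s_mem 0, ?_⟩
    rw [← MulAut.conj_apply]
    have := turn8_E θ (0 : K) u3 u4 u5 u6 u7
    simp only [zero_mul, zero_add] at this
    rw [← this]
    simp only [E, A1_zero, A3_zero, A5_zero, A7_zero, Z1_zero, T2_zero, T6_zero, T8_zero, one_mul,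
      mul_one, map_mul, map_one]
    simp only [Z1, T2, Z3, T4, Z5, T6, Z7, e3, e4, e5, e6, e7]

theorem rel_turn1 (b2 c3 b4 c5 b6 c7 b8 : K) (h28 : b2 = 0 ∨ b8 = 0) :
    ∃ b2' c3' b4' c5' b6' c7' b8' : K, (b2 = 0 → b8' = 0) ∧ (c3 ≠ 0 → c7' ≠ 0) ∧
      (b4 ≠ 0 → b8 = 0 → b6' ≠ 0) ∧
      Rel G (E θ 0 0 b2 0 c3 b4 0 c5 b6 0 c7 b8) (E θ 0 0 b2' 0 c3' b4' 0 c5' b6' 0 c7' b8') := by
  have := halfFrob hn
  obtain ⟨u2, -, e2⟩ := exists_turn hn (i := 1) (r := 32) (s := 37) (r' := 24) (s' := 33) (by simp [turnList]) b2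
  obtain ⟨u3, h3, e3⟩ := exists_turn hn (i := 1) (r := 46) (s := 40) (r' := 42) (s' := 36) (by simp [turnList]) c3
  obtain ⟨u4, h4, e4⟩ := exists_turn hn (i := 1) (r := 45) (s := 39) (r' := 43) (s' := 38) (by simp [turnList]) b4
  obtain ⟨u5, -, e5⟩ := exists_turn hn (i := 1) (r := 47) (s := 44) (r' := 47) (s' := 44) (by simp [turnList]) c5
  obtain ⟨u6, -, e6⟩ := exists_turn hn (i := 1) (r := 43) (s := 38) (r' := 45) (s' := 39) (by simp [turnList]) b6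
  obtain ⟨u7, -, e7⟩ := exists_turn hn (i := 1) (r := 42) (s := 36) (r' := 46) (s' := 40) (by simp [turnList]) c7
  obtain ⟨u8, -, e8⟩ := exists_turn hn (i := 1) (r := 24) (s := 33) (r' := 32) (s' := 37) (by simp [turnList]) b8
  rcases h28 with rfl | rfl
  · refine ⟨u8, u7, u6, u8 * u3 + u5, u4, u3, 0, fun _ => rfl, h3, fun h _ => h4 h, _,
      (gensF4 K hn).s_mem 1, ?_⟩
    rw [← MulAut.conj_apply]
    have := turn1_E θ (0 : K) u3 u4 u5 u6 u7 u8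
    simp only [zero_mul, mul_zero, zero_add, ph_zero] at this
    rw [← this]
    simp only [E, A1_zero, A3_zero, A5_zero, A7_zero, Z1_zero, T2_zero, T8_zero, one_mul, mul_one,
      map_mul, map_one]
    simp only [T2, Z3, T4, Z5, T6, Z7, T8, e3, e4, e5, e6, e7, e8]
  · by_cases hb : b2 = 0
    · subst hb
      refine ⟨0, u7, u6, u5, u4, u3, 0, fun _ => rfl, h3, fun h _ => h4 h, _,
        (gensF4 K hn).s_mem 1, ?_⟩
      rw [← MulAut.conj_apply]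
      have := turn1_E θ (0 : K) u3 u4 u5 u6 u7 0
      simp only [zero_mul, mul_zero, zero_add, ph_zero] at this
      rw [← this]
      simp only [E, A1_zero, A3_zero, A5_zero, A7_zero, Z1_zero, T2_zero, T8_zero, one_mul, mul_one,
        map_mul, map_one]
      simp only [Z3, T4, Z5, T6, Z7, e3, e4, e5, e6, e7]
    · refine ⟨0, u7, u6, u2 * u7 + u5, u4, u3, u2, fun h => absurd h hb, h3, fun h _ => h4 h, _,
        (gensF4 K hn).s_mem 1, ?_⟩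
      rw [← MulAut.conj_apply]
      have := turn1_E θ u2 u3 u4 u5 u6 u7 (0 : K)
      simp only [zero_mul, mul_zero, zero_add, add_zero, ph_zero] at this
      rw [← this]
      simp only [E, A1_zero, A3_zero, A5_zero, A7_zero, Z1_zero, T2_zero, T8_zero, one_mul, mul_one,
        map_mul, map_one]
      simp only [T2, Z3, T4, Z5, T6, Z7, T8, e2, e3, e4, e5, e6, e7]


theorem div_spec {w : K} (hw : w ≠ 0) (a : K) : a + a / w * w = 0 := by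
  rw [div_mul_cancel₀ a hw, CharTwo.add_self_eq_zero]

/-- The vanishing of the coordinates of the square. -/
theorem sq_eqs {a1 w1 b2 b3 c3 b4 b5 c5 b6 b7 c7 b8 : K}
    (h : E θ a1 w1 b2 b3 c3 b4 b5 c5 b6 b7 c7 b8 * E θ a1 w1 b2 b3 c3 b4 b5 c5 b6 b7 c7 b8 = 1) :
    a1 = 0 ∧ (w1 ≠ 0 → b8 = 0 ∧ b7 = 0) ∧
      (w1 ≠ 0 → b2 = 0 → b3 = 0 → c7 = 0 ∧ b6 = 0 ∧ b5 = 0) ∧
      (w1 = 0 → b8 = 0 → b7 = 0 ∧ b5 = 0 ∧ b3 = 0 ∧ c7 * b2 = 0) ∧
      (w1 = 0 → b8 ≠ 0 → b7 = 0 → b3 = 0 → b2 = 0 ∧ b5 = 0 ∧ c3 = 0) := by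
  have := halfFrob hn
  rw [E_sq, ← E_zero θ] at h
  obtain ⟨-, q1, q2, q3, q4, q5, q6, q7, q8, -, q10, -⟩ := E_inj θ h
  obtain rfl : a1 = 0 := by
    rcases mul_eq_zero.1 q1 with h | h
    exacts [(ph_eq_zero hn).1 h, h]
  simp only [ph_zero, zero_mul, mul_zero, zero_add, add_zero] at q2 q3 q4 q5 q6 q7 q8 q10
  have key : ∀ x : K, ph θ x * x = 0 → x = 0 := fun x hx => by
    rcases mul_eq_zero.1 hx with h | h
    exacts [(ph_eq_zero hn).1 h, h]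
  refine ⟨rfl, fun hw => ?_, fun hw hb2 hb3 => ?_, fun hw hb8 => ?_, fun hw hb8 hb7 hb3 => ?_⟩
  · obtain rfl : b8 = 0 := (mul_eq_zero.1 q3).resolve_right hw
    simp only [ph_zero, zero_mul, mul_zero, zero_add, add_zero] at q2
    exact ⟨rfl, (mul_eq_zero.1 q2).resolve_right hw⟩
  · subst hb2 hb3
    obtain rfl : b8 = 0 := (mul_eq_zero.1 q3).resolve_right hw
    simp only [ph_zero, zero_mul, mul_zero, zero_add, add_zero] at q2
    obtain rfl : b7 = 0 := (mul_eq_zero.1 q2).resolve_right hw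
    simp only [ph_zero, zero_mul, mul_zero, zero_add, add_zero] at q4 q5 q7
    obtain rfl : c7 = 0 := (mul_eq_zero.1 q5).resolve_right hw
    simp only [ph_zero, zero_mul, mul_zero, zero_add, add_zero] at q4 q7
    exact ⟨rfl, (mul_eq_zero.1 q4).resolve_right hw, key _ q7⟩
  · subst hw hb8
    simp only [ph_zero, zero_mul, mul_zero, zero_add, add_zero] at q4 q5 q7 q10
    obtain rfl : b7 = 0 := key _ q10
    simp only [ph_zero, zero_mul, mul_zero, zero_add, add_zero] at q4 q5 q7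
    have hb5 : b5 = 0 := by
      by_contra h5
      obtain rfl : b3 = 0 := (mul_eq_zero.1 q5).resolve_right h5
      simp only [ph_zero, zero_mul, mul_zero, zero_add, add_zero] at q4 q7
      obtain rfl : b2 = 0 := (mul_eq_zero.1 q4).resolve_right h5
      simp only [ph_zero, zero_mul, mul_zero, zero_add, add_zero] at q7
      exact h5 (key _ q7)
    subst hb5
    simp only [ph_zero, zero_mul, mul_zero, zero_add, add_zero] at q4 q7
    obtain rfl : b3 = 0 := key _ q4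
    simp only [ph_zero, zero_mul, mul_zero, zero_add, add_zero] at q7
    exact ⟨rfl, rfl, rfl, by rw [mul_comm]; exact q7⟩
  · subst hw hb7 hb3
    simp only [ph_zero, zero_mul, mul_zero, zero_add, add_zero] at q5 q7 q10
    obtain rfl : b2 = 0 := (ph_eq_zero hn).1 ((mul_eq_zero.1 q5).resolve_right hb8)
    obtain rfl : b5 = 0 := (mul_eq_zero.1 q10).resolve_right hb8
    simp only [ph_zero, zero_mul, mul_zero, zero_add, add_zero] at q7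
    exact ⟨rfl, rfl, (mul_eq_zero.1 q7).resolve_left hb8⟩

theorem std_T2 {b2 : K} (h2 : b2 ≠ 0) (c3 b4 c5 b6 : K) :
    Std m (E θ 0 0 b2 0 c3 b4 0 c5 b6 0 0 0) := by
  have := halfFrob hn
  obtain ⟨s, hs⟩ := ph_surj hn (b6 / b2)
  refine Std.of_rel (rel_of_inv (mem_T8 hn s).1 (mem_T8 hn s).2 (conj_T8_E θ b2 c3 b4 c5 b6 s)) ?_
  rw [show ph θ s * b2 + b6 = 0 by rw [hs, add_comm]; exact div_spec hn h2 b6]
  generalize ph θ b2 * s + b4 = y4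
  generalize c3 * s + c5 = y5
  obtain ⟨s, hs⟩ := ph_surj hn (y4 / b2)
  refine Std.of_rel (rel_of_inv (mem_A7 hn s).1 (mem_A7 hn s).2 (conj_A7_E θ b2 c3 y4 y5 s)) ?_
  rw [show ph θ s * b2 + y4 = 0 by rw [hs, add_comm]; exact div_spec hn h2 y4]
  generalize ph θ b2 * s + c3 = y3
  generalize y4 * s + y5 = z5
  refine Std.of_rel (rel_of_inv (mem_A5 hn _).1 (mem_A5 hn _).2 (conj_A5_E θ b2 y3 z5 (y3 / b2))) ?_
  rw [show b2 * (y3 / b2) + y3 = 0 by rw [mul_comm, add_comm]; exact div_spec hn h2 y3]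
  refine Std.of_rel (rel_of_inv (mem_Z7 hn _).1 (mem_Z7 hn _).2 (conj_Z7_E θ b2 z5 (z5 / b2))) ?_
  rw [show b2 * (z5 / b2) + z5 = 0 by rw [mul_comm, add_comm]; exact div_spec hn h2 z5]
  exact Or.inl ⟨b2, h2, by simpa [E, A1_zero, Z1_zero, A3_zero, Z3_zero, T4_zero, A5_zero, Z5_zero,
    T6_zero, A7_zero, Z7_zero, T8_zero] using Rel.refl (H := G) (T2 θ b2)⟩

theorem std_T6 {b6 : K} (h6 : b6 ≠ 0) (c3 b4 c5 b2 : K) :
    Std m (E θ 0 0 b2 0 c3 b4 0 c5 b6 0 0 0) := by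
  obtain ⟨x2, x3, x4, x5, x6, x7, h, -, -, h7, hr⟩ := rel_turn8 hn b2 c3 b4 c5 b6 0 (zero_mul _)
  rw [h7 rfl] at hr
  exact Std.of_rel hr (std_T2 hn (h h6) _ _ _ _)

theorem std_pair {w : K} (hw : w ≠ 0) (e : K) : Std m (E θ 0 w 0 0 0 0 0 e 0 0 0 0) := by
  have := halfFrob hn
  obtain ⟨u1, hu1, e1⟩ := exists_turn hn (i := 0) (r := 30) (s := 28) (r' := 42) (s' := 36) (by simp [turnList]) w
  obtain ⟨u5, hu5, e5⟩ := exists_turn hn (i := 0) (r := 47) (s := 44) (r' := 46) (s' := 40) (by simp [turnList]) e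
  have r1 : Rel G (E θ 0 w 0 0 0 0 0 e 0 0 0 0) (E θ 0 0 0 0 u5 0 0 0 0 0 u1 0) := by
    refine ⟨_, (gensF4 K hn).s_mem 0, ?_⟩
    rw [← MulAut.conj_apply, ← turn8_A θ u1 u5]
    simp only [E, A1_zero, T2_zero, A3_zero, Z3_zero, T4_zero, A5_zero, T6_zero, A7_zero, Z7_zero,
      T8_zero, one_mul, mul_one, map_mul, map_one]
    simp only [Z1, Z3, Z5, Z7, e1, e5]
  have hw1 := hu1 hw
  obtain ⟨s, hs⟩ := ph_surj hn (u5 / u1)
  refine Std.of_rel r1 (Std.of_rel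
    (rel_of_inv (mem_Z1 hn s).1 (mem_Z1 hn s).2 (conj_Z1_F θ u5 u1 s)) ?_)
  rw [show ph θ s * u1 + u5 = 0 by rw [hs, add_comm]; exact div_spec hn hw1 u5]
  by_cases he : s = 0
  · subst he
    simp only [ph_zero, zero_mul, mul_zero, add_zero, zero_add]
    obtain ⟨v, hv, ev⟩ := exists_turn hn (i := 1) (r := 42) (s := 36) (r' := 46) (s' := 40) (by simp [turnList]) u1
    obtain ⟨z, hz, ez⟩ := exists_turn hn (i := 0) (r := 46) (s := 40) (r' := 47) (s' := 44) (by simp [turnList]) v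
    refine Or.inr ⟨z, hz (hv hw1), _, mul_mem ((gensF4 K hn).s_mem 0) ((gensF4 K hn).s_mem 1), ?_⟩
    rw [← MulAut.conj_apply, map_mul MulAut.conj, MulAut.mul_apply]
    simp only [E, A1_zero, Z1_zero, T2_zero, A3_zero, Z3_zero, T4_zero, A5_zero, Z5_zero, T6_zero,
      A7_zero, T8_zero, one_mul, mul_one]
    simp only [Z5, Z7, ev, ez]
  have h4 : u1 * s ≠ 0 := mul_ne_zero hw1 he
  generalize hy : ph θ u1 * s = y5
  refine Std.of_rel (rel_of_inv (mem_A7 hn _).1 (mem_A7 hn _).2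
    (conj_A7_F θ (u1 * s) y5 u1 (y5 / (u1 * s)))) ?_
  rw [show u1 * s * (y5 / (u1 * s)) + y5 = 0 by rw [mul_comm, add_comm]; exact div_spec hn h4 y5]
  obtain ⟨v4, hv4, f4⟩ := exists_turn hn (i := 1) (r := 45) (s := 39) (r' := 43) (s' := 38) (by simp [turnList]) (u1 * s)
  obtain ⟨v7, -, f7⟩ := exists_turn hn (i := 1) (r := 42) (s := 36) (r' := 46) (s' := 40) (by simp [turnList]) u1
  have r2 : Rel G (E θ 0 0 0 0 0 (u1 * s) 0 0 0 0 u1 0) (E θ 0 0 0 0 v7 0 0 0 v4 0 0 0) := by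
    refine ⟨_, (gensF4 K hn).s_mem 1, ?_⟩
    have := turn1_E θ (0 : K) 0 v4 0 0 v7 0
    simp only [zero_mul, mul_zero, zero_add, ph_zero] at this
    rw [← MulAut.conj_apply, ← this]
    simp only [E, A1_zero, Z1_zero, T2_zero, A3_zero, Z3_zero, T4_zero, A5_zero, Z5_zero, T6_zero,
      A7_zero, Z7_zero, T8_zero, one_mul, mul_one, map_mul, map_one]
    simp only [Z3, T4, T6, Z7, f4, f7]
  exact Std.of_rel r2 (std_T6 hn (hv4 h4) _ _ _ _)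

theorem std_A {w : K} (hw : w ≠ 0) {b2 b3 c3 b4 b5 c5 b6 b7 c7 b8 : K}
    (hsq : E θ 0 w b2 b3 c3 b4 b5 c5 b6 b7 c7 b8 * E θ 0 w b2 b3 c3 b4 b5 c5 b6 b7 c7 b8 = 1) :
    Std m (E θ 0 w b2 b3 c3 b4 b5 c5 b6 b7 c7 b8) := by
  have := halfFrob hn
  obtain ⟨-, h, -⟩ := sq_eqs hn hsq
  obtain ⟨rfl, rfl⟩ := h hw
  have r1 := rel_of_inv (mem_T8 hn _).1 (mem_T8 hn _).2 (conj_T8_A θ w b2 b3 c3 b4 b5 c5 b6 c7 (b3 / w))
  refine Std.of_rel r1 ?_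
  have hsq1 := r1.sq_one hsq
  rw [show b3 + b3 / w * w = 0 from div_spec hn hw b3] at hsq1 ⊢
  revert hsq1
  generalize ph θ w * (b3 / w) + b2 = y2
  generalize ph θ b3 * (b3 / w) * w + ph θ (b3 / w) * ph θ w * (b3 / w) * w + ph θ (b3 / w) * b2 * w + c3 = y3
  generalize ph θ b2 * (b3 / w) + ph θ (b3 / w) * b3 * w + ph θ (b3 / w) * (b3 / w) * w * w + b4 = y4
  generalize ph θ (b3 / w) * w + b5 = y5
  generalize ph θ b3 * b3 * (b3 / w) + ph θ b5 * ph θ (b3 / w) * w + ph θ (b3 / w) * ph θ w * b3 * (b3 / w) + ph θ (b3 / w) * b2 * b3 + ph θ (b3 / w) * b2 * (b3 / w) * w + c3 * (b3 / w) + c5 = z5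
  generalize ph θ b3 * (b3 / w) + ph θ (b3 / w) * ph θ w * (b3 / w) + ph θ (b3 / w) * b2 + b6 = y6
  generalize ph θ (b3 / w) * b3 + ph θ (b3 / w) * (b3 / w) * w + b5 * (b3 / w) + c7 = z7
  intro hsq1
  have r2 := rel_of_inv (mem_A7 hn _).1 (mem_A7 hn _).2 (conj_A7_A θ w y2 y3 y4 y5 z5 y6 z7 (y2 / w))
  refine Std.of_rel r2 ?_
  have hsq2 := r2.sq_one hsq1
  rw [show y2 + y2 / w * w = 0 from div_spec hn hw y2] at hsq2 ⊢
  obtain ⟨-, -, h', -⟩ := sq_eqs hn hsq2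
  obtain ⟨e7, e6, e5⟩ := h' hw rfl rfl
  rw [e7, e6, e5]
  generalize ph θ y2 * (y2 / w) + y3 = x3
  generalize ph θ (y2 / w) * y2 + ph θ (y2 / w) * (y2 / w) * w + y4 = x4
  generalize ph θ (y2 / w) * (y2 / w) * (y2 / w) * w + y4 * (y2 / w) + z5 = x5
  refine Std.of_rel (rel_of_inv (mem_Z7 hn _).1 (mem_Z7 hn _).2 (conj_Z7_A θ w x3 x4 x5 (x4 / w))) ?_
  rw [show x4 + x4 / w * w = 0 from div_spec hn hw x4]
  generalize ph θ w * (x4 / w) + x3 = x3'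
  generalize ph θ (x4 / w) * w + x5 = x5'
  refine Std.of_rel (rel_of_inv (mem_T6 hn _).1 (mem_T6 hn _).2 (conj_T6_A θ w x3' x5' (x3' / w))) ?_
  rw [show x3' + x3' / w * w = 0 from div_spec hn hw x3']
  exact std_pair hn hw _

theorem std_C {b2 c3 b4 c5 b6 c7 : K} (hbc : c7 * b2 = 0) (h7 : c7 ≠ 0)
    (hsq : E θ 0 0 b2 0 c3 b4 0 c5 b6 0 c7 0 * E θ 0 0 b2 0 c3 b4 0 c5 b6 0 c7 0 = 1) :
    Std m (E θ 0 0 b2 0 c3 b4 0 c5 b6 0 c7 0) := by
  obtain ⟨x2, x3, x4, x5, x6, x7, -, -, hx7, -, hr⟩ := rel_turn8 hn b2 c3 b4 c5 b6 c7 hbc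
  exact Std.of_rel hr (std_A hn (hx7 h7) (hr.sq_one hsq))

theorem std_G {b2 c3 b4 c5 b6 c7 : K} (hbc : c7 * b2 = 0)
    (hsq : E θ 0 0 b2 0 c3 b4 0 c5 b6 0 c7 0 * E θ 0 0 b2 0 c3 b4 0 c5 b6 0 c7 0 = 1)
    (hne : E θ 0 0 b2 0 c3 b4 0 c5 b6 0 c7 0 ≠ 1) :
    Std m (E θ 0 0 b2 0 c3 b4 0 c5 b6 0 c7 0) := by
  have := halfFrob hn
  by_cases h7 : c7 = 0
  swap
  · exact std_C hn hbc h7 hsq
  subst h7
  by_cases h2 : b2 = 0
  swap
  · exact std_T2 hn h2 _ _ _ _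
  subst h2
  by_cases h6 : b6 = 0
  swap
  · exact std_T6 hn h6 _ _ _ _
  subst h6
  obtain ⟨x2, x3, x4, x5, x6, x7, x8, h8, hx7, hx6, hr⟩ := rel_turn1 hn 0 c3 b4 c5 0 0 0 (Or.inl rfl)
  rw [h8 rfl] at hr
  have hsq' := hr.sq_one hsq
  obtain ⟨-, -, -, hC, -⟩ := sq_eqs hn hsq'
  obtain ⟨-, -, -, hbc'⟩ := hC rfl rfl
  by_cases h4 : b4 = 0
  swap
  · refine Std.of_rel hr ?_
    by_cases h : x7 = 0
    · subst h; exact std_T6 hn (hx6 h4 rfl) _ _ _ _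
    · exact std_C hn hbc' h hsq'
  subst h4
  by_cases h3 : c3 = 0
  swap
  · exact Std.of_rel hr (std_C hn hbc' (hx7 h3) hsq')
  subst h3
  have he : E θ 0 0 0 0 0 0 0 c5 0 0 0 0 = Z5 θ c5 := by
    simp [E, A1_zero, Z1_zero, T2_zero, A3_zero, Z3_zero, T4_zero, A5_zero, T6_zero, A7_zero, Z7_zero,
      T8_zero]
  rw [he] at hne ⊢
  exact Or.inr ⟨c5, fun h => hne (by rw [h, Z5_zero]), Rel.refl _⟩

theorem std_all {u : GL chevF4.Idx K} (hu : u ∈ chevF4.posUnipotent K ⊓ G) (hsq : u * u = 1)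
    (hne : u ≠ 1) : Std m u := by
  have := halfFrob hn
  obtain ⟨a1, w1, b2, b3, c3, b4, b5, c5, b6, b7, c7, b8, rfl⟩ := exists_E hn hu
  obtain ⟨rfl, -, -, hC, -⟩ := sq_eqs hn hsq
  by_cases hw : w1 = 0
  swap
  · exact std_A hn hw hsq
  subst hw
  by_cases h8 : b8 = 0
  · subst h8
    obtain ⟨rfl, rfl, rfl, hbc⟩ := hC rfl rfl
    exact std_G hn hbc hsq hne
  have r1 := rel_of_inv (mem_A1 hn _).1 (mem_A1 hn _).2
    (conj_A1_B θ b2 b3 c3 b4 b5 c5 b6 b7 c7 b8 (b7 / b8))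
  refine Std.of_rel r1 ?_
  have hsq1 := r1.sq_one hsq
  have hne1 := r1.ne_one hne
  rw [show b7 + b8 * (b7 / b8) = 0 by rw [mul_comm]; exact div_spec hn h8 b7] at hsq1 hne1 ⊢
  revert hsq1 hne1
  generalize b7 / b8 = s
  generalize ph θ s * b8 * s * s + b2 + b3 * s = y2
  generalize ph θ s * b7 + ph θ s * b8 * s + b3 = y3
  generalize ph θ b7 * ph θ s * b8 * s * s * s + ph θ b7 * b3 * s * s + ph θ b8 * ph θ s * b3 * s * s + ph θ s * b5 * b8 * s * s + ph θ s * c7 * s * s + b4 * s + c3 = z3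
  generalize ph θ b7 * ph θ s * b7 * s + ph θ b8 * ph θ s * ph θ s * b8 * s * s + ph θ s * b5 * b7 + ph θ s * b5 * b8 * s + ph θ s * b6 + ph θ s * c7 * s + b4 = y4
  generalize ph θ b7 * s + b5 = y5
  generalize ph θ b6 * s + ph θ b7 * ph θ s * b7 * b7 * s + ph θ b8 * ph θ s * ph θ s * b7 * b8 * s * s + ph θ b8 * ph θ s * ph θ s * b8 * b8 * s * s * s + ph θ s * b5 * b7 * b7 + ph θ s * b6 * b7 + ph θ s * b6 * b8 * s + ph θ s * b7 * c7 * s + c5 = z5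
  generalize ph θ b8 * ph θ s * b8 * s * s + b6 + c7 * s = y6
  generalize ph θ b8 * ph θ s * b7 + ph θ b8 * ph θ s * b8 * s + c7 = z7
  intro hsq1 hne1
  have r2 := rel_of_inv (mem_Z1 hn _).1 (mem_Z1 hn _).2
    (conj_Z1_B θ y2 y3 z3 y4 y5 z5 y6 z7 b8 (y3 / b8))
  refine Std.of_rel r2 ?_
  have hsq2 := r2.sq_one hsq1
  have hne2 := r2.ne_one hne1
  rw [show y3 + b8 * (y3 / b8) = 0 by rw [mul_comm]; exact div_spec hn h8 y3] at hsq2 hne2 ⊢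
  obtain ⟨-, -, -, -, hD⟩ := sq_eqs hn hsq2
  obtain ⟨e2, e5, e3⟩ := hD rfl h8 rfl rfl
  rw [e2, e5, e3] at hsq2 hne2 ⊢
  revert hsq2 hne2
  generalize ph θ b8 * b8 * (y3 / b8) * (y3 / b8) + y4 + y5 * b8 * (y3 / b8) + z7 * (y3 / b8) = x4
  generalize ph θ z7 * (y3 / b8) + ph θ (y3 / b8) * y5 * b8 * b8 + ph θ (y3 / b8) * b8 * z7 + y6 * b8 * (y3 / b8) + z5 = x5
  generalize ph θ b8 * ph θ (y3 / b8) * b8 + y6 = x6
  generalize ph θ b8 * b8 * (y3 / b8) + z7 = x7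
  intro hsq2 hne2
  obtain ⟨v2, v3, v4, v5, v6, v7, v8, hv8, -, -, r3⟩ := rel_turn1 hn 0 0 x4 x5 x6 x7 b8 (Or.inl rfl)
  rw [hv8 rfl] at r3
  refine Std.of_rel r3 ?_
  have hsq3 := r3.sq_one hsq2
  obtain ⟨-, -, -, hC3, -⟩ := sq_eqs hn hsq3
  obtain ⟨-, -, -, hbc3⟩ := hC3 rfl rfl
  exact std_G hn hbc3 hsq3 (r3.ne_one hne2)

end CfsgLib.Twisted.F4Uni
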