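import Cfsg.Agent.Lib.Twisted.TypeF4

/-!
In characteristic two the two kinds of root elements of pair type of `²F₄` are not conjugate in the
general linear group of the adjoint module: the ranks of `g - 1` are 21 and 24.
-/

set_option autoImplicit false

namespace CfsgLib.Twisted.F4Rank

open Cfsg.Lie CfsgLib.ChevStr
open scoped MatrixGroups

/-- The number of a coordinate. -/
def code : chevF4.Idx → ℕ
  | Sum.inl i => i.val
  | Sum.inr r => 4 + r.val

/-- The matrix with ones at the listed places. -/
def tab (L : List ℕ) : Matrix chevF4.Idx chevF4.Idx (ZMod 2) :=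
  Matrix.of fun i j => if (L.getD (code i) 0).testBit (code j) then 1 else 0

def m47 : List ℕ :=
  [17, 2, 20, 8, 16, 32, 64, 128, 256, 512, 1024, 2048, 4096, 8192, 16384, 32768, 65536, 131072,
    262144, 524288, 1048576, 2097152, 4194304, 8388608, 16777216, 33554432, 67108864, 134217728,
    268435488, 536870912, 1073741888, 2147483648, 4294967296, 8589934720, 17179869184,
    34359738624, 68719477248, 137438953472, 274877906944, 549755813888, 1099511629824,
    2199023255552, 4398046515200, 8796093030400, 17592186077184, 35184372088832, 70368744701952,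
    140737489403904, 281474980904960, 562949986975744, 1125900041060352, 2251799813685272]

def m44 : List ℕ :=
  [1, 130, 4, 8, 16, 32, 64, 128, 256, 512, 1024, 2048, 4096, 8192, 16384, 32768, 65536, 131072,
    262144, 524288, 1048576, 2097152, 4194320, 8388640, 16777280, 33554432, 67108864, 134217728,
    268435456, 536870912, 1073741824, 2147483904, 4294967808, 8589935616, 17179869184,
    34359738368, 68719476736, 137438955520, 274877911040, 549755822080, 1099511644160,
    2199023288320, 4398046576640, 8796093153280, 17592186306560, 35184372088848, 70368744177696,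
    140737488355392, 281474976710785, 562949953421568, 1125899906843136, 2251799813686272]

def m32 : List ℕ :=
  [1, 524290, 4, 524296, 16, 32, 64, 128, 256, 528, 1056, 2048, 4096, 8192, 16384, 32768, 65536,
    133120, 266240, 524288, 1048576, 2097152, 4194304, 8388608, 16777216, 33554432, 67108864,
    134217728, 268435456, 537919488, 1075838976, 2147483648, 4299161600, 8598323200,
    17213423616, 34426847232, 68720001028, 137438953472, 274877906944, 549755813888,
    1099511627776, 2199023255552, 4398046511104, 8933531975680, 17867063951360, 35184372088832,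
    70368744177664, 140737488355328, 281474976710656, 562949953421312, 1161084278931456,
    2322168557862912]

def m37 : List ℕ :=
  [16385, 2, 4, 8, 16, 32, 64, 128, 256, 512, 1024, 2048, 4128, 8256, 16384, 32896, 65536,
    131072, 263168, 524288, 1048576, 2097152, 4196352, 8388608, 16777216, 33554464, 67108864,
    134217792, 268435456, 536870912, 1073741824, 2147549184, 4295098368, 8589934592,
    17179870208, 34359738368, 68719476736, 137441050624, 274886295552, 549772591104,
    1099511627776, 2199023271946, 4398314946560, 8797166764032, 17600775979008, 35184374185984,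
    70368744177664, 140737488355328, 282574488338432, 562950221856768, 1125900980584448,
    2251799813685248]

def mZ : List ℕ :=
  [17, 130, 20, 8, 16, 32, 64, 128, 256, 512, 1024, 2048, 4096, 8192, 16384, 32768, 65536,
    131072, 262144, 524288, 1048576, 2097152, 4194320, 8388640, 16777280, 33554432, 67108864,
    134217728, 268435488, 536870912, 1073741888, 2147483904, 4294967808, 8589935744,
    17179869184, 34359738624, 68719477248, 137438955520, 274877911040, 549755822080,
    1099511646208, 2199023288320, 4398046580736, 8796093161472, 17592186339328, 35184372088848,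
    70368744701984, 140737489403968, 281474980905105, 562949986976000, 1125900041060864,
    2251799813686296]

def mT : List ℕ :=
  [16385, 524290, 4, 524296, 16, 32, 64, 128, 256, 528, 1056, 2048, 4128, 8256, 16384, 32896,
    65536, 133120, 267296, 524288, 1048576, 2097152, 4196352, 8388608, 16777216, 33554464,
    67108864, 134217792, 268435456, 537919488, 1075838976, 2147549184, 4299294720, 8598323200,
    17213424672, 34426847232, 68720001028, 137441050624, 274886295552, 549772591104,
    1099511627776, 2199023271946, 4398314946560, 8934607814656, 17875662274560, 35184374185984,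
    70368744177664, 140737488355328, 282574488338432, 562950221856768, 1161085354770432,
    2322168557862912]

def zCoef : List (List ℕ) :=
  [[0], [1], [0], [], [], [], [], [], [], [], [], [], [], [], [], [], [], [], [], [], [], [],
    [0], [2], [3], [], [], [], [2], [], [3], [4], [5], [6], [], [4], [5], [7], [8], [9], [10],
    [11], [12], [13], [14], [0], [15], [16], [17], [18], [19], [20]]

def zBasis : List (List ℕ) :=
  [[4], [7], [5], [6], [8], [9], [7, 10], [11], [12], [13], [11, 14], [15], [12, 16], [13, 17],
    [15, 18], [5, 19], [6, 20], [0, 4, 7, 22], [8, 25], [9, 27], [3, 4, 10]]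

def tRows : List (List ℕ) :=
  [[1, 36], [0, 41], [9], [10], [13], [15], [17], [10, 18], [0], [31], [1], [29], [30], [17,
    32], [33], [39], [10, 34], [35], [42], [30, 43], [33, 44], [48], [30, 50], [51]]

def tPivots : List ℕ :=
  [2, 3, 4, 5, 6, 7, 11, 12, 14, 16, 19, 20, 21, 22, 23, 24, 25, 26, 28, 37, 38, 40, 45, 46]

/-- The selection of the listed coordinates. -/
def sel {k : ℕ} (L : List ℕ) : Matrix chevF4.Idx (Fin k) (ZMod 2) :=
  Matrix.of fun i j => if code i = L.getD j.val 100 then 1 else 0

/-- The combinations of the listed rows. -/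
def comb {k : ℕ} (L : List (List ℕ)) : Matrix (Fin k) chevF4.Idx (ZMod 2) :=
  Matrix.of fun i j => if code j ∈ L.getD i.val [] then 1 else 0

/-- The coefficients of the rows. -/
def coef {k : ℕ} (L : List (List ℕ)) : Matrix chevF4.Idx (Fin k) (ZMod 2) :=
  Matrix.of fun i j => if j.val ∈ L.getD (code i) [] then 1 else 0

theorem x_table : chevF4.x (ZMod 2) 47 1 = tab m47 ∧ chevF4.x (ZMod 2) 44 1 = tab m44 ∧
    chevF4.x (ZMod 2) 32 1 = tab m32 ∧ chevF4.x (ZMod 2) 37 1 = tab m37 := by
  decide +kernel

theorem z_table : tab m47 * tab m44 = tab mZ := by decide +kernel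

theorem t_table : tab m32 * tab m37 = tab mT := by decide +kernel

theorem z_factor : tab mZ - 1 = coef (k := 21) zCoef * comb (k := 21) zBasis := by decide +kernel

theorem t_minor : comb (k := 24) tRows * (tab mT - 1) * sel (k := 24) tPivots = 1 := by
  decide +kernel

variable {K : Type*} [Field K]

theorem x_map (f : ZMod 2 →+* K) (r : ℕ) (t : ZMod 2) :
    (chevF4.x (ZMod 2) r t).map f = chevF4.x K r (f t) := by
  unfold ChevalleyDatum.x
  split
  · ext i j
    simp only [ChevalleyDatum.xMat, Matrix.map_apply, Matrix.of_apply]
    rcases i with i | i <;> rcases j with j | j <;> simp only [] <;>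
      repeat' split_ifs
    all_goals simp only [map_zero, map_one, map_neg, map_mul, map_pow, map_add, map_intCast,
      map_list_sum, List.map_map, Function.comp_def]
  · exact Matrix.map_one _ (map_zero f) (map_one f)

/-- The two elements are not conjugate. -/
theorem not_conj [CharP K 2] {g z t : GL chevF4.Idx K}
    (hz : (z : Matrix chevF4.Idx chevF4.Idx K) = chevF4.x K 47 1 * chevF4.x K 44 1)
    (ht : (t : Matrix chevF4.Idx chevF4.Idx K) = chevF4.x K 32 1 * chevF4.x K 37 1) :
    g * z * g⁻¹ ≠ t := by
  intro h
  set f := ZMod.castHom (dvd_refl 2) K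
  obtain ⟨e47, e44, e32, e37⟩ := x_table
  have hZ : (z : Matrix chevF4.Idx chevF4.Idx K) - 1 = (tab mZ - 1).map f := by
    rw [hz, ← map_one f, ← x_map f, ← x_map f, e47, e44, ← z_table]
    simp [← RingHom.mapMatrix_apply]
  have hT : (t : Matrix chevF4.Idx chevF4.Idx K) - 1 = (tab mT - 1).map f := by
    rw [ht, ← map_one f, ← x_map f, ← x_map f, e32, e37, ← t_table]
    simp [← RingHom.mapMatrix_apply]
  set A := (coef (k := 21) zCoef).map f
  set B := (comb (k := 21) zBasis).map f
  have hAB : (z : Matrix chevF4.Idx chevF4.Idx K) - 1 = A * B := by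
    rw [hZ, ← Matrix.map_mul, ← z_factor]
  have hone : (comb (k := 24) tRows).map f * ((t : Matrix chevF4.Idx chevF4.Idx K) - 1) *
      (sel (k := 24) tPivots).map f = 1 := by
    rw [hT, ← Matrix.map_mul, ← Matrix.map_mul, t_minor, Matrix.map_one _ (map_zero f) (map_one f)]
  have hconj : (t : Matrix chevF4.Idx chevF4.Idx K) - 1 = (g : Matrix chevF4.Idx chevF4.Idx K) *
      (A * B) * ((g⁻¹ : GL chevF4.Idx K) : Matrix chevF4.Idx chevF4.Idx K) := by
    rw [← hAB, ← h, Units.val_mul, Units.val_mul, Matrix.mul_sub, Matrix.sub_mul, Matrix.mul_one,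
      ← Units.val_mul g g⁻¹, mul_inv_cancel, Units.val_one]
  have h1 : ((comb (k := 24) tRows).map f * (g : Matrix chevF4.Idx chevF4.Idx K) * A) *
      (B * ((g⁻¹ : GL chevF4.Idx K) : Matrix chevF4.Idx chevF4.Idx K) *
        (sel (k := 24) tPivots).map f) = 1 := by
    rw [← hone, hconj]
    simp only [Matrix.mul_assoc]
  have h2 := Matrix.rank_mul_le_left
    ((comb (k := 24) tRows).map f * (g : Matrix chevF4.Idx chevF4.Idx K) * A)
    (B * ((g⁻¹ : GL chevF4.Idx K) : Matrix chevF4.Idx chevF4.Idx K) * (sel (k := 24) tPivots).map f)
  rw [h1, Matrix.rank_one, Fintype.card_fin] at h2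
  exact absurd (h2.trans (Matrix.rank_le_width _)) (by norm_num)

end CfsgLib.Twisted.F4Rank
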