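import Cfsg.Agent.Lib.TwistedStr.F4InvolutionCases
import Cfsg.Agent.Lib.TwistedStr.F4Rank
import Cfsg.Agent.Lib.LargeReeAut.Elements
import Cfsg.Agent.Lib.TwistedStr.TitsInvolution

/-!
`²F₄(q)` has two classes of involutions, and so has the Tits group.
-/

set_option autoImplicit false
set_option linter.unusedSectionVars false
set_option linter.unusedSimpArgs false

namespace CfsgLib.Twisted.F4Uni

open Cfsg.Lie CfsgLib.ChevStr
open scoped MatrixGroups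

theorem cartan_facts :
    ([0, 1, 2, 3].map fun j => chevF4.cartan j 43) = [(2 : ℤ), -2, 1, 0] ∧
    ([0, 1, 2, 3].map fun j => chevF4.cartan j 38) = [(0 : ℤ), 1, -1, 1] ∧
    ([0, 1, 2, 3].map fun j => chevF4.cartan j 47) = [(0 : ℤ), 0, 0, 1] ∧
    ([0, 1, 2, 3].map fun j => chevF4.cartan j 44) = [(1 : ℤ), 0, 0, 0] := by
  decide +kernel

/-- A subgroup of index two containing two representatives whose centralisers are not inside it
meets every class of involutions in one class. -/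
theorem classes_two_index_two {G : Type*} [Group G] {D : Subgroup G} (hD : D.index = 2) {T Z g : G}
    (hg : g ∉ D) (hTD : T ∈ D) (hZD : Z ∈ D) (hgT : Commute g T) (hgZ : Commute g Z)
    (hT : orderOf T = 2) (hZ : orderOf Z = 2)
    (hall : ∀ x : G, orderOf x = 2 → IsConj T x ∨ IsConj Z x) (hne : ¬ IsConj T Z) :
    (ConjClasses.mk '' {x : ↥D | orderOf x = 2}).ncard = 2 := by
  classical
  set T' : ↥D := ⟨T, hTD⟩
  set Z' : ↥D := ⟨Z, hZD⟩
  have lift : ∀ (R : ↥D) (x : ↥D), Commute g R.1 → IsConj R.1 x.1 → IsConj R x := by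
    intro R x hgR h
    obtain ⟨k, hk⟩ := isConj_iff.1 h
    by_cases hkD : k ∈ D
    · exact isConj_iff.2 ⟨⟨k, hkD⟩, Subtype.ext hk⟩
    · have hkg : k * g ∈ D := (Subgroup.mul_mem_iff_of_index_two hD).2 (iff_of_false hkD hg)
      refine isConj_iff.2 ⟨⟨k * g, hkg⟩, Subtype.ext ?_⟩
      show k * g * R.1 * (k * g)⁻¹ = x.1
      rw [← hk, mul_assoc k g, hgR.eq]
      group
  have himg : ConjClasses.mk '' {x : ↥D | orderOf x = 2} =
      {ConjClasses.mk T', ConjClasses.mk Z'} := by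
    refine Set.ext fun y => ⟨?_, ?_⟩
    · rintro ⟨x, hx, rfl⟩
      rcases hall x.1 (by rw [Subgroup.orderOf_coe]; exact hx) with h | h
      · exact Or.inl (ConjClasses.mk_eq_mk_iff_isConj.2 (lift T' x hgT h).symm)
      · exact Or.inr (ConjClasses.mk_eq_mk_iff_isConj.2 (lift Z' x hgZ h).symm)
    · rintro (rfl | rfl)
      exacts [⟨T', (Subgroup.orderOf_coe T').symm.trans hT, rfl⟩,
        ⟨Z', (Subgroup.orderOf_coe Z').symm.trans hZ, rfl⟩]
  rw [himg]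
  refine Set.ncard_pair fun e => hne ?_
  exact D.subtype.map_isConj (ConjClasses.mk_eq_mk_iff_isConj.1 e)

variable {K : Type*} [Field K] [Fintype K] [CharP K 2] {m : ℕ}
  (hn : Fintype.card K = 2 * (2 ^ m * 2 ^ m))

local notation "θ" => th K m
local notation "G" => twistedF4 K (2 ^ m)

include hn

theorem conj_torus (c : Fin chevF4.rank → Kˣ) {r : ℕ} (hr : r < chevF4.nroots) (t : K) :
    MulAut.conj ((coreF4 K).R.torus c) (X r t) =
      X r (((c (nodeF4 0) ^ chevF4.cartan 0 r * c (nodeF4 1) ^ chevF4.cartan 1 r *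
        c (nodeF4 2) ^ chevF4.cartan 2 r * c (nodeF4 3) ^ chevF4.cartan 3 r : Kˣ) : K) * t) := by
  rw [MulAut.conj_apply, X, X, (coreF4 K).acts_torus c ⟨r, hr⟩ t, (coreF4 K).R.torusChar_root c hr,
    prod_nodeF4]
  rfl

theorem tau_vals (c v : Kˣ) : LargeReeAut.tauVec K m c v (nodeF4 0) = c ^ 2 ^ m ∧
    LargeReeAut.tauVec K m c v (nodeF4 1) = v ^ 2 ^ m ∧ LargeReeAut.tauVec K m c v (nodeF4 2) = v ∧
    LargeReeAut.tauVec K m c v (nodeF4 3) = c := by
  refine ⟨?_, ?_, ?_, ?_⟩ <;> simp [LargeReeAut.tauVec, nodeF4, Pi.mulSingle_apply, Fin.ext_iff]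

theorem scale_Z5 {e : K} (he : e ≠ 0) : Rel G (Z5 θ e) (Z5 θ (1 : K)) := by
  set c := (Units.mk0 e he)⁻¹
  refine ⟨_, LargeReeAut.tau_mem hn c 1, ?_⟩
  obtain ⟨v0, v1, v2, v3⟩ := tau_vals hn c 1
  obtain ⟨-, -, k47, k44⟩ := by simpa using cartan_facts
  rw [← MulAut.conj_apply, Z5, map_mul, conj_torus hn _ (by decide), conj_torus hn _ (by decide), v0,
    v1, v2, v3]
  obtain ⟨a0, a1, a2, a3⟩ := k47
  obtain ⟨b0, b1, b2, b3⟩ := k44
  rw [a0, a1, a2, a3, b0, b1, b2, b3, Z5]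
  congr 2
  · simp [c, he]
  · rw [map_one, th_apply]; simp [c, ← mul_pow, he]

theorem scale_T6 {t : K} (ht : t ≠ 0) : Rel G (T6 θ t) (T6 θ (1 : K)) := by
  have := halfFrob hn
  obtain ⟨s, hs⟩ := ph_surj (m := m) hn t⁻¹
  have hs0 : s ≠ 0 := by rintro rfl; simp [ph_zero, eq_comm, ht] at hs
  set c := Units.mk0 s hs0
  refine ⟨_, LargeReeAut.tau_mem hn c 1, ?_⟩
  obtain ⟨v0, v1, v2, v3⟩ := tau_vals hn c 1
  obtain ⟨k43, k38, -, -⟩ := by simpa using cartan_facts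
  rw [← MulAut.conj_apply, T6, map_mul, conj_torus hn _ (by decide), conj_torus hn _ (by decide), v0,
    v1, v2, v3]
  obtain ⟨a0, a1, a2, a3⟩ := k43
  obtain ⟨b0, b1, b2, b3⟩ := k38
  rw [a0, a1, a2, a3, b0, b1, b2, b3, T6]
  have h1 : (s ^ 2 ^ m) ^ 2 * t = 1 := by
    rw [← th_apply, ← ph, hs, inv_mul_cancel₀ ht]
  have h2 : s * θ t = 1 := by
    have h := congrArg θ h1
    rwa [map_mul, map_pow, ← th_apply, th_sq θ, map_one] at h
  congr 2
  · simpa [c] using h1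
  · rw [map_one]; simpa [c] using h2

theorem T2_to_T6 {t : K} (ht : t ≠ 0) : Rel G (T2 θ t) (T6 θ (1 : K)) := by
  obtain ⟨u, hu, e⟩ := exists_turn hn (i := 0) (r := 32) (s := 37) (r' := 43) (s' := 38) (by simp [turnList]) t
  exact Rel.trans ⟨_, (gensF4 K hn).s_mem 0, by rw [← MulAut.conj_apply]; exact e⟩
    (scale_T6 hn (hu ht))

theorem odd_index :
    ¬ 2 ∣ ((chevF4.posUnipotent K ⊓ twistedF4 K (2 ^ m)).subgroupOf G).index ∧
      IsPGroup 2 ↥((chevF4.posUnipotent K ⊓ twistedF4 K (2 ^ m)).subgroupOf G) := by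
  set U := (chevF4.posUnipotent K ⊓ twistedF4 K (2 ^ m)).subgroupOf G
  have hU : Nat.card ↥U = Fintype.card K ^ 12 := by
    rw [Nat.card_congr (Subgroup.subgroupOfEquivOfLe inf_le_right).toEquiv, card_U hn,
      Nat.card_eq_fintype_card]
  have hq : Fintype.card K = 2 ^ (2 * m + 1) := by rw [hn]; ring
  refine ⟨fun hdvd => ?_, IsPGroup.of_card (n := (2 * m + 1) * 12) (by rw [hU, hq, ← pow_mul])⟩
  have h := U.card_mul_index
  rw [hU, card_twistedF4 K hn, mul_assoc, mul_assoc, mul_assoc] at h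
  have hi := Nat.eq_of_mul_eq_mul_left (pow_pos Fintype.card_pos 12) h
  rw [hi] at hdvd
  have hev : Even (Fintype.card K) := ⟨2 ^ m * 2 ^ m, by rw [hn]; ring⟩
  have h1 : ∀ k, k ≠ 0 → Odd (Fintype.card K ^ k + 1) := fun k hk =>
    ((Nat.even_pow).2 ⟨hev, hk⟩).add_one
  have h2 : ∀ k, k ≠ 0 → Odd (Fintype.card K ^ k - 1) := fun k hk => by
    rw [Nat.odd_iff]
    have h3 : Fintype.card K ^ k % 2 = 0 := Nat.even_iff.1 ((Nat.even_pow).2 ⟨hev, hk⟩)
    have h4 : 1 ≤ Fintype.card K ^ k := Nat.one_le_pow _ _ Fintype.card_pos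
    omega
  refine Nat.not_even_iff_odd.2 ?_ (even_iff_two_dvd.2 hdvd)
  exact (by simpa using h2 1 one_ne_zero : Odd (Fintype.card K - 1)).mul
    ((h1 3 (by norm_num)).mul ((h2 4 (by norm_num)).mul (h1 6 (by norm_num))))

/-- The two representatives. -/
theorem exists_std (x : ↥G) (h : orderOf x = 2) :
    Rel G (x : GL chevF4.Idx K) (T6 θ (1 : K)) ∨ Rel G (x : GL chevF4.Idx K) (Z5 θ (1 : K)) := by
  have : Fact (Nat.Prime 2) := ⟨Nat.prime_two⟩
  obtain ⟨hidx, hp⟩ := odd_index hn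
  set P := hp.toSylow hidx
  have hx1 : IsPGroup 2 ↥(Subgroup.zpowers x) :=
    IsPGroup.of_card (n := 1) (by rw [Nat.card_zpowers, h, pow_one])
  obtain ⟨Q, hQ⟩ := hx1.exists_le_sylow
  obtain ⟨k, hk⟩ := MulAction.exists_smul_eq (↥G) Q P
  have hmem : k * x * k⁻¹ ∈ (P : Subgroup ↥G) := by
    rw [← hk, Sylow.coe_subgroup_smul]
    exact ⟨x, hQ (Subgroup.mem_zpowers _), by simp [MulAut.conj_apply]⟩
  have hu : (k : GL chevF4.Idx K) * x * (k : GL chevF4.Idx K)⁻¹ ∈ chevF4.posUnipotent K ⊓ G :=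
    Subgroup.mem_subgroupOf.1 hmem
  have hrel : Rel G (x : GL chevF4.Idx K) ((k : GL chevF4.Idx K) * x * (k : GL chevF4.Idx K)⁻¹) :=
    ⟨_, k.2, rfl⟩
  have hxx : (x : GL chevF4.Idx K) * x = 1 := by
    have h1 := pow_orderOf_eq_one x
    rw [h, sq] at h1
    exact congrArg Subtype.val h1
  have hx0 : (x : GL chevF4.Idx K) ≠ 1 := fun e => by
    rw [← Subgroup.orderOf_coe, e, orderOf_one] at h; exact absurd h (by norm_num)
  rcases std_all hn hu (hrel.sq_one hxx) (hrel.ne_one hx0) with ⟨t, ht, r⟩ | ⟨t, ht, r⟩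
  · exact Or.inl ((hrel.trans r).trans (T2_to_T6 hn ht))
  · exact Or.inr ((hrel.trans r).trans (scale_Z5 hn ht))

theorem not_rel : ¬ Rel G (Z5 θ (1 : K)) (T6 θ (1 : K)) := by
  rintro ⟨k, hk, e⟩
  obtain ⟨k', hk', e'⟩ := T2_to_T6 hn (t := (1 : K)) one_ne_zero
  refine F4Rank.not_conj (g := k'⁻¹ * k) (z := Z5 θ (1 : K)) (t := T2 θ (1 : K)) ?_ ?_ ?_
  · rw [Z5, map_one, Units.val_mul]; rfl
  · rw [T2, map_one, Units.val_mul]; rfl
  · rw [mul_inv_rev, inv_inv, show k'⁻¹ * k * Z5 θ (1 : K) * (k⁻¹ * k') =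
      k'⁻¹ * (k * Z5 θ (1 : K) * k⁻¹) * k' by group, e, ← e']
    group

theorem rep_T6 : T6 θ (1 : K) ∈ G ∧ orderOf (T6 θ (1 : K)) = 2 := by
  refine ⟨(mem_T6 hn 1).1, orderOf_eq_prime ?_ fun e => ?_⟩
  · rw [sq]; simpa using (mem_T6 hn (1 : K)).2
  · refine one_ne_zero ((pair_one (K := K) (r := 38) (s := 43) (by norm_num) (by decide +kernel)
      (by decide +kernel) (d := 1) (c := 1) ?_).2)
    rw [T6, map_one] at e
    rw [← e]
    simpa using (cm_X (r := 43) (s := 38) (by decide +kernel) (1 : K) 1 1)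

theorem rep_Z5 : Z5 θ (1 : K) ∈ G ∧ orderOf (Z5 θ (1 : K)) = 2 := by
  have := halfFrob hn
  have h : Z5 θ (1 : K) ∈ G := by
    simpa [E, A1_zero, Z1_zero, T2_zero, A3_zero, Z3_zero, T4_zero, A5_zero, T6_zero, A7_zero,
      Z7_zero, T8_zero] using (Subgroup.mem_inf.1 (E_mem hn (m := m) 0 0 0 0 0 0 0 1 0 0 0 0)).2
  refine ⟨h, orderOf_eq_prime ?_ fun e => ?_⟩
  · have := mZ5 θ (1 : K) 1 1
    rw [CharTwo.add_self_eq_zero, Z5_zero] at this
    simpa [sq] using this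
  · refine one_ne_zero ((pair_one (K := K) (r := 44) (s := 47) (by norm_num) (by decide +kernel)
      (by decide +kernel) (d := 1) (c := 1) ?_).2)
    rw [Z5, map_one] at e
    rw [← e]
    simpa using (cm_X (r := 47) (s := 44) (by decide +kernel) (1 : K) 1 1)

theorem isConj_cases (x : ↥G) (h : orderOf x = 2) :
    IsConj (⟨_, (rep_T6 hn).1⟩ : ↥G) x ∨ IsConj (⟨_, (rep_Z5 hn).1⟩ : ↥G) x := by
  rcases exists_std hn x h with ⟨k, hk, e⟩ | ⟨k, hk, e⟩
  · exact Or.inl (IsConj.symm (isConj_iff.2 ⟨⟨k, hk⟩, Subtype.ext e⟩))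
  · exact Or.inr (IsConj.symm (isConj_iff.2 ⟨⟨k, hk⟩, Subtype.ext e⟩))

theorem not_isConj :
    ¬ IsConj (⟨_, (rep_T6 hn).1⟩ : ↥G) (⟨_, (rep_Z5 hn).1⟩ : ↥G) := fun h => by
  obtain ⟨k, e⟩ := isConj_iff.1 h.symm
  exact not_rel hn ⟨k, k.2, congrArg Subtype.val e⟩

theorem involution_classes : (ConjClasses.mk '' {g : ↥G | orderOf g = 2}).ncard = 2 := by
  classical
  set T : ↥G := ⟨_, (rep_T6 hn).1⟩
  set Z : ↥G := ⟨_, (rep_Z5 hn).1⟩
  have hT : orderOf T = 2 := by rw [← Subgroup.orderOf_coe]; exact (rep_T6 hn).2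
  have hZ : orderOf Z = 2 := by rw [← Subgroup.orderOf_coe]; exact (rep_Z5 hn).2
  have himg : ConjClasses.mk '' {g : ↥G | orderOf g = 2} = {ConjClasses.mk T, ConjClasses.mk Z} := by
    refine Set.ext fun y => ⟨?_, ?_⟩
    · rintro ⟨g, hg, rfl⟩
      rcases isConj_cases hn g hg with h | h
      · exact Or.inl (ConjClasses.mk_eq_mk_iff_isConj.2 h.symm)
      · exact Or.inr (ConjClasses.mk_eq_mk_iff_isConj.2 h.symm)
    · rintro (rfl | rfl)
      exacts [⟨T, hT, rfl⟩, ⟨Z, hZ, rfl⟩]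
  rw [himg]
  exact Set.ncard_pair fun e => not_isConj hn (ConjClasses.mk_eq_mk_iff_isConj.1 e)

omit hn

theorem A5_one : A5 (th (ZMod 2) 0) (1 : ZMod 2) = t2 := by
  rw [A5, map_one, one_mul, t2, gElt]
  simp [gWord, titsGen, RankThree.W, ChevCore.word_cons, ChevCore.word_nil, X, mul_assoc]

theorem tits_involution_classes :
    (ConjClasses.mk '' {g : TitsGroup | orderOf g = 2}).ncard = 2 := by
  have hn0 : Fintype.card (ZMod 2) = 2 * (2 ^ 0 * 2 ^ 0) := by simp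
  have := halfFrob hn0
  have h0 : twistedF4 (ZMod 2) (2 ^ 0) = twistedF4 (ZMod 2) 1 := by rw [pow_zero]
  obtain ⟨hTm, hT2⟩ := rep_T6 hn0
  obtain ⟨hZm, hZ2⟩ := rep_Z5 hn0
  have hTm' : T6 (th (ZMod 2) 0) (1 : ZMod 2) ∈ G2F4 := le_of_eq h0 hTm
  have hZm' : Z5 (th (ZMod 2) 0) (1 : ZMod 2) ∈ G2F4 := le_of_eq h0 hZm
  set T : ↥G2F4 := ⟨_, hTm'⟩
  set Z : ↥G2F4 := ⟨_, hZm'⟩
  have hT : orderOf T = 2 := by rw [← Subgroup.orderOf_coe]; exact hT2
  have hZ : orderOf Z = 2 := by rw [← Subgroup.orderOf_coe]; exact hZ2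
  let ψ := MulEquiv.subgroupCongr h0
  refine classes_two_index_two derived_facts.2 t2_not_mem_derived
    (involution_mem_derived T hT) (involution_mem_derived Z hZ) ?_ ?_ hT hZ (fun x hx => ?_) fun h => ?_
  · refine Subtype.ext ?_
    show t2 * T6 _ (1 : ZMod 2) = T6 _ (1 : ZMod 2) * t2
    rw [← A5_one]
    simpa using (rT6_A5 (th (ZMod 2) 0) (1 : ZMod 2) 1 1).symm
  · refine Subtype.ext ?_
    show t2 * Z5 _ (1 : ZMod 2) = Z5 _ (1 : ZMod 2) * t2
    rw [← A5_one]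
    simpa using (rZ5_A5 (th (ZMod 2) 0) (1 : ZMod 2) 1 1).symm
  · rcases isConj_cases hn0 (ψ.symm x) (by rw [MulEquiv.orderOf_eq]; exact hx) with h | h
    · refine Or.inl ?_
      have h' := ψ.toMonoidHom.map_isConj h
      rw [show ψ.toMonoidHom (ψ.symm x) = x from ψ.apply_symm_apply x] at h'
      exact h'
    · refine Or.inr ?_
      have h' := ψ.toMonoidHom.map_isConj h
      rw [show ψ.toMonoidHom (ψ.symm x) = x from ψ.apply_symm_apply x] at h'
      exact h'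
  · refine not_isConj hn0 ?_
    have h' := ψ.symm.toMonoidHom.map_isConj h
    exact h'

end CfsgLib.Twisted.F4Uni
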