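import Cfsg.Agent.Lib.TwistedStr.F4UnipotentCoords
import Cfsg.Agent.Lib.TwistedStr.TorusF4
import Cfsg.Agent.Lib.TwistedStr.StrF4

/-!
The twisted root elements lie in `²F₄`, every element of its unipotent group has twisted coordinates,
and the representatives of the fundamental reflections permute the root elements of pair type.
-/

set_option autoImplicit false
set_option linter.unusedSectionVars false
set_option linter.unusedSimpArgs false

namespace CfsgLib.Twisted.F4Uni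

open Cfsg.Lie CfsgLib.ChevStr
open scoped MatrixGroups

/-- The pairs of roots. -/
def pairList : List (ℕ × ℕ) :=
  [(30, 28), (32, 37), (46, 40), (45, 39), (47, 44), (43, 38), (42, 36), (24, 33)]

theorem pair_facts : ∀ rs ∈ pairList, (rs : ℕ × ℕ).1 < chevF4.nroots ∧ rs.2 < chevF4.nroots ∧
    subF4.root rs.1 = rs.2 ∧ subF4.root rs.2 = rs.1 ∧ subF4.ex rs.1 = 1 ∧ subF4.ex rs.2 = 2 ∧
    rs.1 ≠ rs.2 ∧ chevF4.IsPosRoot rs.1 ∧ chevF4.IsPosRoot rs.2 ∧
    swOK rs.1 rs.2 [] = true ∧ swOK rs.2 rs.1 [] = true := by decide +kernel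

/-- The quadruples of roots. -/
def quadList : List (ℕ × ℕ × ℕ × ℕ) :=
  [(27, 25, 28, 30), (35, 31, 40, 46), (29, 41, 44, 47), (34, 26, 36, 42)]

theorem quad_facts : ∀ x ∈ quadList, ((x : ℕ × ℕ × ℕ × ℕ).1 < chevF4.nroots ∧
    x.2.1 < chevF4.nroots ∧ x.2.2.1 < chevF4.nroots ∧ x.2.2.2 < chevF4.nroots) ∧
    (subF4.root x.1 = x.2.1 ∧ subF4.root x.2.1 = x.1 ∧ subF4.root x.2.2.1 = x.2.2.2) ∧
    (subF4.ex x.1 = 2 ∧ subF4.ex x.2.1 = 1 ∧ subF4.ex x.2.2.1 = 2) ∧
    (chevF4.IsPosRoot x.1 ∧ chevF4.IsPosRoot x.2.1 ∧ chevF4.IsPosRoot x.2.2.1) ∧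
    swOK x.1 x.2.1 [(x.2.2.1, 1, 1), (x.2.2.2, 2, 1)] = true ∧ swOK x.2.2.1 x.2.2.2 [] = true := by
  decide +kernel

/-- The images of the pairs under the two turns. -/
def turnList : List (Fin 2 × (ℕ × ℕ) × ℕ × ℕ) :=
  [(0, (30, 28), 42, 36), (0, (32, 37), 43, 38), (0, (46, 40), 47, 44), (0, (45, 39), 45, 39),
    (0, (47, 44), 46, 40), (0, (43, 38), 32, 37), (0, (42, 36), 30, 28),
    (1, (32, 37), 24, 33), (1, (46, 40), 42, 36), (1, (45, 39), 43, 38), (1, (47, 44), 47, 44),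
    (1, (43, 38), 45, 39), (1, (42, 36), 46, 40), (1, (24, 33), 32, 37)]

theorem turn_facts : ∀ x ∈ turnList, (x : Fin 2 × (ℕ × ℕ) × ℕ × ℕ).2.1 ∈ pairList ∧
    x.2.2 ∈ pairList ∧
    ∃ h : x.2.1.1 < chevF4.nroots, ∃ h' : x.2.1.2 < chevF4.nroots,
      (reflDataF4.wordPerm (f4TwistWord x.1) ⟨x.2.1.1, h⟩ : ℕ) = x.2.2.1 ∧
      (reflDataF4.wordPerm (f4TwistWord x.1) ⟨x.2.1.2, h'⟩ : ℕ) = x.2.2.2 := by
  decide +kernel

variable {K : Type*} [Field K] [Fintype K] [CharP K 2] {m : ℕ}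

/-- The half of the Frobenius. -/
noncomputable def th (K : Type*) [Field K] [CharP K 2] (m : ℕ) : K →+* K :=
  haveI : ExpChar K 2 := ExpChar.prime Nat.prime_two
  iterateFrobenius K 2 m

omit [Fintype K] in
theorem th_apply (x : K) : th K m x = x ^ 2 ^ m := by
  rw [th, iterateFrobenius_def]

/-- An element of a root group of pair type. -/
noncomputable def P (m : ℕ) (r s : ℕ) (t : K) : GL chevF4.Idx K := X r t * X s (th K m t)

theorem cm_X {r s : ℕ} (h : swOK r s [] = true) (u t : K) (w : GL chevF4.Idx K) :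
    X s u * (X r t * w) = X r t * (X s u * w) := by simpa using sw_of r s [] h u t w

theorem pair_one {r s : ℕ} (h : r < s) (hr : chevF4.IsPosRoot r) (hs : chevF4.IsPosRoot s) {d c : K}
    (e : X r d * X s c = (1 : GL chevF4.Idx K)) : d = 0 ∧ c = 0 := by
  have hw := (coreF4 K).word_injective (L := [r, s]) (by simp [h]) (by simp [hr, hs])
    (fun k => if k = r then d else c) (fun _ => 0)
    (by simpa [ChevCore.word_cons, ChevCore.word_nil, h.ne', X, ChevCore.xGL_zero] using e)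
  exact ⟨by simpa using hw r (by simp), by simpa [h.ne'] using hw s (by simp)⟩

variable (hn : Fintype.card K = 2 * (2 ^ m * 2 ^ m))
include hn

theorem halfFrob : HalfFrob (th K m) := ⟨fun x => by
  rw [th_apply, th_apply, ← pow_mul, ← pow_mul,
    show 2 ^ m * (2 ^ m * 2) = 2 * (2 ^ m * 2 ^ m) by ring, ← hn, FiniteField.pow_card]⟩

theorem fixed_mem {g : GL chevF4.Idx K} (hU : g ∈ chevF4.posUnipotent K)
    (hfix : (frobF4 K m).act g = g) : g ∈ chevF4.posUnipotent K ⊓ twistedF4 K (2 ^ m) := by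
  refine Subgroup.mem_inf.2 ⟨hU, (gensF4 K hn).fixU_pos.1 (Subgroup.mem_inf.2 ⟨?_, ?_, hfix⟩)⟩
  · exact (coreF4 K).posUnipotent_eq ▸ hU
  · exact (coreF4 K).posUnipotent_le (fun r t _ => (coreF4 K).xGL_mem_group r t) hU

theorem act_X {r : ℕ} (hr : r < chevF4.nroots) (t : K) : (frobF4 K m).act (X r t) =
    X (subF4.root r) (th K m (t ^ subF4.ex r)) := by
  rw [X, X, frobF4_act K m hr, th_apply, ← pow_mul, mul_comm]

theorem act_X_mul (r s : ℕ) (t u : K) : (frobF4 K m).act (X r t * X s u) =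
    (frobF4 K m).act (X r t) * (frobF4 K m).act (X s u) :=
  (frobF4 K m).act_mul ((coreF4 K).xGL_mem_group _ _) ((coreF4 K).xGL_mem_group _ _)

theorem P_mem {r s : ℕ} (h : (r, s) ∈ pairList) (t : K) :
    P m r s t ∈ chevF4.posUnipotent K ⊓ twistedF4 K (2 ^ m) := by
  obtain ⟨hr, hs, er, es, xr, xs, -, pr, ps, h1, h2⟩ := pair_facts _ h
  have := halfFrob hn
  refine fixed_mem hn (mul_mem ((coreF4 K).xGL_mem_posUnipotent pr _)
    ((coreF4 K).xGL_mem_posUnipotent ps _)) ?_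
  rw [P, act_X_mul hn, act_X hn hr, act_X hn hs, er, es, xr, xs, pow_one, map_pow,
    th_sq (th K m)]
  simpa using cm_X h1 (th K m t) t 1

theorem Q_mem {a b ab aab : ℕ} (h : (a, b, ab, aab) ∈ quadList) (t : K) :
    X a (th K m t) * (X b t * X ab (th K m t * t)) ∈
      chevF4.posUnipotent K ⊓ twistedF4 K (2 ^ m) := by
  obtain ⟨⟨la, lb, lab, laab⟩, ⟨ra, rb, rab⟩, ⟨xa, xb, xab⟩, ⟨pa, pb, pab⟩, h1, h2⟩ := quad_facts _ h
  have := halfFrob hn
  refine fixed_mem hn (mul_mem ((coreF4 K).xGL_mem_posUnipotent pa _)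
    (mul_mem ((coreF4 K).xGL_mem_posUnipotent pb _) ((coreF4 K).xGL_mem_posUnipotent pab _))) ?_
  rw [(frobF4 K m).act_mul (a := X a (th K m t)) (b := X b t * X ab (th K m t * t))
    ((coreF4 K).xGL_mem_group _ _)
    (mul_mem ((coreF4 K).xGL_mem_group _ _) ((coreF4 K).xGL_mem_group _ _)), act_X_mul hn,
    act_X hn la, act_X hn lb, act_X hn lab, ra, rb, rab, xa, xb, xab, pow_one]
  simp only at *
  rw [map_pow, th_sq (th K m), mul_pow, map_mul, map_pow, th_sq (th K m)]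
  rw [sw_of a b _ h1 t (th K m t) (X aab (t * th K m (t ^ 2)))]
  simp only [List.foldr_cons, List.foldr_nil, pow_one]
  rw [map_pow, ← X_add, mul_comm (th K m t ^ 2) t, CharTwo.add_self_eq_zero, X_zero, mul_one]

/-- The representative of an orbit. -/
theorem turn_P {i : Fin 2} {r s r' s' : ℕ} (h : (i, (r, s), r', s') ∈ turnList) (t : K) :
    ∃ u, (t ≠ 0 → u ≠ 0) ∧ MulAut.conj ((gensF4 K hn).s i) (P m r s t) = P m r' s' u := by
  have g := gensF4 K hn
  have := halfFrob hn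
  obtain ⟨hp, hp', hr, hs, hwr, hws⟩ := turn_facts _ h
  simp only at hp hp' hr hs hwr hws
  have hw : g.wJ i = reflDataF4.wordPerm (f4TwistWord i) :=
    g.wJ_eq i ((reflDataF4.weylSub _).list_prod_mem fun x hx => by
      obtain ⟨j, hj, rfl⟩ := List.mem_map.1 hx
      exact reflDataF4.sPerm_mem_sub (f4_word_mem i j hj)) (f4_word_neg i)
  obtain ⟨u, hu⟩ := (g.s_moves i).2 ⟨r, hr⟩ t
  obtain ⟨v, hv⟩ := (g.s_moves i).2 ⟨s, hs⟩ (th K m t)
  rw [hw, hwr] at hu
  rw [hw, hws] at hv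
  have himg : MulAut.conj (g.s i) (P m r s t) = X r' u * X s' v := by
    rw [P, map_mul, MulAut.conj_apply, MulAut.conj_apply]
    exact congrArg₂ (· * ·) hu hv
  obtain ⟨hr', hs', er, es, xr, xs, hne, pr, ps, h1, h2⟩ := pair_facts _ hp'
  simp only at hr' hs' er es xr xs hne pr ps h1 h2
  have hfix : (frobF4 K m).act (X r' u * X s' v) = X r' u * X s' v := by
    rw [← himg, MulAut.conj_apply]
    have hm : g.s i * P m r s t * (g.s i)⁻¹ ∈ (frobF4 K m).fixedSub :=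
      g.le_fixed (mul_mem (mul_mem (g.s_mem i) (Subgroup.mem_inf.1 (P_mem hn hp t)).2)
        (inv_mem (g.s_mem i)))
    exact hm.2
  rw [act_X_mul hn, act_X hn hr', act_X hn hs', er, es, xr, xs, pow_one] at hfix
  have hc : ∀ x y : K, X s' x * X r' y = X r' y * X s' x := fun x y => by
    simpa using cm_X h1 x y 1
  have hv' : v = th K m u := by
    rw [hc] at hfix
    have e : X r' (th K m (v ^ 2) + u) * X s' (th K m u + v) = (1 : GL chevF4.Idx K) := by
      rw [X_add r', X_add s',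
        show X r' (th K m (v ^ 2)) * X r' u * (X s' (th K m u) * X s' v) =
          X r' (th K m (v ^ 2)) * (X r' u * X s' (th K m u)) * X s' v by group,
        ← hc (th K m u) u, ← mul_assoc, hfix,
        show X r' u * X s' v * X r' u * X s' v = X r' u * (X s' v * X r' u) * X s' v by group, hc,
        show X r' u * (X r' u * X s' v) * X s' v = X r' u * X r' u * (X s' v * X s' v) by group,
        ← X_add, ← X_add, CharTwo.add_self_eq_zero, CharTwo.add_self_eq_zero, X_zero, X_zero, mul_one]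
    rcases lt_or_gt_of_ne hne with hlt | hlt
    · exact (CharTwo.add_eq_zero.1 (pair_one hlt pr ps e).2).symm
    · rw [← hc] at e
      exact (CharTwo.add_eq_zero.1 (pair_one hlt ps pr e).1).symm
  refine ⟨u, fun ht h0 => ht ?_, by rw [himg, hv', P]⟩
  subst h0
  rw [(coreF4 K).xGL_zero] at hu
  exact ((coreF4 K).xGL_eq_one_iff hr).1 (conj_eq_one_iff.1 hu)

theorem E_mem (a1 w1 b2 b3 c3 b4 b5 c5 b6 b7 c7 b8 : K) :
    E (th K m) a1 w1 b2 b3 c3 b4 b5 c5 b6 b7 c7 b8 ∈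
      chevF4.posUnipotent K ⊓ twistedF4 K (2 ^ m) := by
  have hP : ∀ r s, (r, s) ∈ pairList → ∀ t : K, P m r s t ∈
      chevF4.posUnipotent K ⊓ twistedF4 K (2 ^ m) := fun r s h t => P_mem hn h t
  have hQ : ∀ a b ab aab, (a, b, ab, aab) ∈ quadList → ∀ t : K,
      X a (th K m t) * (X b t * X ab (th K m t * t)) ∈
        chevF4.posUnipotent K ⊓ twistedF4 K (2 ^ m) := fun a b ab aab h t => Q_mem hn h t
  simp only [E, A1, Z1, T2, A3, Z3, T4, A5, Z5, T6, A7, Z7, T8]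
  exact mul_mem (hQ 27 25 28 30 (by simp [quadList]) a1) (mul_mem (hP 30 28 (by simp [pairList]) w1)
    (mul_mem (hP 32 37 (by simp [pairList]) b2) (mul_mem (hQ 35 31 40 46 (by simp [quadList]) b3)
    (mul_mem (hP 46 40 (by simp [pairList]) c3) (mul_mem (hP 45 39 (by simp [pairList]) b4)
    (mul_mem (hQ 29 41 44 47 (by simp [quadList]) b5) (mul_mem (hP 47 44 (by simp [pairList]) c5)
    (mul_mem (hP 43 38 (by simp [pairList]) b6) (mul_mem (hQ 34 26 36 42 (by simp [quadList]) b7)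
    (mul_mem (hP 42 36 (by simp [pairList]) c7) (mul_mem (hP 24 33 (by simp [pairList]) b8)
    (one_mem _))))))))))))

theorem card_U : Nat.card ↥(chevF4.posUnipotent K ⊓ twistedF4 K (2 ^ m)) = Nat.card K ^ 12 := by
  refine Nat.pow_left_injective (show 2 ≠ 0 by norm_num) ?_
  show _ ^ 2 = _ ^ 2
  rw [(gensF4 K hn).card_U1, ncard_isPosRoot (N := 24) (by decide +kernel), ← pow_mul]

theorem exists_E {u : GL chevF4.Idx K} (hu : u ∈ chevF4.posUnipotent K ⊓ twistedF4 K (2 ^ m)) :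
    ∃ a1 w1 b2 b3 c3 b4 b5 c5 b6 b7 c7 b8,
      u = E (th K m) a1 w1 b2 b3 c3 b4 b5 c5 b6 b7 c7 b8 := by
  have := halfFrob hn
  set U := chevF4.posUnipotent K ⊓ twistedF4 K (2 ^ m)
  let f : (Fin 12 → K) → ↥U := fun c =>
    ⟨E (th K m) (c 0) (c 1) (c 2) (c 3) (c 4) (c 5) (c 6) (c 7) (c 8) (c 9) (c 10) (c 11),
      E_mem hn _ _ _ _ _ _ _ _ _ _ _ _⟩
  have hf : Function.Injective f := fun c d h => by
    obtain ⟨h0, h1, h2, h3, h4, h5, h6, h7, h8, h9, h10, h11⟩ :=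
      E_inj (th K m) (congrArg Subtype.val h)
    funext i; fin_cases i <;> assumption
  have hb : Function.Bijective f := (Nat.bijective_iff_injective_and_card f).2 ⟨hf, by
    rw [card_U hn, Nat.card_fun, Nat.card_eq_fintype_card (α := Fin 12), Fintype.card_fin]⟩
  obtain ⟨c, hc⟩ := hb.2 ⟨u, hu⟩
  exact ⟨_, _, _, _, _, _, _, _, _, _, _, _, (congrArg Subtype.val hc).symm⟩

end CfsgLib.Twisted.F4Uni
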