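import Cfsg.Agent.Lib.TwistedStr.F4UnipotentRules

/-!
Ordered twisted coordinates on the unipotent group of `²F₄` and the formulas used for the involutions.
-/

set_option maxHeartbeats 4000000

set_option autoImplicit false
set_option linter.unusedSectionVars false
set_option linter.unusedSimpArgs false
set_option linter.unreachableTactic false
set_option linter.unusedTactic false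

namespace CfsgLib.Twisted.F4Uni

open Cfsg.Lie CfsgLib.ChevStr
open scoped MatrixGroups


variable {F : Type*} [Field F] [CharP F 2] (θ : F →+* F) [hθ : HalfFrob θ]

attribute [local irreducible] A1 Z1 T2 A3 Z3 T4 A5 Z5 T6 A7 Z7 T8

/-- The element with the given coordinates. -/
noncomputable def E (a1 w1 b2 b3 c3 b4 b5 c5 b6 b7 c7 b8 : F) : GL chevF4.Idx F :=
  A1 θ a1 * (Z1 θ w1 * (T2 θ b2 * (A3 θ b3 * (Z3 θ c3 * (T4 θ b4 * (A5 θ b5 * (Z5 θ c5 * (T6 θ b6 * (A7 θ b7 * (Z7 θ c7 * (T8 θ b8 * 1)))))))))))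

theorem E_zero : E θ (0 : F) 0 0 0 0 0 0 0 0 0 0 0 = 1 := by
  simp [E, A1_zero, Z1_zero, T2_zero, A3_zero, Z3_zero, T4_zero, A5_zero, Z5_zero, T6_zero, A7_zero, Z7_zero, T8_zero]

omit hθ in
theorem E_congr {a1 w1 b2 b3 c3 b4 b5 c5 b6 b7 c7 b8 A1' W1' B2' B3' C3' B4' B5' C5' B6' B7' C7' B8' : F}
    (h0 : a1 = A1') (h1 : w1 = W1') (h2 : b2 = B2') (h3 : b3 = B3') (h4 : c3 = C3') (h5 : b4 = B4') (h6 : b5 = B5') (h7 : c5 = C5') (h8 : b6 = B6') (h9 : b7 = B7') (h10 : c7 = C7') (h11 : b8 = B8') :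
    E θ a1 w1 b2 b3 c3 b4 b5 c5 b6 b7 c7 b8 = E θ A1' W1' B2' B3' C3' B4' B5' C5' B6' B7' C7' B8' := by
  rw [h0, h1, h2, h3, h4, h5, h6, h7, h8, h9, h10, h11]

theorem conj_T8_A (w1 b2 b3 c3 b4 b5 c5 b6 c7 s : F) :
    T8 θ s * (E θ 0 w1 b2 b3 c3 b4 b5 c5 b6 0 c7 0) * (T8 θ s * 1) =
      E θ 0 w1 (ph θ w1 * s + b2) (b3 + s * w1) (ph θ b3 * s * w1 + ph θ s * ph θ w1 * s * w1 + ph θ s * b2 * w1 + c3) (ph θ b2 * s + ph θ s * b3 * w1 + ph θ s * s * w1 * w1 + b4) (ph θ s * w1 + b5) (ph θ b3 * b3 * s + ph θ b5 * ph θ s * w1 + ph θ s * ph θ w1 * b3 * s + ph θ s * b2 * b3 + ph θ s * b2 * s * w1 + c3 * s + c5) (ph θ b3 * s + ph θ s * ph θ w1 * s + ph θ s * b2 + b6) 0 (ph θ s * b3 + ph θ s * s * w1 + b5 * s + c7) 0 := by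
  rw [← mul_one (T8 θ s * _ * _), ← mul_one (E θ _ _ _ _ _ _ _ _ _ _ _ _)]
  rw [← E_zero θ]
  simp only [E, mul_assoc, one_mul, ph_mul, ph_add, ph_ph, ph_zero, rZ1_A1, rT2_A1, rA3_A1, rZ3_A1, rT4_A1, rA5_A1, rZ5_A1, rT6_A1, rA7_A1, rZ7_A1, rT8_A1, rT2_Z1, rA3_Z1, rZ3_Z1, rT4_Z1, rA5_Z1, rZ5_Z1, rT6_Z1, rA7_Z1, rZ7_Z1, rT8_Z1, rA3_T2, rZ3_T2, rT4_T2, rA5_T2, rZ5_T2, rT6_T2, rA7_T2, rZ7_T2, rT8_T2, rZ3_A3, rT4_A3, rA5_A3, rZ5_A3, rT6_A3, rA7_A3, rZ7_A3, rT8_A3, rT4_Z3, rA5_Z3, rZ5_Z3, rT6_Z3, rA7_Z3, rZ7_Z3, rT8_Z3, rA5_T4, rZ5_T4, rT6_T4, rA7_T4, rZ7_T4, rT8_T4, rZ5_A5, rT6_A5, rA7_A5, rZ7_A5, rT8_A5, rT6_Z5, rA7_Z5, rZ7_Z5, rT8_Z5, rA7_T6, rZ7_T6, rT8_T6, rZ7_A7, rT8_A7, rT8_Z7, mA1, mZ1, mT2, mA3, mZ3, mT4, mA5, mZ5, mT6, mA7, mZ7, mT8]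
  all_goals (repeat' refine mul_congr ?_ ?_)
  all_goals first
    | rfl
    | (refine congrArg _ ?_; ring1)
    | (refine congrArg _ ?_; rw [← sub_eq_zero, CharTwo.sub_eq_add]; ring_nf;
       simp [num_char_two]; done)

theorem conj_A7_A (w1 b2 c3 b4 b5 c5 b6 c7 s : F) :
    A7 θ s * (E θ 0 w1 b2 0 c3 b4 b5 c5 b6 0 c7 0) * (A7 θ s * (Z7 θ (ph θ s * s) * 1)) =
      E θ 0 w1 (b2 + s * w1) 0 (ph θ b2 * s + c3) (ph θ s * b2 + ph θ s * s * w1 + b4) b5 (ph θ s * s * s * w1 + b4 * s + c5) (b5 * s + b6) 0 c7 0 := by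
  rw [← mul_one (A7 θ s * _ * _), ← mul_one (E θ _ _ _ _ _ _ _ _ _ _ _ _)]
  rw [← E_zero θ]
  simp only [E, mul_assoc, one_mul, ph_mul, ph_add, ph_ph, ph_zero, rZ1_A1, rT2_A1, rA3_A1, rZ3_A1, rT4_A1, rA5_A1, rZ5_A1, rT6_A1, rA7_A1, rZ7_A1, rT8_A1, rT2_Z1, rA3_Z1, rZ3_Z1, rT4_Z1, rA5_Z1, rZ5_Z1, rT6_Z1, rA7_Z1, rZ7_Z1, rT8_Z1, rA3_T2, rZ3_T2, rT4_T2, rA5_T2, rZ5_T2, rT6_T2, rA7_T2, rZ7_T2, rT8_T2, rZ3_A3, rT4_A3, rA5_A3, rZ5_A3, rT6_A3, rA7_A3, rZ7_A3, rT8_A3, rT4_Z3, rA5_Z3, rZ5_Z3, rT6_Z3, rA7_Z3, rZ7_Z3, rT8_Z3, rA5_T4, rZ5_T4, rT6_T4, rA7_T4, rZ7_T4, rT8_T4, rZ5_A5, rT6_A5, rA7_A5, rZ7_A5, rT8_A5, rT6_Z5, rA7_Z5, rZ7_Z5, rT8_Z5, rA7_T6, rZ7_T6, rT8_T6, rZ7_A7, rT8_A7, rT8_Z7, mA1, mZ1, mT2, mA3, mZ3, mT4, mA5, mZ5, mT6, mA7, mZ7, mT8]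
  all_goals (repeat' refine mul_congr ?_ ?_)
  all_goals first
    | rfl
    | (refine congrArg _ ?_; ring1)
    | (refine congrArg _ ?_; rw [← sub_eq_zero, CharTwo.sub_eq_add]; ring_nf;
       simp [num_char_two]; done)

theorem conj_Z7_A (w1 c3 b4 c5 s : F) :
    Z7 θ s * (E θ 0 w1 0 0 c3 b4 0 c5 0 0 0 0) * (Z7 θ s * 1) =
      E θ 0 w1 0 0 (ph θ w1 * s + c3) (b4 + s * w1) 0 (ph θ s * w1 + c5) 0 0 0 0 := by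
  rw [← mul_one (Z7 θ s * _ * _), ← mul_one (E θ _ _ _ _ _ _ _ _ _ _ _ _)]
  rw [← E_zero θ]
  simp only [E, mul_assoc, one_mul, ph_mul, ph_add, ph_ph, ph_zero, rZ1_A1, rT2_A1, rA3_A1, rZ3_A1, rT4_A1, rA5_A1, rZ5_A1, rT6_A1, rA7_A1, rZ7_A1, rT8_A1, rT2_Z1, rA3_Z1, rZ3_Z1, rT4_Z1, rA5_Z1, rZ5_Z1, rT6_Z1, rA7_Z1, rZ7_Z1, rT8_Z1, rA3_T2, rZ3_T2, rT4_T2, rA5_T2, rZ5_T2, rT6_T2, rA7_T2, rZ7_T2, rT8_T2, rZ3_A3, rT4_A3, rA5_A3, rZ5_A3, rT6_A3, rA7_A3, rZ7_A3, rT8_A3, rT4_Z3, rA5_Z3, rZ5_Z3, rT6_Z3, rA7_Z3, rZ7_Z3, rT8_Z3, rA5_T4, rZ5_T4, rT6_T4, rA7_T4, rZ7_T4, rT8_T4, rZ5_A5, rT6_A5, rA7_A5, rZ7_A5, rT8_A5, rT6_Z5, rA7_Z5, rZ7_Z5, rT8_Z5, rA7_T6, rZ7_T6, rT8_T6, rZ7_A7, rT8_A7, rT8_Z7, mA1, mZ1, mT2, mA3, mZ3, mT4, mA5, mZ5, mT6, mA7, mZ7, mT8]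
  all_goals (repeat' refine mul_congr ?_ ?_)
  all_goals first
    | rfl
    | (refine congrArg _ ?_; ring1)
    | (refine congrArg _ ?_; rw [← sub_eq_zero, CharTwo.sub_eq_add]; ring_nf;
       simp [num_char_two]; done)

theorem conj_T6_A (w1 c3 c5 s : F) :
    T6 θ s * (E θ 0 w1 0 0 c3 0 0 c5 0 0 0 0) * (T6 θ s * 1) =
      E θ 0 w1 0 0 (c3 + s * w1) 0 0 c5 0 0 0 0 := by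
  rw [← mul_one (T6 θ s * _ * _), ← mul_one (E θ _ _ _ _ _ _ _ _ _ _ _ _)]
  rw [← E_zero θ]
  simp only [E, mul_assoc, one_mul, ph_mul, ph_add, ph_ph, ph_zero, rZ1_A1, rT2_A1, rA3_A1, rZ3_A1, rT4_A1, rA5_A1, rZ5_A1, rT6_A1, rA7_A1, rZ7_A1, rT8_A1, rT2_Z1, rA3_Z1, rZ3_Z1, rT4_Z1, rA5_Z1, rZ5_Z1, rT6_Z1, rA7_Z1, rZ7_Z1, rT8_Z1, rA3_T2, rZ3_T2, rT4_T2, rA5_T2, rZ5_T2, rT6_T2, rA7_T2, rZ7_T2, rT8_T2, rZ3_A3, rT4_A3, rA5_A3, rZ5_A3, rT6_A3, rA7_A3, rZ7_A3, rT8_A3, rT4_Z3, rA5_Z3, rZ5_Z3, rT6_Z3, rA7_Z3, rZ7_Z3, rT8_Z3, rA5_T4, rZ5_T4, rT6_T4, rA7_T4, rZ7_T4, rT8_T4, rZ5_A5, rT6_A5, rA7_A5, rZ7_A5, rT8_A5, rT6_Z5, rA7_Z5, rZ7_Z5, rT8_Z5, rA7_T6, rZ7_T6, rT8_T6, rZ7_A7, rT8_A7, rT8_Z7, mA1, mZ1, mT2, mA3, mZ3, mT4, mA5, mZ5, mT6, mA7, mZ7, mT8]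
  all_goals (repeat' refine mul_congr ?_ ?_)
  all_goals first
    | rfl
    | (refine congrArg _ ?_; ring1)
    | (refine congrArg _ ?_; rw [← sub_eq_zero, CharTwo.sub_eq_add]; ring_nf;
       simp [num_char_two]; done)

theorem conj_A1_B (b2 b3 c3 b4 b5 c5 b6 b7 c7 b8 s : F) :
    A1 θ s * (E θ 0 0 b2 b3 c3 b4 b5 c5 b6 b7 c7 b8) * (A1 θ s * (Z1 θ (ph θ s * s) * 1)) =
      E θ 0 0 (ph θ s * b8 * s * s + b2 + b3 * s) (ph θ s * b7 + ph θ s * b8 * s + b3) (ph θ b7 * ph θ s * b8 * s * s * s + ph θ b7 * b3 * s * s + ph θ b8 * ph θ s * b3 * s * s + ph θ s * b5 * b8 * s * s + ph θ s * c7 * s * s + b4 * s + c3) (ph θ b7 * ph θ s * b7 * s + ph θ b8 * ph θ s * ph θ s * b8 * s * s + ph θ s * b5 * b7 + ph θ s * b5 * b8 * s + ph θ s * b6 + ph θ s * c7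 * s + b4) (ph θ b7 * s + b5) (ph θ b6 * s + ph θ b7 * ph θ s * b7 * b7 * s + ph θ b8 * ph θ s * ph θ s * b7 * b8 * s * s + ph θ b8 * ph θ s * ph θ s * b8 * b8 * s * s * s + ph θ s * b5 * b7 * b7 + ph θ s * b6 * b7 + ph θ s * b6 * b8 * s + ph θ s * b7 * c7 * s + c5) (ph θ b8 * ph θ s * b8 * s * s + b6 + c7 * s) (b7 + b8 * s) (ph θ b8 * ph θ s * b7 + ph θ b8 * ph θ s * b8 * s + c7) b8 := by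
  rw [← mul_one (A1 θ s * _ * _), ← mul_one (E θ _ _ _ _ _ _ _ _ _ _ _ _)]
  rw [← E_zero θ]
  simp only [E, mul_assoc, one_mul, ph_mul, ph_add, ph_ph, ph_zero, rZ1_A1, rT2_A1, rA3_A1, rZ3_A1, rT4_A1, rA5_A1, rZ5_A1, rT6_A1, rA7_A1, rZ7_A1, rT8_A1, rT2_Z1, rA3_Z1, rZ3_Z1, rT4_Z1, rA5_Z1, rZ5_Z1, rT6_Z1, rA7_Z1, rZ7_Z1, rT8_Z1, rA3_T2, rZ3_T2, rT4_T2, rA5_T2, rZ5_T2, rT6_T2, rA7_T2, rZ7_T2, rT8_T2, rZ3_A3, rT4_A3, rA5_A3, rZ5_A3, rT6_A3, rA7_A3, rZ7_A3, rT8_A3, rT4_Z3, rA5_Z3, rZ5_Z3, rT6_Z3, rA7_Z3, rZ7_Z3, rT8_Z3, rA5_T4, rZ5_T4, rT6_T4, rA7_T4, rZ7_T4, rT8_T4, rZ5_A5, rT6_A5, rA7_A5, rZ7_A5, rT8_A5, rT6_Z5, rA7_Z5, rZ7_Z5, rT8_Z5, rA7_T6, rZ7_T6, rT8_T6, rZ7_A7, rT8_A7, rT8_Z7, mA1, mZ1, mT2, mA3, mZ3, mT4, mA5, mZ5, mT6, mA7, mZ7, mT8]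
  all_goals (repeat' refine mul_congr ?_ ?_)
  all_goals first
    | rfl
    | (refine congrArg _ ?_; ring1)
    | (refine congrArg _ ?_; rw [← sub_eq_zero, CharTwo.sub_eq_add]; ring_nf;
       simp [num_char_two]; done)

theorem conj_Z1_B (b2 b3 c3 b4 b5 c5 b6 c7 b8 s : F) :
    Z1 θ s * (E θ 0 0 b2 b3 c3 b4 b5 c5 b6 0 c7 b8) * (Z1 θ s * 1) =
      E θ 0 0 (ph θ s * b8 + b2) (b3 + b8 * s) (ph θ b8 * ph θ s * b3 + ph θ b8 * ph θ s * b8 * s + ph θ s * b5 * b8 + ph θ s * c7 + b6 * s + c3) (ph θ b8 * b8 * s * s + b4 + b5 * b8 * s + c7 * s) (ph θ b8 * s + b5) (ph θ c7 * s + ph θ s * b5 * b8 * b8 + ph θ s * b8 * c7 + b6 * b8 * s + c5) (ph θ b8 * ph θ s * b8 + b6) 0 (ph θ b8 * b8 * s + c7) b8 := by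
  rw [← mul_one (Z1 θ s * _ * _), ← mul_one (E θ _ _ _ _ _ _ _ _ _ _ _ _)]
  rw [← E_zero θ]
  simp only [E, mul_assoc, one_mul, ph_mul, ph_add, ph_ph, ph_zero, rZ1_A1, rT2_A1, rA3_A1, rZ3_A1, rT4_A1, rA5_A1, rZ5_A1, rT6_A1, rA7_A1, rZ7_A1, rT8_A1, rT2_Z1, rA3_Z1, rZ3_Z1, rT4_Z1, rA5_Z1, rZ5_Z1, rT6_Z1, rA7_Z1, rZ7_Z1, rT8_Z1, rA3_T2, rZ3_T2, rT4_T2, rA5_T2, rZ5_T2, rT6_T2, rA7_T2, rZ7_T2, rT8_T2, rZ3_A3, rT4_A3, rA5_A3, rZ5_A3, rT6_A3, rA7_A3, rZ7_A3, rT8_A3, rT4_Z3, rA5_Z3, rZ5_Z3, rT6_Z3, rA7_Z3, rZ7_Z3, rT8_Z3, rA5_T4, rZ5_T4, rT6_T4, rA7_T4, rZ7_T4, rT8_T4, rZ5_A5, rT6_A5, rA7_A5, rZ7_A5, rT8_A5, rT6_Z5, rA7_Z5, rZ7_Z5, rT8_Z5, rA7_T6, rZ7_T6, rT8_T6, rZ7_A7, rT8_A7, rT8_Z7, mA1, mZ1, mT2, mA3, mZ3, mT4, mA5, mZ5, mT6, mA7, mZ7, mT8]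
  all_goals (repeat' refine mul_congr ?_ ?_)
  all_goals first
    | rfl
    | (refine congrArg _ ?_; ring1)
    | (refine congrArg _ ?_; rw [← sub_eq_zero, CharTwo.sub_eq_add]; ring_nf;
       simp [num_char_two]; done)

theorem conj_T8_E (b2 c3 b4 c5 b6 s : F) :
    T8 θ s * (E θ 0 0 b2 0 c3 b4 0 c5 b6 0 0 0) * (T8 θ s * 1) =
      E θ 0 0 b2 0 c3 (ph θ b2 * s + b4) 0 (c3 * s + c5) (ph θ s * b2 + b6) 0 0 0 := by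
  rw [← mul_one (T8 θ s * _ * _), ← mul_one (E θ _ _ _ _ _ _ _ _ _ _ _ _)]
  rw [← E_zero θ]
  simp only [E, mul_assoc, one_mul, ph_mul, ph_add, ph_ph, ph_zero, rZ1_A1, rT2_A1, rA3_A1, rZ3_A1, rT4_A1, rA5_A1, rZ5_A1, rT6_A1, rA7_A1, rZ7_A1, rT8_A1, rT2_Z1, rA3_Z1, rZ3_Z1, rT4_Z1, rA5_Z1, rZ5_Z1, rT6_Z1, rA7_Z1, rZ7_Z1, rT8_Z1, rA3_T2, rZ3_T2, rT4_T2, rA5_T2, rZ5_T2, rT6_T2, rA7_T2, rZ7_T2, rT8_T2, rZ3_A3, rT4_A3, rA5_A3, rZ5_A3, rT6_A3, rA7_A3, rZ7_A3, rT8_A3, rT4_Z3, rA5_Z3, rZ5_Z3, rT6_Z3, rA7_Z3, rZ7_Z3, rT8_Z3, rA5_T4, rZ5_T4, rT6_T4, rA7_T4, rZ7_T4, rT8_T4, rZ5_A5, rT6_A5, rA7_A5, rZ7_A5, rT8_A5, rT6_Z5, rA7_Z5, rZ7_Z5, rT8_Z5, rA7_T6, rZ7_T6, rT8_T6, rZ7_A7, rT8_A7, rT8_Z7, mA1, mZ1, mT2, mA3, mZ3, mT4, mA5, mZ5, mT6, mA7, mZ7, mT8]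
  all_goals (repeat' refine mul_congr ?_ ?_)
  all_goals first
    | rfl
    | (refine congrArg _ ?_; ring1)
    | (refine congrArg _ ?_; rw [← sub_eq_zero, CharTwo.sub_eq_add]; ring_nf;
       simp [num_char_two]; done)

theorem conj_A7_E (b2 c3 b4 c5 s : F) :
    A7 θ s * (E θ 0 0 b2 0 c3 b4 0 c5 0 0 0 0) * (A7 θ s * (Z7 θ (ph θ s * s) * 1)) =
      E θ 0 0 b2 0 (ph θ b2 * s + c3) (ph θ s * b2 + b4) 0 (b4 * s + c5) 0 0 0 0 := by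
  rw [← mul_one (A7 θ s * _ * _), ← mul_one (E θ _ _ _ _ _ _ _ _ _ _ _ _)]
  rw [← E_zero θ]
  simp only [E, mul_assoc, one_mul, ph_mul, ph_add, ph_ph, ph_zero, rZ1_A1, rT2_A1, rA3_A1, rZ3_A1, rT4_A1, rA5_A1, rZ5_A1, rT6_A1, rA7_A1, rZ7_A1, rT8_A1, rT2_Z1, rA3_Z1, rZ3_Z1, rT4_Z1, rA5_Z1, rZ5_Z1, rT6_Z1, rA7_Z1, rZ7_Z1, rT8_Z1, rA3_T2, rZ3_T2, rT4_T2, rA5_T2, rZ5_T2, rT6_T2, rA7_T2, rZ7_T2, rT8_T2, rZ3_A3, rT4_A3, rA5_A3, rZ5_A3, rT6_A3, rA7_A3, rZ7_A3, rT8_A3, rT4_Z3, rA5_Z3, rZ5_Z3, rT6_Z3, rA7_Z3, rZ7_Z3, rT8_Z3, rA5_T4, rZ5_T4, rT6_T4, rA7_T4, rZ7_T4, rT8_T4, rZ5_A5, rT6_A5, rA7_A5, rZ7_A5, rT8_A5, rT6_Z5, rA7_Z5, rZ7_Z5, rT8_Z5, rA7_T6, rZ7_T6, rT8_T6, rZ7_A7, rT8_A7, rT8_Z7, mA1, mZ1, mT2, mA3, mZ3, mT4, mA5, mZ5, mT6, mA7, mZ7, mT8]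
  all_goals (repeat' refine mul_congr ?_ ?_)
  all_goals first
    | rfl
    | (refine congrArg _ ?_; ring1)
    | (refine congrArg _ ?_; rw [← sub_eq_zero, CharTwo.sub_eq_add]; ring_nf;
       simp [num_char_two]; done)

theorem conj_A5_E (b2 c3 c5 s : F) :
    A5 θ s * (E θ 0 0 b2 0 c3 0 0 c5 0 0 0 0) * (A5 θ s * (Z5 θ (ph θ s * s) * 1)) =
      E θ 0 0 b2 0 (b2 * s + c3) 0 0 c5 0 0 0 0 := by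
  rw [← mul_one (A5 θ s * _ * _), ← mul_one (E θ _ _ _ _ _ _ _ _ _ _ _ _)]
  rw [← E_zero θ]
  simp only [E, mul_assoc, one_mul, ph_mul, ph_add, ph_ph, ph_zero, rZ1_A1, rT2_A1, rA3_A1, rZ3_A1, rT4_A1, rA5_A1, rZ5_A1, rT6_A1, rA7_A1, rZ7_A1, rT8_A1, rT2_Z1, rA3_Z1, rZ3_Z1, rT4_Z1, rA5_Z1, rZ5_Z1, rT6_Z1, rA7_Z1, rZ7_Z1, rT8_Z1, rA3_T2, rZ3_T2, rT4_T2, rA5_T2, rZ5_T2, rT6_T2, rA7_T2, rZ7_T2, rT8_T2, rZ3_A3, rT4_A3, rA5_A3, rZ5_A3, rT6_A3, rA7_A3, rZ7_A3, rT8_A3, rT4_Z3, rA5_Z3, rZ5_Z3, rT6_Z3, rA7_Z3, rZ7_Z3, rT8_Z3, rA5_T4, rZ5_T4, rT6_T4, rA7_T4, rZ7_T4, rT8_T4, rZ5_A5, rT6_A5, rA7_A5, rZ7_A5, rT8_A5, rT6_Z5, rA7_Z5, rZ7_Z5, rT8_Z5, rA7_T6, rZ7_T6, rT8_T6, rZ7_A7, rT8_A7, rT8_Z7, mA1, mZ1, mT2, mA3, mZ3, mT4, mA5, mZ5, mT6, mA7, mZ7, mT8]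
  all_goals (repeat' refine mul_congr ?_ ?_)
  all_goals first
    | rfl
    | (refine congrArg _ ?_; ring1)
    | (refine congrArg _ ?_; rw [← sub_eq_zero, CharTwo.sub_eq_add]; ring_nf;
       simp [num_char_two]; done)

theorem conj_Z7_E (b2 c5 s : F) :
    Z7 θ s * (E θ 0 0 b2 0 0 0 0 c5 0 0 0 0) * (Z7 θ s * 1) =
      E θ 0 0 b2 0 0 0 0 (b2 * s + c5) 0 0 0 0 := by
  rw [← mul_one (Z7 θ s * _ * _), ← mul_one (E θ _ _ _ _ _ _ _ _ _ _ _ _)]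
  rw [← E_zero θ]
  simp only [E, mul_assoc, one_mul, ph_mul, ph_add, ph_ph, ph_zero, rZ1_A1, rT2_A1, rA3_A1, rZ3_A1, rT4_A1, rA5_A1, rZ5_A1, rT6_A1, rA7_A1, rZ7_A1, rT8_A1, rT2_Z1, rA3_Z1, rZ3_Z1, rT4_Z1, rA5_Z1, rZ5_Z1, rT6_Z1, rA7_Z1, rZ7_Z1, rT8_Z1, rA3_T2, rZ3_T2, rT4_T2, rA5_T2, rZ5_T2, rT6_T2, rA7_T2, rZ7_T2, rT8_T2, rZ3_A3, rT4_A3, rA5_A3, rZ5_A3, rT6_A3, rA7_A3, rZ7_A3, rT8_A3, rT4_Z3, rA5_Z3, rZ5_Z3, rT6_Z3, rA7_Z3, rZ7_Z3, rT8_Z3, rA5_T4, rZ5_T4, rT6_T4, rA7_T4, rZ7_T4, rT8_T4, rZ5_A5, rT6_A5, rA7_A5, rZ7_A5, rT8_A5, rT6_Z5, rA7_Z5, rZ7_Z5, rT8_Z5, rA7_T6, rZ7_T6, rT8_T6, rZ7_A7, rT8_A7, rT8_Z7, mA1, mZ1, mT2, mA3, mZ3, mT4, mA5, mZ5, mT6, mA7, mZ7, mT8]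
  all_goals (repeat' refine mul_congr ?_ ?_)
  all_goals first
    | rfl
    | (refine congrArg _ ?_; ring1)
    | (refine congrArg _ ?_; rw [← sub_eq_zero, CharTwo.sub_eq_add]; ring_nf;
       simp [num_char_two]; done)

theorem conj_Z1_F (c3 c7 s : F) :
    Z1 θ s * (E θ 0 0 0 0 c3 0 0 0 0 0 c7 0) * (Z1 θ s * 1) =
      E θ 0 0 0 0 (ph θ s * c7 + c3) (c7 * s) 0 (ph θ c7 * s) 0 0 c7 0 := by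
  rw [← mul_one (Z1 θ s * _ * _), ← mul_one (E θ _ _ _ _ _ _ _ _ _ _ _ _)]
  rw [← E_zero θ]
  simp only [E, mul_assoc, one_mul, ph_mul, ph_add, ph_ph, ph_zero, rZ1_A1, rT2_A1, rA3_A1, rZ3_A1, rT4_A1, rA5_A1, rZ5_A1, rT6_A1, rA7_A1, rZ7_A1, rT8_A1, rT2_Z1, rA3_Z1, rZ3_Z1, rT4_Z1, rA5_Z1, rZ5_Z1, rT6_Z1, rA7_Z1, rZ7_Z1, rT8_Z1, rA3_T2, rZ3_T2, rT4_T2, rA5_T2, rZ5_T2, rT6_T2, rA7_T2, rZ7_T2, rT8_T2, rZ3_A3, rT4_A3, rA5_A3, rZ5_A3, rT6_A3, rA7_A3, rZ7_A3, rT8_A3, rT4_Z3, rA5_Z3, rZ5_Z3, rT6_Z3, rA7_Z3, rZ7_Z3, rT8_Z3, rA5_T4, rZ5_T4, rT6_T4, rA7_T4, rZ7_T4, rT8_T4, rZ5_A5, rT6_A5, rA7_A5, rZ7_A5, rT8_A5, rT6_Z5, rA7_Z5, rZ7_Z5, rT8_Z5, rA7_T6, rZ7_T6, rT8_T6, rZ7_A7, rT8_A7, rT8_Z7, mA1, mZ1, mT2, mA3, mZ3, mT4, mA5, mZ5, mT6, mA7, mZ7, mT8]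
  all_goals (repeat' refine mul_congr ?_ ?_)
  all_goals first
    | rfl
    | (refine congrArg _ ?_; ring1)
    | (refine congrArg _ ?_; rw [← sub_eq_zero, CharTwo.sub_eq_add]; ring_nf;
       simp [num_char_two]; done)

theorem conj_A7_F (b4 c5 c7 s : F) :
    A7 θ s * (E θ 0 0 0 0 0 b4 0 c5 0 0 c7 0) * (A7 θ s * (Z7 θ (ph θ s * s) * 1)) =
      E θ 0 0 0 0 0 b4 0 (b4 * s + c5) 0 0 c7 0 := by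
  rw [← mul_one (A7 θ s * _ * _), ← mul_one (E θ _ _ _ _ _ _ _ _ _ _ _ _)]
  rw [← E_zero θ]
  simp only [E, mul_assoc, one_mul, ph_mul, ph_add, ph_ph, ph_zero, rZ1_A1, rT2_A1, rA3_A1, rZ3_A1, rT4_A1, rA5_A1, rZ5_A1, rT6_A1, rA7_A1, rZ7_A1, rT8_A1, rT2_Z1, rA3_Z1, rZ3_Z1, rT4_Z1, rA5_Z1, rZ5_Z1, rT6_Z1, rA7_Z1, rZ7_Z1, rT8_Z1, rA3_T2, rZ3_T2, rT4_T2, rA5_T2, rZ5_T2, rT6_T2, rA7_T2, rZ7_T2, rT8_T2, rZ3_A3, rT4_A3, rA5_A3, rZ5_A3, rT6_A3, rA7_A3, rZ7_A3, rT8_A3, rT4_Z3, rA5_Z3, rZ5_Z3, rT6_Z3, rA7_Z3, rZ7_Z3, rT8_Z3, rA5_T4, rZ5_T4, rT6_T4, rA7_T4, rZ7_T4, rT8_T4, rZ5_A5, rT6_A5, rA7_A5, rZ7_A5, rT8_A5, rT6_Z5, rA7_Z5, rZ7_Z5, rT8_Z5, rA7_T6, rZ7_T6, rT8_T6, rZ7_A7, rT8_A7, rT8_Z7, mA1, mZ1, mT2, mA3, mZ3, mT4, mA5, mZ5, mT6, mA7, mZ7, mT8]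
  all_goals (repeat' refine mul_congr ?_ ?_)
  all_goals first
    | rfl
    | (refine congrArg _ ?_; ring1)
    | (refine congrArg _ ?_; rw [← sub_eq_zero, CharTwo.sub_eq_add]; ring_nf;
       simp [num_char_two]; done)

theorem conj_Z1_G (c3 b6 s : F) :
    Z1 θ s * (E θ 0 0 0 0 c3 0 0 0 b6 0 0 0) * (Z1 θ s * 1) =
      E θ 0 0 0 0 (b6 * s + c3) 0 0 0 b6 0 0 0 := by
  rw [← mul_one (Z1 θ s * _ * _), ← mul_one (E θ _ _ _ _ _ _ _ _ _ _ _ _)]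
  rw [← E_zero θ]
  simp only [E, mul_assoc, one_mul, ph_mul, ph_add, ph_ph, ph_zero, rZ1_A1, rT2_A1, rA3_A1, rZ3_A1, rT4_A1, rA5_A1, rZ5_A1, rT6_A1, rA7_A1, rZ7_A1, rT8_A1, rT2_Z1, rA3_Z1, rZ3_Z1, rT4_Z1, rA5_Z1, rZ5_Z1, rT6_Z1, rA7_Z1, rZ7_Z1, rT8_Z1, rA3_T2, rZ3_T2, rT4_T2, rA5_T2, rZ5_T2, rT6_T2, rA7_T2, rZ7_T2, rT8_T2, rZ3_A3, rT4_A3, rA5_A3, rZ5_A3, rT6_A3, rA7_A3, rZ7_A3, rT8_A3, rT4_Z3, rA5_Z3, rZ5_Z3, rT6_Z3, rA7_Z3, rZ7_Z3, rT8_Z3, rA5_T4, rZ5_T4, rT6_T4, rA7_T4, rZ7_T4, rT8_T4, rZ5_A5, rT6_A5, rA7_A5, rZ7_A5, rT8_A5, rT6_Z5, rA7_Z5, rZ7_Z5, rT8_Z5, rA7_T6, rZ7_T6, rT8_T6, rZ7_A7, rT8_A7, rT8_Z7, mA1, mZ1, mT2, mA3, mZ3, mT4, mA5, mZ5, mT6, mA7, mZ7, mT8]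
  all_goals (repeat' refine mul_congr ?_ ?_)
  all_goals first
    | rfl
    | (refine congrArg _ ?_; ring1)
    | (refine congrArg _ ?_; rw [← sub_eq_zero, CharTwo.sub_eq_add]; ring_nf;
       simp [num_char_two]; done)

theorem E_sq (a1 w1 b2 b3 c3 b4 b5 c5 b6 b7 c7 b8 : F) :
    E θ a1 w1 b2 b3 c3 b4 b5 c5 b6 b7 c7 b8 * E θ a1 w1 b2 b3 c3 b4 b5 c5 b6 b7 c7 b8 =
      E θ 0 (ph θ a1 * a1) (ph θ a1 * a1 * b7 + ph θ a1 * a1 * a1 * b8 + ph θ w1 * b8 + a1 * b3 + a1 * b8 * w1 + b7 * w1) (ph θ a1 * b7 + b8 * w1) (ph θ a1 * ph θ b3 * b7 + ph θ a1 * ph θ b7 * a1 * a1 * b7 + ph θ a1 * ph θ b7 * a1 * a1 * a1 * b8 + ph θ a1 * ph θ b8 * ph θ w1 * a1 * b8 + ph θ a1 * ph θ b8 * a1 * b2 + ph θ a1 * a1 * b5 * b7 + ph θ a1 * a1 * b6 + ph θ a1 * a1 * a1 *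 b5 * b8 + ph θ a1 * a1 * a1 * c7 + ph θ a1 * ph θ a1 * ph θ b8 * a1 * a1 * b7 + ph θ a1 * ph θ a1 * ph θ b8 * a1 * a1 * a1 * b8 + ph θ b2 * a1 * b8 + ph θ b2 * b7 + ph θ b3 * b3 + ph θ b3 * b8 * w1 + ph θ b7 * ph θ w1 * a1 * b8 + ph θ b7 * a1 * b2 + ph θ b7 * a1 * b7 * w1 + ph θ b7 * a1 * a1 * b3 + ph θ b7 * a1 * a1 * b8 * w1 + ph θ b8 * ph θ w1 * b3 + ph θ b8 * ph θ w1 * b8 * w1 + ph θ b8 * a1 * b8 * w1 * w1 + ph θ b8 * b2 * w1 + ph θ b8 * b7 * w1 * w1 + ph θ w1 * b5 * b8 + ph θ w1 * c7 + a1 * b4 + a1 * b5 * b8 * w1 + a1 * c7 * w1 + b2 * b5 + b5 * b7 * w1 + b6 * w1) (ph θ a1 * ph θ b7 * a1 * a1 * b8 + ph θ a1 * ph θ b8 * ph θ w1 * b8 + ph θ a1 * ph θ b8 * a1 * b3 + ph θ a1 * ph θ b8 * b2 + ph θ a1 * b5 * b7 + ph θ a1 * b6 + ph θ a1 * ph θ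 a1 * ph θ b8 * a1 * a1 * b8 + ph θ b2 * b8 + ph θ b7 * ph θ w1 * b8 + ph θ b7 * a1 * b3 + ph θ b7 * b2 + ph θ b7 * b7 * w1 + ph θ b8 * b3 * w1 + ph θ b8 * b8 * w1 * w1 + b3 * b5 + b5 * b8 * w1 + c7 * w1) (ph θ a1 * ph θ b8 * a1 + ph θ b7 * a1 + ph θ b8 * w1) (ph θ a1 * ph θ b5 * ph θ b8 * a1 + ph θ a1 * ph θ b7 * a1 * a1 * a1 * b8 * b8 + ph θ a1 * ph θ b8 * ph θ w1 * a1 * b8 * b8 + ph θ a1 * ph θ b8 * ph θ w1 * b7 * b8 + ph θ a1 * ph θ b8 * a1 * b3 * b7 + ph θ a1 * ph θ b8 * a1 * a1 * b3 * b8 + ph θ a1 * ph θ b8 * b2 * b7 + ph θ a1 * ph θ c7 * a1 + ph θ a1 * a1 * a1 * b5 * b8 * b8 + ph θ a1 * a1 * a1 * b8 * c7 + ph θ a1 * b5 * b7 * b7 + ph θ a1 * b6 * b7 + ph θ a1 * ph θ a1 * ph θ b8 * a1 * a1 * b7 * b8 + ph θ a1 * ph θ a1 * ph θ b8 * a1 *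 a1 * a1 * b8 * b8 + ph θ b2 * a1 * b8 * b8 + ph θ b2 * b7 * b8 + ph θ b3 * b3 * b8 + ph θ b5 * ph θ b7 * a1 + ph θ b5 * ph θ b8 * w1 + ph θ b5 * b5 + ph θ b6 * a1 + ph θ b7 * ph θ w1 * a1 * b8 * b8 + ph θ b7 * b7 * b7 * w1 + ph θ b8 * ph θ w1 * b3 * b8 + ph θ b8 * a1 * b3 * b8 * w1 + ph θ b8 * a1 * b8 * b8 * w1 * w1 + ph θ b8 * b2 * b3 + ph θ b8 * b2 * b8 * w1 + ph θ b8 * b3 * b7 * w1 + ph θ b8 * b7 * b8 * w1 * w1 + ph θ c7 * w1 + ph θ w1 * b5 * b8 * b8 + ph θ w1 * b8 * c7 + a1 * b3 * c7 + a1 * b4 * b8 + b2 * c7 + b3 * b6 + b4 * b7 + b6 * b8 * w1 + b7 * c7 * w1 + b8 * c3) (ph θ a1 * ph θ b8 * a1 * b7 + ph θ a1 * ph θ b8 * a1 * a1 * b8 + ph θ b3 * b8 + ph θ b8 * ph θ w1 * b8 + ph θ b8 * a1 * b8 * w1 + ph θ b8 * b2 + ph θ b8 * b7 * w1 + a1 *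 b5 * b8 + a1 * c7 + b5 * b7) (a1 * b8) (ph θ a1 * ph θ b8 * b7 + ph θ b7 * a1 * b8 + ph θ b7 * b7 + ph θ b8 * b3 + ph θ b8 * b8 * w1 + b5 * b8) 0 := by
  rw [← mul_one (E θ a1 w1 b2 b3 c3 b4 b5 c5 b6 b7 c7 b8 * _), ← mul_one (E θ _ _ _ _ _ _ _ _ _ _ _ _)]
  rw [← E_zero θ]
  simp only [E, mul_assoc, one_mul, ph_mul, ph_add, ph_ph, ph_zero, rZ1_A1, rT2_A1, rA3_A1, rZ3_A1, rT4_A1, rA5_A1, rZ5_A1, rT6_A1, rA7_A1, rZ7_A1, rT8_A1, rT2_Z1, rA3_Z1, rZ3_Z1, rT4_Z1, rA5_Z1, rZ5_Z1, rT6_Z1, rA7_Z1, rZ7_Z1, rT8_Z1, rA3_T2, rZ3_T2, rT4_T2, rA5_T2, rZ5_T2, rT6_T2, rA7_T2, rZ7_T2, rT8_T2, rZ3_A3, rT4_A3, rA5_A3, rZ5_A3, rT6_A3, rA7_A3, rZ7_A3, rT8_A3, rT4_Z3, rA5_Z3, rZ5_Z3, rT6_Z3, rA7_Z3, rZ7_Z3, rT8_Z3, rA5_T4, rZ5_T4, rT6_T4, rA7_T4, rZ7_T4, rT8_T4,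 rZ5_A5, rT6_A5, rA7_A5, rZ7_A5, rT8_A5, rT6_Z5, rA7_Z5, rZ7_Z5, rT8_Z5, rA7_T6, rZ7_T6, rT8_T6, rZ7_A7, rT8_A7, rT8_Z7, mA1, mZ1, mT2, mA3, mZ3, mT4, mA5, mZ5, mT6, mA7, mZ7, mT8]
  all_goals (repeat' refine mul_congr ?_ ?_)
  all_goals first
    | rfl
    | (refine congrArg _ ?_; ring1)
    | (refine congrArg _ ?_; rw [← sub_eq_zero, CharTwo.sub_eq_add]; ring_nf;
       simp [num_char_two]; done)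

theorem turn8_E (b2 c3 b4 c5 b6 c7 : F) :
    T6 θ b2 * (Z5 θ c3 * (T4 θ b4 * (Z3 θ c5 * (T2 θ b6 * (Z1 θ c7 * 1))))) =
      E θ 0 c7 b6 0 (b2 * c7 + c5) b4 0 c3 b2 0 0 0 := by
  rw [← mul_one (E θ _ _ _ _ _ _ _ _ _ _ _ _), ← E_zero θ]
  simp only [E, mul_assoc, one_mul, ph_mul, ph_add, ph_ph, ph_zero, rZ1_A1, rT2_A1, rA3_A1, rZ3_A1, rT4_A1, rA5_A1, rZ5_A1, rT6_A1, rA7_A1, rZ7_A1, rT8_A1, rT2_Z1, rA3_Z1, rZ3_Z1, rT4_Z1, rA5_Z1, rZ5_Z1, rT6_Z1, rA7_Z1, rZ7_Z1, rT8_Z1, rA3_T2, rZ3_T2, rT4_T2, rA5_T2, rZ5_T2, rT6_T2, rA7_T2, rZ7_T2, rT8_T2, rZ3_A3, rT4_A3, rA5_A3, rZ5_A3, rT6_A3, rA7_A3, rZ7_A3, rT8_A3, rT4_Z3, rA5_Z3, rZ5_Z3, rT6_Z3, rA7_Z3, rZ7_Z3, rT8_Z3, rA5_T4, rZ5_T4, rT6_T4, rA7_T4, rZ7_T4, rT8_T4, rZ5_A5, rT6_A5, rA7_A5, rZ7_A5, rT8_A5,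 rT6_Z5, rA7_Z5, rZ7_Z5, rT8_Z5, rA7_T6, rZ7_T6, rT8_T6, rZ7_A7, rT8_A7, rT8_Z7, mA1, mZ1, mT2, mA3, mZ3, mT4, mA5, mZ5, mT6, mA7, mZ7, mT8]
  all_goals (repeat' refine mul_congr ?_ ?_)
  all_goals first
    | rfl
    | (refine congrArg _ ?_; ring1)
    | (refine congrArg _ ?_; rw [← sub_eq_zero, CharTwo.sub_eq_add]; ring_nf;
       simp [num_char_two]; done)

theorem turn1_E (b2 c3 b4 c5 b6 c7 b8 : F) :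
    T8 θ b2 * (Z7 θ c3 * (T6 θ b4 * (Z5 θ c5 * (T4 θ b6 * (Z3 θ c7 * (T2 θ b8 * 1)))))) =
      E θ 0 0 b8 0 c7 (ph θ b8 * b2 + b6) 0 (b2 * c7 + b8 * c3 + c5) (ph θ b2 * b8 + b4) 0 c3 b2 := by
  rw [← mul_one (E θ _ _ _ _ _ _ _ _ _ _ _ _), ← E_zero θ]
  simp only [E, mul_assoc, one_mul, ph_mul, ph_add, ph_ph, ph_zero, rZ1_A1, rT2_A1, rA3_A1, rZ3_A1, rT4_A1, rA5_A1, rZ5_A1, rT6_A1, rA7_A1, rZ7_A1, rT8_A1, rT2_Z1, rA3_Z1, rZ3_Z1, rT4_Z1, rA5_Z1, rZ5_Z1, rT6_Z1, rA7_Z1, rZ7_Z1, rT8_Z1, rA3_T2, rZ3_T2, rT4_T2, rA5_T2, rZ5_T2, rT6_T2, rA7_T2, rZ7_T2, rT8_T2, rZ3_A3, rT4_A3, rA5_A3, rZ5_A3, rT6_A3, rA7_A3, rZ7_A3, rT8_A3, rT4_Z3, rA5_Z3, rZ5_Z3, rT6_Z3, rA7_Z3, rZ7_Z3, rT8_Z3, rA5_T4, rZ5_T4, rT6_T4, rA7_T4, rZ7_T4, rT8_T4, rZ5_A5, rT6_A5, rA7_A5,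 rZ7_A5, rT8_A5, rT6_Z5, rA7_Z5, rZ7_Z5, rT8_Z5, rA7_T6, rZ7_T6, rT8_T6, rZ7_A7, rT8_A7, rT8_Z7, mA1, mZ1, mT2, mA3, mZ3, mT4, mA5, mZ5, mT6, mA7, mZ7, mT8]
  all_goals (repeat' refine mul_congr ?_ ?_)
  all_goals first
    | rfl
    | (refine congrArg _ ?_; ring1)
    | (refine congrArg _ ?_; rw [← sub_eq_zero, CharTwo.sub_eq_add]; ring_nf;
       simp [num_char_two]; done)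

theorem turn8_A (w1 c5 : F) :
    Z7 θ w1 * (Z3 θ c5 * 1) =
      E θ 0 0 0 0 c5 0 0 0 0 0 w1 0 := by
  rw [← mul_one (E θ _ _ _ _ _ _ _ _ _ _ _ _), ← E_zero θ]
  simp only [E, mul_assoc, one_mul, ph_mul, ph_add, ph_ph, ph_zero, rZ1_A1, rT2_A1, rA3_A1, rZ3_A1, rT4_A1, rA5_A1, rZ5_A1, rT6_A1, rA7_A1, rZ7_A1, rT8_A1, rT2_Z1, rA3_Z1, rZ3_Z1, rT4_Z1, rA5_Z1, rZ5_Z1, rT6_Z1, rA7_Z1, rZ7_Z1, rT8_Z1, rA3_T2, rZ3_T2, rT4_T2, rA5_T2, rZ5_T2, rT6_T2, rA7_T2, rZ7_T2, rT8_T2, rZ3_A3, rT4_A3, rA5_A3, rZ5_A3, rT6_A3, rA7_A3, rZ7_A3, rT8_A3, rT4_Z3, rA5_Z3, rZ5_Z3, rT6_Z3, rA7_Z3, rZ7_Z3, rT8_Z3, rA5_T4, rZ5_T4, rT6_T4, rA7_T4, rZ7_T4, rT8_T4, rZ5_A5, rT6_A5, rA7_A5, rZ7_A5, rT8_A5, rT6_Z5, rA7_Z5, rZ7_Z5, rT8_Z5, rA7_T6, rZ7_T6, rT8_T6, rZ7_A7, rT8_A7,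 rT8_Z7, mA1, mZ1, mT2, mA3, mZ3, mT4, mA5, mZ5, mT6, mA7, mZ7, mT8]
  all_goals (repeat' refine mul_congr ?_ ?_)
  all_goals first
    | rfl
    | (refine congrArg _ ?_; ring1)
    | (refine congrArg _ ?_; rw [← sub_eq_zero, CharTwo.sub_eq_add]; ring_nf;
       simp [num_char_two]; done)

end CfsgLib.Twisted.F4Uni
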