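import Cfsg.Agent.Lib.TwistedStr.F4UnipotentRules
import Cfsg.Agent.Lib.TwistedStr.F4UnipotentMul

/-!
The twisted coordinates on the unipotent group of `²F₄` are unique.
-/

set_option maxHeartbeats 4000000

set_option autoImplicit false
set_option linter.unusedSectionVars false
set_option linter.unusedSimpArgs false
set_option linter.unreachableTactic false
set_option linter.unusedTactic false

namespace CfsgLib.Twisted.F4Uni

open Cfsg.Lie CfsgLib.ChevStr
open scoped MatrixGroups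


variable {F : Type*} [Field F] [CharP F 2] (θ : F →+* F) [hθ : HalfFrob θ]

theorem E_sorted (a1 w1 b2 b3 c3 b4 b5 c5 b6 b7 c7 b8 : F) :
    E θ a1 w1 b2 b3 c3 b4 b5 c5 b6 b7 c7 b8 =
      X 24 (b8) *
      (X 25 (a1) *
      (X 26 (a1 * b8 + b7) *
      (X 27 (θ a1) *
      (X 28 (θ w1) *
      (X 29 (θ a1 * b7 + θ b5 + θ w1 * b8) *
      (X 30 ((θ a1) ^ 2 * a1 + w1) *
      (X 31 ((θ a1) ^ 2 * a1 * b8 + (θ a1) ^ 2 * b7 + b3 + b8 * w1) *
      (X 32 ((θ a1) ^ 2 * a1 * b7 + (θ w1) ^ 2 * b8 + b2 + b7 * w1) *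
      (X 33 (θ b8) *
      (X 34 (θ b7) *
      (X 35 (θ b3) *
      (X 36 (θ b3 * b8 + θ c7) *
      (X 37 (θ b2) *
      (X 38 (θ b2 * b8 + θ b6) *
      (X 39 (θ b2 * b7 + θ b3 * θ b5 + θ b4) *
      (X 40 (θ b2 * θ b5 + θ c3) *
      (X 41 (b5) *
      (X 42 ((θ b7) ^ 2 * b7 + b5 * b8 + c7) *
      (X 43 ((θ b3) ^ 2 * b8 + b5 * b7 + b6) *
      (X 44 (θ b2 * θ b5 * θ b8 + θ b2 * θ b7 * b7 + θ b2 * θ c7 + θ b3 * θ b5 * θ b7 + θ b4 * θ b7 + θ b5 * b5 + θ b8 * θ c3 + θ c5) *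
      (X 45 ((θ b2) ^ 2 * b8 + b4) *
      (X 46 ((θ b2) ^ 2 * b7 + (θ b3) ^ 2 * b3 + c3) *
      (X 47 ((θ b2) ^ 2 * b7 * b8 + (θ b3) ^ 2 * b3 * b8 + b4 * b7 + b8 * c3 + c5) * 1))))))))))))))))))))))) := by
  rw [← mul_one (E θ a1 w1 b2 b3 c3 b4 b5 c5 b6 b7 c7 b8)]
  conv_lhs => arg 2; rw [show (1 : GL chevF4.Idx F) = X 24 (0 : F) * (X 25 (0 : F) * (X 26 (0 : F) * (X 27 (0 : F) * (X 28 (0 : F) * (X 29 (0 : F) * (X 30 (0 : F) * (X 31 (0 : F) * (X 32 (0 : F) * (X 33 (0 : F) * (X 34 (0 : F) * (X 35 (0 : F) * (X 36 (0 : F) * (X 37 (0 : F) * (X 38 (0 : F) * (X 39 (0 : F) * (X 40 (0 : F) * (X 41 (0 : F) * (X 42 (0 : F) * (X 43 (0 : F) * (X 44 (0 : F) * (X 45 (0 : F) * (X 46 (0 : F) * (X 47 (0 : F) * 1))))))))))))))))))))))) by simp [X_zero]]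
  simp only [E, A1, Z1, T2, A3, Z3, T4, A5, Z5, T6, A7, Z7, T8, mul_assoc, one_mul, X_mul_assoc, q24_25, q24_26, q24_27, q24_28, q24_29, q24_30, q24_31, q24_32, q24_33, q24_34, q24_35, q24_36, q24_37, q24_38, q24_39, q24_40, q24_41, q24_42, q24_43, q24_44, q24_45, q24_46, q24_47, q25_26, q25_27, q25_28, q25_29, q25_30, q25_31, q25_32, q25_33, q25_34, q25_35, q25_36, q25_37, q25_38, q25_39, q25_40, q25_41, q25_42, q25_43, q25_44, q25_45, q25_46, q25_47, q26_27, q26_28, q26_29, q26_30, q26_31, q26_32, q26_33, q26_34, q26_35, q26_36, q26_37, q26_38, q26_39, q26_40, q26_41, q26_42, q26_43, q26_44, q26_45, q26_46, q26_47, q27_28, q27_29, q27_30, q27_31, q27_32, q27_33, q27_34, q27_35, q27_36, q27_37, q27_38, q27_39, q27_40, q27_41, q27_42, q27_43, q27_44, q27_45, q27_46, q27_47, q28_29, q28_30, q28_31, q28_32, q28_33, q28_34, q28_35, q28_36, q28_37, q28_38, q28_39, q28_40, q28_41, q28_42, q28_43, q28_44, q28_45, q28_46,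 q28_47, q29_30, q29_31, q29_32, q29_33, q29_34, q29_35, q29_36, q29_37, q29_38, q29_39, q29_40, q29_41, q29_42, q29_43, q29_44, q29_45, q29_46, q29_47, q30_31, q30_32, q30_33, q30_34, q30_35, q30_36, q30_37, q30_38, q30_39, q30_40, q30_41, q30_42, q30_43, q30_44, q30_45, q30_46, q30_47, q31_32, q31_33, q31_34, q31_35, q31_36, q31_37, q31_38, q31_39, q31_40, q31_41, q31_42, q31_43, q31_44, q31_45, q31_46, q31_47, q32_33, q32_34, q32_35, q32_36, q32_37, q32_38, q32_39, q32_40, q32_41, q32_42, q32_43, q32_44, q32_45, q32_46, q32_47, q33_34, q33_35, q33_36, q33_37, q33_38, q33_39, q33_40, q33_41, q33_42, q33_43, q33_44, q33_45, q33_46, q33_47, q34_35, q34_36, q34_37, q34_38, q34_39, q34_40, q34_41, q34_42, q34_43, q34_44, q34_45, q34_46, q34_47, q35_36, q35_37, q35_38, q35_39, q35_40, q35_41, q35_42, q35_43, q35_44, q35_45, q35_46, q35_47, q36_37, q36_38, q36_39, q36_40, q36_41, q36_42, q36_43, q36_44, q36_45, q36_46,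 q36_47, q37_38, q37_39, q37_40, q37_41, q37_42, q37_43, q37_44, q37_45, q37_46, q37_47, q38_39, q38_40, q38_41, q38_42, q38_43, q38_44, q38_45, q38_46, q38_47, q39_40, q39_41, q39_42, q39_43, q39_44, q39_45, q39_46, q39_47, q40_41, q40_42, q40_43, q40_44, q40_45, q40_46, q40_47, q41_42, q41_43, q41_44, q41_45, q41_46, q41_47, q42_43, q42_44, q42_45, q42_46, q42_47, q43_44, q43_45, q43_46, q43_47, q44_45, q44_46, q44_47, q45_46, q45_47, q46_47]
  all_goals (repeat' refine mul_congr ?_ ?_)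
  all_goals first
    | rfl
    | (refine congrArg _ ?_; ring1)
    | (refine congrArg _ ?_; rw [← sub_eq_zero, CharTwo.sub_eq_add]; ring_nf;
       simp [num_char_two]; done)

theorem E_inj {a1 w1 b2 b3 c3 b4 b5 c5 b6 b7 c7 b8 A1' W1' B2' B3' C3' B4' B5' C5' B6' B7' C7' B8' : F}
    (h : E θ a1 w1 b2 b3 c3 b4 b5 c5 b6 b7 c7 b8 = E θ A1' W1' B2' B3' C3' B4' B5' C5' B6' B7' C7' B8') :
    a1 = A1' ∧ w1 = W1' ∧ b2 = B2' ∧ b3 = B3' ∧ c3 = C3' ∧ b4 = B4' ∧ b5 = B5' ∧ c5 = C5' ∧ b6 = B6' ∧ b7 = B7' ∧ c7 = C7' ∧ b8 = B8' := by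
  have hpos : ∀ r ∈ List.range' 24 24, chevF4.IsPosRoot r := by decide +kernel
  rw [E_sorted, E_sorted] at h
  set c1 : List F := [(b8), (a1), (a1 * b8 + b7), (θ a1), (θ w1), (θ a1 * b7 + θ b5 + θ w1 * b8), ((θ a1) ^ 2 * a1 + w1), ((θ a1) ^ 2 * a1 * b8 + (θ a1) ^ 2 * b7 + b3 + b8 * w1), ((θ a1) ^ 2 * a1 * b7 + (θ w1) ^ 2 * b8 + b2 + b7 * w1), (θ b8), (θ b7), (θ b3), (θ b3 * b8 + θ c7), (θ b2), (θ b2 * b8 + θ b6), (θ b2 * b7 + θ b3 * θ b5 + θ b4), (θ b2 * θ b5 + θ c3), (b5), ((θ b7) ^ 2 * b7 + b5 * b8 + c7), ((θ b3) ^ 2 * b8 + b5 * b7 + b6), (θ b2 * θ b5 * θ b8 + θ b2 * θ b7 * b7 + θ b2 * θ c7 + θ b3 * θ b5 * θ b7 + θ b4 * θ b7 + θ b5 * b5 + θ b8 * θ c3 + θ c5), ((θ b2) ^ 2 * b8 + b4), ((θ b2) ^ 2 * b7 + (θ b3) ^ 2 * b3 + c3), ((θ b2) ^ 2 * b7 * b8 + (θ b3) ^ 2 * b3 * b8 + b4 * b7 + b8 * c3 + c5)] with hc1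
  set c2 : List F := [(B8'), (A1'), (A1' * B8' + B7'), (θ A1'), (θ W1'), (θ A1' * B7' + θ B5' + θ W1' * B8'), ((θ A1') ^ 2 * A1' + W1'), ((θ A1') ^ 2 * A1' * B8' + (θ A1') ^ 2 * B7' + B3' + B8' * W1'), ((θ A1') ^ 2 * A1' * B7' + (θ W1') ^ 2 * B8' + B2' + B7' * W1'), (θ B8'), (θ B7'), (θ B3'), (θ B3' * B8' + θ C7'), (θ B2'), (θ B2' * B8' + θ B6'), (θ B2' * B7' + θ B3' * θ B5' + θ B4'), (θ B2' * θ B5' + θ C3'), (B5'), ((θ B7') ^ 2 * B7' + B5' * B8' + C7'), ((θ B3') ^ 2 * B8' + B5' * B7' + B6'), (θ B2' * θ B5' * θ B8' + θ B2' * θ B7' * B7' + θ B2' * θ C7' + θ B3' * θ B5' * θ B7' + θ B4' * θ B7' + θ B5' * B5' + θ B8' * θ C3' + θ C5'), ((θ B2') ^ 2 * B8' + B4'), ((θ B2') ^ 2 * B7' + (θ B3') ^ 2 * B3' + C3'), ((θ B2') ^ 2 * B7' * B8' + (θ B3') ^ 2 * B3' * B8' + B4' * B7' + B8' * C3' + C5')] with hc2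
  have hw := (coreF4 F).word_injective (L := List.range' 24 24) (by decide) hpos
    (fun r => c1.getD (r - 24) 0) (fun r => c2.getD (r - 24) 0)
    (by simpa [hc1, hc2, ChevCore.word_cons, ChevCore.word_nil, List.range'_succ, X] using h)
  obtain rfl : a1 = A1' := by
    have e := hw 25 (by simp [List.mem_range'_1])
    simp only [hc1, hc2, show 25 - 24 = 1 from rfl, List.getD_cons_zero, List.getD_cons_succ] at e
    linear_combination e
  obtain rfl : w1 = W1' := by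
    have e := hw 30 (by simp [List.mem_range'_1])
    simp only [hc1, hc2, show 30 - 24 = 6 from rfl, List.getD_cons_zero, List.getD_cons_succ] at e
    linear_combination e
  obtain rfl : b5 = B5' := by
    have e := hw 41 (by simp [List.mem_range'_1])
    simp only [hc1, hc2, show 41 - 24 = 17 from rfl, List.getD_cons_zero, List.getD_cons_succ] at e
    linear_combination e
  obtain rfl : b8 = B8' := by
    have e := hw 24 (by simp [List.mem_range'_1])
    simp only [hc1, hc2, show 24 - 24 = 0 from rfl, List.getD_cons_zero, List.getD_cons_succ] at e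
    linear_combination e
  obtain rfl : b7 = B7' := by
    have e := hw 26 (by simp [List.mem_range'_1])
    simp only [hc1, hc2, show 26 - 24 = 2 from rfl, List.getD_cons_zero, List.getD_cons_succ] at e
    linear_combination e
  obtain rfl : b2 = B2' := by
    have e := hw 32 (by simp [List.mem_range'_1])
    simp only [hc1, hc2, show 32 - 24 = 8 from rfl, List.getD_cons_zero, List.getD_cons_succ] at e
    linear_combination e
  obtain rfl : b3 = B3' := by
    have e := hw 31 (by simp [List.mem_range'_1])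
    simp only [hc1, hc2, show 31 - 24 = 7 from rfl, List.getD_cons_zero, List.getD_cons_succ] at e
    linear_combination e
  obtain rfl : c3 = C3' := by
    have e := hw 46 (by simp [List.mem_range'_1])
    simp only [hc1, hc2, show 46 - 24 = 22 from rfl, List.getD_cons_zero, List.getD_cons_succ] at e
    linear_combination e
  obtain rfl : b4 = B4' := by
    have e := hw 45 (by simp [List.mem_range'_1])
    simp only [hc1, hc2, show 45 - 24 = 21 from rfl, List.getD_cons_zero, List.getD_cons_succ] at e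
    linear_combination e
  obtain rfl : c5 = C5' := by
    have e := hw 47 (by simp [List.mem_range'_1])
    simp only [hc1, hc2, show 47 - 24 = 23 from rfl, List.getD_cons_zero, List.getD_cons_succ] at e
    linear_combination e
  obtain rfl : b6 = B6' := by
    have e := hw 43 (by simp [List.mem_range'_1])
    simp only [hc1, hc2, show 43 - 24 = 19 from rfl, List.getD_cons_zero, List.getD_cons_succ] at e
    linear_combination e
  obtain rfl : c7 = C7' := by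
    have e := hw 42 (by simp [List.mem_range'_1])
    simp only [hc1, hc2, show 42 - 24 = 18 from rfl, List.getD_cons_zero, List.getD_cons_succ] at e
    linear_combination e
  exact ⟨rfl, rfl, rfl, rfl, rfl, rfl, rfl, rfl, rfl, rfl, rfl, rfl⟩

end CfsgLib.Twisted.F4Uni
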