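import Cfsg.Agent.Lib.Twisted.TypeF4

/-!
The commutator relations between the positive root elements of `F₄` in characteristic two.
-/

set_option autoImplicit false
set_option linter.unusedSectionVars false
set_option linter.unusedSimpArgs false
set_option linter.unreachableTactic false
set_option linter.unusedTactic false

namespace CfsgLib.Twisted.F4Uni

open Cfsg.Lie CfsgLib.ChevStr
open scoped MatrixGroups


variable {F : Type*} [Field F] [CharP F 2]

/-- A root element of `F₄`. -/
noncomputable def X (r : ℕ) (t : F) : GL chevF4.Idx F := (coreF4 F).xGL r t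

theorem X_add (r : ℕ) (t u : F) : X r (t + u) = X r t * X r u := (coreF4 F).xGL_add r t u

theorem X_zero (r : ℕ) : X r (0 : F) = 1 := (coreF4 F).xGL_zero r

theorem X_mul_assoc (r : ℕ) (t u : F) (z : GL chevF4.Idx F) :
    X r t * (X r u * z) = X r (t + u) * z := by rw [X_add, mul_assoc]

/-- The commutator terms of odd coefficient. -/
def oddTerms (r s : ℕ) : List (ℕ × ℕ × ℕ) :=
  ((chevF4.commTerms r s).filter fun c => decide (c.2.1 % 2 ≠ 0)).map fun c => (c.1, c.2.2)

/-- The pair of roots has the listed commutator terms of odd coefficient. -/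
def swOK (r s : ℕ) (L : List (ℕ × ℕ × ℕ)) : Bool :=
  decide (r < chevF4.nroots) && decide (s < chevF4.nroots) && s != r && s != chevF4.neg r &&
    oddTerms r s == L

theorem comm_word (t u : F) : ∀ l : List (ℕ × ℤ × ℕ × ℕ), ∀ w : GL chevF4.Idx F,
    (coreF4 F).wordGL (l.map fun c => (c.1, (c.2.1 : F) * (-t) ^ c.2.2.1 * u ^ c.2.2.2)) * w =
      ((l.filter fun c => decide (c.2.1 % 2 ≠ 0)).map fun c => (c.1, c.2.2)).foldr
        (fun c z => X c.1 (t ^ c.2.1 * u ^ c.2.2) * z) w
  | [], w => by simp [ChevCore.wordGL_nil]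
  | (k, z, i, j) :: l, w => by
    rw [List.map_cons, ChevCore.wordGL_cons, mul_assoc, comm_word t u l w]
    rcases Int.emod_two_eq_zero_or_one z with h | h
    · have hz : (z : F) = 0 := by
        rw [← Int.mul_ediv_add_emod z 2, h, add_zero, Int.cast_mul, Int.cast_two, CharTwo.two_eq_zero,
          zero_mul]
      simp [h, hz, (coreF4 F).xGL_zero]
    · have hz : (z : F) = 1 := by
        rw [← Int.mul_ediv_add_emod z 2, h, Int.cast_add, Int.cast_mul, Int.cast_two, CharTwo.two_eq_zero,
          zero_mul, zero_add, Int.cast_one]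
      simp [h, hz, CharTwo.neg_eq, X]

theorem sw_of (r s : ℕ) (L : List (ℕ × ℕ × ℕ)) (h : swOK r s L = true) (u t : F)
    (w : GL chevF4.Idx F) :
    X s u * (X r t * w) =
      X r t * (X s u * L.foldr (fun c z => X c.1 (t ^ c.2.1 * u ^ c.2.2) * z) w) := by
  simp only [swOK, Bool.and_eq_true, decide_eq_true_eq, bne_iff_ne, beq_iff_eq] at h
  obtain ⟨⟨⟨⟨h1, h2⟩, h3⟩, h4⟩, h5⟩ := h
  subst h5
  show (coreF4 F).xGL s u * ((coreF4 F).xGL r t * w) = _
  rw [← mul_assoc, (coreF4 F).xGL_comm h1 h2 h3 h4 t u, oddTerms, ← comm_word]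
  simp only [ChevalleyDatum.commWord, mul_assoc]
  rfl

theorem q24_25 (u t : F) (w : GL chevF4.Idx F) :
    X 25 u * (X 24 t * w) = X 24 t * (X 25 u * (X 26 (t * u) * w)) := by
  simpa using sw_of 24 25 [(26, 1, 1)] (by decide +kernel) u t w

theorem q24_26 (u t : F) (w : GL chevF4.Idx F) :
    X 26 u * (X 24 t * w) = X 24 t * (X 26 u * w) := by
  simpa using sw_of 24 26 [] (by decide +kernel) u t w

theorem q24_27 (u t : F) (w : GL chevF4.Idx F) :
    X 27 u * (X 24 t * w) = X 24 t * (X 27 u * w) := by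
  simpa using sw_of 24 27 [] (by decide +kernel) u t w

theorem q24_28 (u t : F) (w : GL chevF4.Idx F) :
    X 28 u * (X 24 t * w) = X 24 t * (X 28 u * (X 29 (t * u) * (X 32 (t * u ^ 2) * w))) := by
  simpa using sw_of 24 28 [(29, 1, 1), (32, 1, 2)] (by decide +kernel) u t w

theorem q24_29 (u t : F) (w : GL chevF4.Idx F) :
    X 29 u * (X 24 t * w) = X 24 t * (X 29 u * w) := by
  simpa using sw_of 24 29 [] (by decide +kernel) u t w

theorem q24_30 (u t : F) (w : GL chevF4.Idx F) :
    X 30 u * (X 24 t * w) = X 24 t * (X 30 u * (X 31 (t * u) * w)) := by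
  simpa using sw_of 24 30 [(31, 1, 1)] (by decide +kernel) u t w

theorem q24_31 (u t : F) (w : GL chevF4.Idx F) :
    X 31 u * (X 24 t * w) = X 24 t * (X 31 u * w) := by
  simpa using sw_of 24 31 [] (by decide +kernel) u t w

theorem q24_32 (u t : F) (w : GL chevF4.Idx F) :
    X 32 u * (X 24 t * w) = X 24 t * (X 32 u * w) := by
  simpa using sw_of 24 32 [] (by decide +kernel) u t w

theorem q24_33 (u t : F) (w : GL chevF4.Idx F) :
    X 33 u * (X 24 t * w) = X 24 t * (X 33 u * w) := by
  simpa using sw_of 24 33 [] (by decide +kernel) u t w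

theorem q24_34 (u t : F) (w : GL chevF4.Idx F) :
    X 34 u * (X 24 t * w) = X 24 t * (X 34 u * w) := by
  simpa using sw_of 24 34 [] (by decide +kernel) u t w

theorem q24_35 (u t : F) (w : GL chevF4.Idx F) :
    X 35 u * (X 24 t * w) = X 24 t * (X 35 u * (X 36 (t * u) * (X 43 (t * u ^ 2) * w))) := by
  simpa using sw_of 24 35 [(36, 1, 1), (43, 1, 2)] (by decide +kernel) u t w

theorem q24_36 (u t : F) (w : GL chevF4.Idx F) :
    X 36 u * (X 24 t * w) = X 24 t * (X 36 u * w) := by
  simpa using sw_of 24 36 [] (by decide +kernel) u t w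

theorem q24_37 (u t : F) (w : GL chevF4.Idx F) :
    X 37 u * (X 24 t * w) = X 24 t * (X 37 u * (X 38 (t * u) * (X 45 (t * u ^ 2) * w))) := by
  simpa using sw_of 24 37 [(38, 1, 1), (45, 1, 2)] (by decide +kernel) u t w

theorem q24_38 (u t : F) (w : GL chevF4.Idx F) :
    X 38 u * (X 24 t * w) = X 24 t * (X 38 u * w) := by
  simpa using sw_of 24 38 [] (by decide +kernel) u t w

theorem q24_39 (u t : F) (w : GL chevF4.Idx F) :
    X 39 u * (X 24 t * w) = X 24 t * (X 39 u * w) := by
  simpa using sw_of 24 39 [] (by decide +kernel) u t w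

theorem q24_40 (u t : F) (w : GL chevF4.Idx F) :
    X 40 u * (X 24 t * w) = X 24 t * (X 40 u * w) := by
  simpa using sw_of 24 40 [] (by decide +kernel) u t w

theorem q24_41 (u t : F) (w : GL chevF4.Idx F) :
    X 41 u * (X 24 t * w) = X 24 t * (X 41 u * (X 42 (t * u) * w)) := by
  simpa using sw_of 24 41 [(42, 1, 1)] (by decide +kernel) u t w

theorem q24_42 (u t : F) (w : GL chevF4.Idx F) :
    X 42 u * (X 24 t * w) = X 24 t * (X 42 u * w) := by
  simpa using sw_of 24 42 [] (by decide +kernel) u t w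

theorem q24_43 (u t : F) (w : GL chevF4.Idx F) :
    X 43 u * (X 24 t * w) = X 24 t * (X 43 u * w) := by
  simpa using sw_of 24 43 [] (by decide +kernel) u t w

theorem q24_44 (u t : F) (w : GL chevF4.Idx F) :
    X 44 u * (X 24 t * w) = X 24 t * (X 44 u * w) := by
  simpa using sw_of 24 44 [] (by decide +kernel) u t w

theorem q24_45 (u t : F) (w : GL chevF4.Idx F) :
    X 45 u * (X 24 t * w) = X 24 t * (X 45 u * w) := by
  simpa using sw_of 24 45 [] (by decide +kernel) u t w

theorem q24_46 (u t : F) (w : GL chevF4.Idx F) :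
    X 46 u * (X 24 t * w) = X 24 t * (X 46 u * (X 47 (t * u) * w)) := by
  simpa using sw_of 24 46 [(47, 1, 1)] (by decide +kernel) u t w

theorem q24_47 (u t : F) (w : GL chevF4.Idx F) :
    X 47 u * (X 24 t * w) = X 24 t * (X 47 u * w) := by
  simpa using sw_of 24 47 [] (by decide +kernel) u t w

theorem q25_26 (u t : F) (w : GL chevF4.Idx F) :
    X 26 u * (X 25 t * w) = X 25 t * (X 26 u * w) := by
  simpa using sw_of 25 26 [] (by decide +kernel) u t w

theorem q25_27 (u t : F) (w : GL chevF4.Idx F) :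
    X 27 u * (X 25 t * w) = X 25 t * (X 27 u * (X 28 (t * u) * (X 30 (t * u ^ 2) * w))) := by
  simpa using sw_of 25 27 [(28, 1, 1), (30, 1, 2)] (by decide +kernel) u t w

theorem q25_28 (u t : F) (w : GL chevF4.Idx F) :
    X 28 u * (X 25 t * w) = X 25 t * (X 28 u * w) := by
  simpa using sw_of 25 28 [] (by decide +kernel) u t w

theorem q25_29 (u t : F) (w : GL chevF4.Idx F) :
    X 29 u * (X 25 t * w) = X 25 t * (X 29 u * w) := by
  simpa using sw_of 25 29 [] (by decide +kernel) u t w

theorem q25_30 (u t : F) (w : GL chevF4.Idx F) :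
    X 30 u * (X 25 t * w) = X 25 t * (X 30 u * w) := by
  simpa using sw_of 25 30 [] (by decide +kernel) u t w

theorem q25_31 (u t : F) (w : GL chevF4.Idx F) :
    X 31 u * (X 25 t * w) = X 25 t * (X 31 u * (X 32 (t * u) * w)) := by
  simpa using sw_of 25 31 [(32, 1, 1)] (by decide +kernel) u t w

theorem q25_32 (u t : F) (w : GL chevF4.Idx F) :
    X 32 u * (X 25 t * w) = X 25 t * (X 32 u * w) := by
  simpa using sw_of 25 32 [] (by decide +kernel) u t w

theorem q25_33 (u t : F) (w : GL chevF4.Idx F) :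
    X 33 u * (X 25 t * w) = X 25 t * (X 33 u * w) := by
  simpa using sw_of 25 33 [] (by decide +kernel) u t w

theorem q25_34 (u t : F) (w : GL chevF4.Idx F) :
    X 34 u * (X 25 t * w) = X 25 t * (X 34 u * (X 35 (t * u) * (X 41 (t * u ^ 2) * w))) := by
  simpa using sw_of 25 34 [(35, 1, 1), (41, 1, 2)] (by decide +kernel) u t w

theorem q25_35 (u t : F) (w : GL chevF4.Idx F) :
    X 35 u * (X 25 t * w) = X 25 t * (X 35 u * w) := by
  simpa using sw_of 25 35 [] (by decide +kernel) u t w

theorem q25_36 (u t : F) (w : GL chevF4.Idx F) :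
    X 36 u * (X 25 t * w) = X 25 t * (X 36 u * w) := by
  simpa using sw_of 25 36 [] (by decide +kernel) u t w

theorem q25_37 (u t : F) (w : GL chevF4.Idx F) :
    X 37 u * (X 25 t * w) = X 25 t * (X 37 u * w) := by
  simpa using sw_of 25 37 [] (by decide +kernel) u t w

theorem q25_38 (u t : F) (w : GL chevF4.Idx F) :
    X 38 u * (X 25 t * w) = X 25 t * (X 38 u * (X 39 (t * u) * (X 47 (t * u ^ 2) * w))) := by
  simpa using sw_of 25 38 [(39, 1, 1), (47, 1, 2)] (by decide +kernel) u t w

theorem q25_39 (u t : F) (w : GL chevF4.Idx F) :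
    X 39 u * (X 25 t * w) = X 25 t * (X 39 u * w) := by
  simpa using sw_of 25 39 [] (by decide +kernel) u t w

theorem q25_40 (u t : F) (w : GL chevF4.Idx F) :
    X 40 u * (X 25 t * w) = X 25 t * (X 40 u * w) := by
  simpa using sw_of 25 40 [] (by decide +kernel) u t w

theorem q25_41 (u t : F) (w : GL chevF4.Idx F) :
    X 41 u * (X 25 t * w) = X 25 t * (X 41 u * w) := by
  simpa using sw_of 25 41 [] (by decide +kernel) u t w

theorem q25_42 (u t : F) (w : GL chevF4.Idx F) :
    X 42 u * (X 25 t * w) = X 25 t * (X 42 u * (X 43 (t * u) * w)) := by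
  simpa using sw_of 25 42 [(43, 1, 1)] (by decide +kernel) u t w

theorem q25_43 (u t : F) (w : GL chevF4.Idx F) :
    X 43 u * (X 25 t * w) = X 25 t * (X 43 u * w) := by
  simpa using sw_of 25 43 [] (by decide +kernel) u t w

theorem q25_44 (u t : F) (w : GL chevF4.Idx F) :
    X 44 u * (X 25 t * w) = X 25 t * (X 44 u * w) := by
  simpa using sw_of 25 44 [] (by decide +kernel) u t w

theorem q25_45 (u t : F) (w : GL chevF4.Idx F) :
    X 45 u * (X 25 t * w) = X 25 t * (X 45 u * (X 46 (t * u) * w)) := by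
  simpa using sw_of 25 45 [(46, 1, 1)] (by decide +kernel) u t w

theorem q25_46 (u t : F) (w : GL chevF4.Idx F) :
    X 46 u * (X 25 t * w) = X 25 t * (X 46 u * w) := by
  simpa using sw_of 25 46 [] (by decide +kernel) u t w

theorem q25_47 (u t : F) (w : GL chevF4.Idx F) :
    X 47 u * (X 25 t * w) = X 25 t * (X 47 u * w) := by
  simpa using sw_of 25 47 [] (by decide +kernel) u t w

theorem q26_27 (u t : F) (w : GL chevF4.Idx F) :
    X 27 u * (X 26 t * w) = X 26 t * (X 27 u * (X 29 (t * u) * (X 31 (t * u ^ 2) * w))) := by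
  simpa using sw_of 26 27 [(29, 1, 1), (31, 1, 2)] (by decide +kernel) u t w

theorem q26_28 (u t : F) (w : GL chevF4.Idx F) :
    X 28 u * (X 26 t * w) = X 26 t * (X 28 u * w) := by
  simpa using sw_of 26 28 [] (by decide +kernel) u t w

theorem q26_29 (u t : F) (w : GL chevF4.Idx F) :
    X 29 u * (X 26 t * w) = X 26 t * (X 29 u * w) := by
  simpa using sw_of 26 29 [] (by decide +kernel) u t w

theorem q26_30 (u t : F) (w : GL chevF4.Idx F) :
    X 30 u * (X 26 t * w) = X 26 t * (X 30 u * (X 32 (t * u) * w)) := by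
  simpa using sw_of 26 30 [(32, 1, 1)] (by decide +kernel) u t w

theorem q26_31 (u t : F) (w : GL chevF4.Idx F) :
    X 31 u * (X 26 t * w) = X 26 t * (X 31 u * w) := by
  simpa using sw_of 26 31 [] (by decide +kernel) u t w

theorem q26_32 (u t : F) (w : GL chevF4.Idx F) :
    X 32 u * (X 26 t * w) = X 26 t * (X 32 u * w) := by
  simpa using sw_of 26 32 [] (by decide +kernel) u t w

theorem q26_33 (u t : F) (w : GL chevF4.Idx F) :
    X 33 u * (X 26 t * w) = X 26 t * (X 33 u * w) := by
  simpa using sw_of 26 33 [] (by decide +kernel) u t w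

theorem q26_34 (u t : F) (w : GL chevF4.Idx F) :
    X 34 u * (X 26 t * w) = X 26 t * (X 34 u * (X 36 (t * u) * (X 42 (t * u ^ 2) * w))) := by
  simpa using sw_of 26 34 [(36, 1, 1), (42, 1, 2)] (by decide +kernel) u t w

theorem q26_35 (u t : F) (w : GL chevF4.Idx F) :
    X 35 u * (X 26 t * w) = X 26 t * (X 35 u * w) := by
  simpa using sw_of 26 35 [] (by decide +kernel) u t w

theorem q26_36 (u t : F) (w : GL chevF4.Idx F) :
    X 36 u * (X 26 t * w) = X 26 t * (X 36 u * w) := by
  simpa using sw_of 26 36 [] (by decide +kernel) u t w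

theorem q26_37 (u t : F) (w : GL chevF4.Idx F) :
    X 37 u * (X 26 t * w) = X 26 t * (X 37 u * (X 39 (t * u) * (X 46 (t * u ^ 2) * w))) := by
  simpa using sw_of 26 37 [(39, 1, 1), (46, 1, 2)] (by decide +kernel) u t w

theorem q26_38 (u t : F) (w : GL chevF4.Idx F) :
    X 38 u * (X 26 t * w) = X 26 t * (X 38 u * w) := by
  simpa using sw_of 26 38 [] (by decide +kernel) u t w

theorem q26_39 (u t : F) (w : GL chevF4.Idx F) :
    X 39 u * (X 26 t * w) = X 26 t * (X 39 u * w) := by
  simpa using sw_of 26 39 [] (by decide +kernel) u t w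

theorem q26_40 (u t : F) (w : GL chevF4.Idx F) :
    X 40 u * (X 26 t * w) = X 26 t * (X 40 u * w) := by
  simpa using sw_of 26 40 [] (by decide +kernel) u t w

theorem q26_41 (u t : F) (w : GL chevF4.Idx F) :
    X 41 u * (X 26 t * w) = X 26 t * (X 41 u * (X 43 (t * u) * w)) := by
  simpa using sw_of 26 41 [(43, 1, 1)] (by decide +kernel) u t w

theorem q26_42 (u t : F) (w : GL chevF4.Idx F) :
    X 42 u * (X 26 t * w) = X 26 t * (X 42 u * w) := by
  simpa using sw_of 26 42 [] (by decide +kernel) u t w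

theorem q26_43 (u t : F) (w : GL chevF4.Idx F) :
    X 43 u * (X 26 t * w) = X 26 t * (X 43 u * w) := by
  simpa using sw_of 26 43 [] (by decide +kernel) u t w

theorem q26_44 (u t : F) (w : GL chevF4.Idx F) :
    X 44 u * (X 26 t * w) = X 26 t * (X 44 u * w) := by
  simpa using sw_of 26 44 [] (by decide +kernel) u t w

theorem q26_45 (u t : F) (w : GL chevF4.Idx F) :
    X 45 u * (X 26 t * w) = X 26 t * (X 45 u * (X 47 (t * u) * w)) := by
  simpa using sw_of 26 45 [(47, 1, 1)] (by decide +kernel) u t w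

theorem q26_46 (u t : F) (w : GL chevF4.Idx F) :
    X 46 u * (X 26 t * w) = X 26 t * (X 46 u * w) := by
  simpa using sw_of 26 46 [] (by decide +kernel) u t w

theorem q26_47 (u t : F) (w : GL chevF4.Idx F) :
    X 47 u * (X 26 t * w) = X 26 t * (X 47 u * w) := by
  simpa using sw_of 26 47 [] (by decide +kernel) u t w

theorem q27_28 (u t : F) (w : GL chevF4.Idx F) :
    X 28 u * (X 27 t * w) = X 27 t * (X 28 u * w) := by
  simpa using sw_of 27 28 [] (by decide +kernel) u t w

theorem q27_29 (u t : F) (w : GL chevF4.Idx F) :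
    X 29 u * (X 27 t * w) = X 27 t * (X 29 u * w) := by
  simpa using sw_of 27 29 [] (by decide +kernel) u t w

theorem q27_30 (u t : F) (w : GL chevF4.Idx F) :
    X 30 u * (X 27 t * w) = X 27 t * (X 30 u * w) := by
  simpa using sw_of 27 30 [] (by decide +kernel) u t w

theorem q27_31 (u t : F) (w : GL chevF4.Idx F) :
    X 31 u * (X 27 t * w) = X 27 t * (X 31 u * w) := by
  simpa using sw_of 27 31 [] (by decide +kernel) u t w

theorem q27_32 (u t : F) (w : GL chevF4.Idx F) :
    X 32 u * (X 27 t * w) = X 27 t * (X 32 u * w) := by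
  simpa using sw_of 27 32 [] (by decide +kernel) u t w

theorem q27_33 (u t : F) (w : GL chevF4.Idx F) :
    X 33 u * (X 27 t * w) = X 27 t * (X 33 u * (X 34 (t * u) * w)) := by
  simpa using sw_of 27 33 [(34, 1, 1)] (by decide +kernel) u t w

theorem q27_34 (u t : F) (w : GL chevF4.Idx F) :
    X 34 u * (X 27 t * w) = X 27 t * (X 34 u * w) := by
  simpa using sw_of 27 34 [] (by decide +kernel) u t w

theorem q27_35 (u t : F) (w : GL chevF4.Idx F) :
    X 35 u * (X 27 t * w) = X 27 t * (X 35 u * (X 37 (t * u) * w)) := by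
  simpa using sw_of 27 35 [(37, 1, 1)] (by decide +kernel) u t w

theorem q27_36 (u t : F) (w : GL chevF4.Idx F) :
    X 36 u * (X 27 t * w) = X 27 t * (X 36 u * (X 38 (t * u) * w)) := by
  simpa using sw_of 27 36 [(38, 1, 1)] (by decide +kernel) u t w

theorem q27_37 (u t : F) (w : GL chevF4.Idx F) :
    X 37 u * (X 27 t * w) = X 27 t * (X 37 u * w) := by
  simpa using sw_of 27 37 [] (by decide +kernel) u t w

theorem q27_38 (u t : F) (w : GL chevF4.Idx F) :
    X 38 u * (X 27 t * w) = X 27 t * (X 38 u * w) := by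
  simpa using sw_of 27 38 [] (by decide +kernel) u t w

theorem q27_39 (u t : F) (w : GL chevF4.Idx F) :
    X 39 u * (X 27 t * w) = X 27 t * (X 39 u * (X 40 (t * u) * w)) := by
  simpa using sw_of 27 39 [(40, 1, 1)] (by decide +kernel) u t w

theorem q27_40 (u t : F) (w : GL chevF4.Idx F) :
    X 40 u * (X 27 t * w) = X 27 t * (X 40 u * w) := by
  simpa using sw_of 27 40 [] (by decide +kernel) u t w

theorem q27_41 (u t : F) (w : GL chevF4.Idx F) :
    X 41 u * (X 27 t * w) = X 27 t * (X 41 u * w) := by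
  simpa using sw_of 27 41 [] (by decide +kernel) u t w

theorem q27_42 (u t : F) (w : GL chevF4.Idx F) :
    X 42 u * (X 27 t * w) = X 27 t * (X 42 u * w) := by
  simpa using sw_of 27 42 [] (by decide +kernel) u t w

theorem q27_43 (u t : F) (w : GL chevF4.Idx F) :
    X 43 u * (X 27 t * w) = X 27 t * (X 43 u * (X 44 (t * u) * (X 45 (t ^ 2 * u) * w))) := by
  simpa using sw_of 27 43 [(44, 1, 1), (45, 2, 1)] (by decide +kernel) u t w

theorem q27_44 (u t : F) (w : GL chevF4.Idx F) :
    X 44 u * (X 27 t * w) = X 27 t * (X 44 u * w) := by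
  simpa using sw_of 27 44 [] (by decide +kernel) u t w

theorem q27_45 (u t : F) (w : GL chevF4.Idx F) :
    X 45 u * (X 27 t * w) = X 27 t * (X 45 u * w) := by
  simpa using sw_of 27 45 [] (by decide +kernel) u t w

theorem q27_46 (u t : F) (w : GL chevF4.Idx F) :
    X 46 u * (X 27 t * w) = X 27 t * (X 46 u * w) := by
  simpa using sw_of 27 46 [] (by decide +kernel) u t w

theorem q27_47 (u t : F) (w : GL chevF4.Idx F) :
    X 47 u * (X 27 t * w) = X 27 t * (X 47 u * w) := by
  simpa using sw_of 27 47 [] (by decide +kernel) u t w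

theorem q28_29 (u t : F) (w : GL chevF4.Idx F) :
    X 29 u * (X 28 t * w) = X 28 t * (X 29 u * w) := by
  simpa using sw_of 28 29 [] (by decide +kernel) u t w

theorem q28_30 (u t : F) (w : GL chevF4.Idx F) :
    X 30 u * (X 28 t * w) = X 28 t * (X 30 u * w) := by
  simpa using sw_of 28 30 [] (by decide +kernel) u t w

theorem q28_31 (u t : F) (w : GL chevF4.Idx F) :
    X 31 u * (X 28 t * w) = X 28 t * (X 31 u * w) := by
  simpa using sw_of 28 31 [] (by decide +kernel) u t w

theorem q28_32 (u t : F) (w : GL chevF4.Idx F) :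
    X 32 u * (X 28 t * w) = X 28 t * (X 32 u * w) := by
  simpa using sw_of 28 32 [] (by decide +kernel) u t w

theorem q28_33 (u t : F) (w : GL chevF4.Idx F) :
    X 33 u * (X 28 t * w) = X 28 t * (X 33 u * (X 35 (t * u) * w)) := by
  simpa using sw_of 28 33 [(35, 1, 1)] (by decide +kernel) u t w

theorem q28_34 (u t : F) (w : GL chevF4.Idx F) :
    X 34 u * (X 28 t * w) = X 28 t * (X 34 u * (X 37 (t * u) * w)) := by
  simpa using sw_of 28 34 [(37, 1, 1)] (by decide +kernel) u t w

theorem q28_35 (u t : F) (w : GL chevF4.Idx F) :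
    X 35 u * (X 28 t * w) = X 28 t * (X 35 u * w) := by
  simpa using sw_of 28 35 [] (by decide +kernel) u t w

theorem q28_36 (u t : F) (w : GL chevF4.Idx F) :
    X 36 u * (X 28 t * w) = X 28 t * (X 36 u * (X 39 (t * u) * w)) := by
  simpa using sw_of 28 36 [(39, 1, 1)] (by decide +kernel) u t w

theorem q28_37 (u t : F) (w : GL chevF4.Idx F) :
    X 37 u * (X 28 t * w) = X 28 t * (X 37 u * w) := by
  simpa using sw_of 28 37 [] (by decide +kernel) u t w

theorem q28_38 (u t : F) (w : GL chevF4.Idx F) :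
    X 38 u * (X 28 t * w) = X 28 t * (X 38 u * (X 40 (t * u) * w)) := by
  simpa using sw_of 28 38 [(40, 1, 1)] (by decide +kernel) u t w

theorem q28_39 (u t : F) (w : GL chevF4.Idx F) :
    X 39 u * (X 28 t * w) = X 28 t * (X 39 u * w) := by
  simpa using sw_of 28 39 [] (by decide +kernel) u t w

theorem q28_40 (u t : F) (w : GL chevF4.Idx F) :
    X 40 u * (X 28 t * w) = X 28 t * (X 40 u * w) := by
  simpa using sw_of 28 40 [] (by decide +kernel) u t w

theorem q28_41 (u t : F) (w : GL chevF4.Idx F) :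
    X 41 u * (X 28 t * w) = X 28 t * (X 41 u * w) := by
  simpa using sw_of 28 41 [] (by decide +kernel) u t w

theorem q28_42 (u t : F) (w : GL chevF4.Idx F) :
    X 42 u * (X 28 t * w) = X 28 t * (X 42 u * (X 44 (t * u) * (X 46 (t ^ 2 * u) * w))) := by
  simpa using sw_of 28 42 [(44, 1, 1), (46, 2, 1)] (by decide +kernel) u t w

theorem q28_43 (u t : F) (w : GL chevF4.Idx F) :
    X 43 u * (X 28 t * w) = X 28 t * (X 43 u * w) := by
  simpa using sw_of 28 43 [] (by decide +kernel) u t w

theorem q28_44 (u t : F) (w : GL chevF4.Idx F) :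
    X 44 u * (X 28 t * w) = X 28 t * (X 44 u * w) := by
  simpa using sw_of 28 44 [] (by decide +kernel) u t w

theorem q28_45 (u t : F) (w : GL chevF4.Idx F) :
    X 45 u * (X 28 t * w) = X 28 t * (X 45 u * w) := by
  simpa using sw_of 28 45 [] (by decide +kernel) u t w

theorem q28_46 (u t : F) (w : GL chevF4.Idx F) :
    X 46 u * (X 28 t * w) = X 28 t * (X 46 u * w) := by
  simpa using sw_of 28 46 [] (by decide +kernel) u t w

theorem q28_47 (u t : F) (w : GL chevF4.Idx F) :
    X 47 u * (X 28 t * w) = X 28 t * (X 47 u * w) := by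
  simpa using sw_of 28 47 [] (by decide +kernel) u t w

theorem q29_30 (u t : F) (w : GL chevF4.Idx F) :
    X 30 u * (X 29 t * w) = X 29 t * (X 30 u * w) := by
  simpa using sw_of 29 30 [] (by decide +kernel) u t w

theorem q29_31 (u t : F) (w : GL chevF4.Idx F) :
    X 31 u * (X 29 t * w) = X 29 t * (X 31 u * w) := by
  simpa using sw_of 29 31 [] (by decide +kernel) u t w

theorem q29_32 (u t : F) (w : GL chevF4.Idx F) :
    X 32 u * (X 29 t * w) = X 29 t * (X 32 u * w) := by
  simpa using sw_of 29 32 [] (by decide +kernel) u t w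

theorem q29_33 (u t : F) (w : GL chevF4.Idx F) :
    X 33 u * (X 29 t * w) = X 29 t * (X 33 u * (X 36 (t * u) * w)) := by
  simpa using sw_of 29 33 [(36, 1, 1)] (by decide +kernel) u t w

theorem q29_34 (u t : F) (w : GL chevF4.Idx F) :
    X 34 u * (X 29 t * w) = X 29 t * (X 34 u * (X 38 (t * u) * w)) := by
  simpa using sw_of 29 34 [(38, 1, 1)] (by decide +kernel) u t w

theorem q29_35 (u t : F) (w : GL chevF4.Idx F) :
    X 35 u * (X 29 t * w) = X 29 t * (X 35 u * (X 39 (t * u) * w)) := by
  simpa using sw_of 29 35 [(39, 1, 1)] (by decide +kernel) u t w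

theorem q29_36 (u t : F) (w : GL chevF4.Idx F) :
    X 36 u * (X 29 t * w) = X 29 t * (X 36 u * w) := by
  simpa using sw_of 29 36 [] (by decide +kernel) u t w

theorem q29_37 (u t : F) (w : GL chevF4.Idx F) :
    X 37 u * (X 29 t * w) = X 29 t * (X 37 u * (X 40 (t * u) * w)) := by
  simpa using sw_of 29 37 [(40, 1, 1)] (by decide +kernel) u t w

theorem q29_38 (u t : F) (w : GL chevF4.Idx F) :
    X 38 u * (X 29 t * w) = X 29 t * (X 38 u * w) := by
  simpa using sw_of 29 38 [] (by decide +kernel) u t w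

theorem q29_39 (u t : F) (w : GL chevF4.Idx F) :
    X 39 u * (X 29 t * w) = X 29 t * (X 39 u * w) := by
  simpa using sw_of 29 39 [] (by decide +kernel) u t w

theorem q29_40 (u t : F) (w : GL chevF4.Idx F) :
    X 40 u * (X 29 t * w) = X 29 t * (X 40 u * w) := by
  simpa using sw_of 29 40 [] (by decide +kernel) u t w

theorem q29_41 (u t : F) (w : GL chevF4.Idx F) :
    X 41 u * (X 29 t * w) = X 29 t * (X 41 u * (X 44 (t * u) * (X 47 (t ^ 2 * u) * w))) := by
  simpa using sw_of 29 41 [(44, 1, 1), (47, 2, 1)] (by decide +kernel) u t w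

theorem q29_42 (u t : F) (w : GL chevF4.Idx F) :
    X 42 u * (X 29 t * w) = X 29 t * (X 42 u * w) := by
  simpa using sw_of 29 42 [] (by decide +kernel) u t w

theorem q29_43 (u t : F) (w : GL chevF4.Idx F) :
    X 43 u * (X 29 t * w) = X 29 t * (X 43 u * w) := by
  simpa using sw_of 29 43 [] (by decide +kernel) u t w

theorem q29_44 (u t : F) (w : GL chevF4.Idx F) :
    X 44 u * (X 29 t * w) = X 29 t * (X 44 u * w) := by
  simpa using sw_of 29 44 [] (by decide +kernel) u t w

theorem q29_45 (u t : F) (w : GL chevF4.Idx F) :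
    X 45 u * (X 29 t * w) = X 29 t * (X 45 u * w) := by
  simpa using sw_of 29 45 [] (by decide +kernel) u t w

theorem q29_46 (u t : F) (w : GL chevF4.Idx F) :
    X 46 u * (X 29 t * w) = X 29 t * (X 46 u * w) := by
  simpa using sw_of 29 46 [] (by decide +kernel) u t w

theorem q29_47 (u t : F) (w : GL chevF4.Idx F) :
    X 47 u * (X 29 t * w) = X 29 t * (X 47 u * w) := by
  simpa using sw_of 29 47 [] (by decide +kernel) u t w

theorem q30_31 (u t : F) (w : GL chevF4.Idx F) :
    X 31 u * (X 30 t * w) = X 30 t * (X 31 u * w) := by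
  simpa using sw_of 30 31 [] (by decide +kernel) u t w

theorem q30_32 (u t : F) (w : GL chevF4.Idx F) :
    X 32 u * (X 30 t * w) = X 30 t * (X 32 u * w) := by
  simpa using sw_of 30 32 [] (by decide +kernel) u t w

theorem q30_33 (u t : F) (w : GL chevF4.Idx F) :
    X 33 u * (X 30 t * w) = X 30 t * (X 33 u * (X 37 (t * u) * (X 41 (t * u ^ 2) * w))) := by
  simpa using sw_of 30 33 [(37, 1, 1), (41, 1, 2)] (by decide +kernel) u t w

theorem q30_34 (u t : F) (w : GL chevF4.Idx F) :
    X 34 u * (X 30 t * w) = X 30 t * (X 34 u * w) := by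
  simpa using sw_of 30 34 [] (by decide +kernel) u t w

theorem q30_35 (u t : F) (w : GL chevF4.Idx F) :
    X 35 u * (X 30 t * w) = X 30 t * (X 35 u * w) := by
  simpa using sw_of 30 35 [] (by decide +kernel) u t w

theorem q30_36 (u t : F) (w : GL chevF4.Idx F) :
    X 36 u * (X 30 t * w) = X 30 t * (X 36 u * (X 40 (t * u) * (X 47 (t * u ^ 2) * w))) := by
  simpa using sw_of 30 36 [(40, 1, 1), (47, 1, 2)] (by decide +kernel) u t w

theorem q30_37 (u t : F) (w : GL chevF4.Idx F) :
    X 37 u * (X 30 t * w) = X 30 t * (X 37 u * w) := by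
  simpa using sw_of 30 37 [] (by decide +kernel) u t w

theorem q30_38 (u t : F) (w : GL chevF4.Idx F) :
    X 38 u * (X 30 t * w) = X 30 t * (X 38 u * w) := by
  simpa using sw_of 30 38 [] (by decide +kernel) u t w

theorem q30_39 (u t : F) (w : GL chevF4.Idx F) :
    X 39 u * (X 30 t * w) = X 30 t * (X 39 u * w) := by
  simpa using sw_of 30 39 [] (by decide +kernel) u t w

theorem q30_40 (u t : F) (w : GL chevF4.Idx F) :
    X 40 u * (X 30 t * w) = X 30 t * (X 40 u * w) := by
  simpa using sw_of 30 40 [] (by decide +kernel) u t w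

theorem q30_41 (u t : F) (w : GL chevF4.Idx F) :
    X 41 u * (X 30 t * w) = X 30 t * (X 41 u * w) := by
  simpa using sw_of 30 41 [] (by decide +kernel) u t w

theorem q30_42 (u t : F) (w : GL chevF4.Idx F) :
    X 42 u * (X 30 t * w) = X 30 t * (X 42 u * (X 45 (t * u) * w)) := by
  simpa using sw_of 30 42 [(45, 1, 1)] (by decide +kernel) u t w

theorem q30_43 (u t : F) (w : GL chevF4.Idx F) :
    X 43 u * (X 30 t * w) = X 30 t * (X 43 u * (X 46 (t * u) * w)) := by
  simpa using sw_of 30 43 [(46, 1, 1)] (by decide +kernel) u t w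

theorem q30_44 (u t : F) (w : GL chevF4.Idx F) :
    X 44 u * (X 30 t * w) = X 30 t * (X 44 u * w) := by
  simpa using sw_of 30 44 [] (by decide +kernel) u t w

theorem q30_45 (u t : F) (w : GL chevF4.Idx F) :
    X 45 u * (X 30 t * w) = X 30 t * (X 45 u * w) := by
  simpa using sw_of 30 45 [] (by decide +kernel) u t w

theorem q30_46 (u t : F) (w : GL chevF4.Idx F) :
    X 46 u * (X 30 t * w) = X 30 t * (X 46 u * w) := by
  simpa using sw_of 30 46 [] (by decide +kernel) u t w

theorem q30_47 (u t : F) (w : GL chevF4.Idx F) :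
    X 47 u * (X 30 t * w) = X 30 t * (X 47 u * w) := by
  simpa using sw_of 30 47 [] (by decide +kernel) u t w

theorem q31_32 (u t : F) (w : GL chevF4.Idx F) :
    X 32 u * (X 31 t * w) = X 31 t * (X 32 u * w) := by
  simpa using sw_of 31 32 [] (by decide +kernel) u t w

theorem q31_33 (u t : F) (w : GL chevF4.Idx F) :
    X 33 u * (X 31 t * w) = X 31 t * (X 33 u * (X 38 (t * u) * (X 42 (t * u ^ 2) * w))) := by
  simpa using sw_of 31 33 [(38, 1, 1), (42, 1, 2)] (by decide +kernel) u t w

theorem q31_34 (u t : F) (w : GL chevF4.Idx F) :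
    X 34 u * (X 31 t * w) = X 31 t * (X 34 u * w) := by
  simpa using sw_of 31 34 [] (by decide +kernel) u t w

theorem q31_35 (u t : F) (w : GL chevF4.Idx F) :
    X 35 u * (X 31 t * w) = X 31 t * (X 35 u * (X 40 (t * u) * (X 46 (t * u ^ 2) * w))) := by
  simpa using sw_of 31 35 [(40, 1, 1), (46, 1, 2)] (by decide +kernel) u t w

theorem q31_36 (u t : F) (w : GL chevF4.Idx F) :
    X 36 u * (X 31 t * w) = X 31 t * (X 36 u * w) := by
  simpa using sw_of 31 36 [] (by decide +kernel) u t w

theorem q31_37 (u t : F) (w : GL chevF4.Idx F) :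
    X 37 u * (X 31 t * w) = X 31 t * (X 37 u * w) := by
  simpa using sw_of 31 37 [] (by decide +kernel) u t w

theorem q31_38 (u t : F) (w : GL chevF4.Idx F) :
    X 38 u * (X 31 t * w) = X 31 t * (X 38 u * w) := by
  simpa using sw_of 31 38 [] (by decide +kernel) u t w

theorem q31_39 (u t : F) (w : GL chevF4.Idx F) :
    X 39 u * (X 31 t * w) = X 31 t * (X 39 u * w) := by
  simpa using sw_of 31 39 [] (by decide +kernel) u t w

theorem q31_40 (u t : F) (w : GL chevF4.Idx F) :
    X 40 u * (X 31 t * w) = X 31 t * (X 40 u * w) := by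
  simpa using sw_of 31 40 [] (by decide +kernel) u t w

theorem q31_41 (u t : F) (w : GL chevF4.Idx F) :
    X 41 u * (X 31 t * w) = X 31 t * (X 41 u * (X 45 (t * u) * w)) := by
  simpa using sw_of 31 41 [(45, 1, 1)] (by decide +kernel) u t w

theorem q31_42 (u t : F) (w : GL chevF4.Idx F) :
    X 42 u * (X 31 t * w) = X 31 t * (X 42 u * w) := by
  simpa using sw_of 31 42 [] (by decide +kernel) u t w

theorem q31_43 (u t : F) (w : GL chevF4.Idx F) :
    X 43 u * (X 31 t * w) = X 31 t * (X 43 u * (X 47 (t * u) * w)) := by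
  simpa using sw_of 31 43 [(47, 1, 1)] (by decide +kernel) u t w

theorem q31_44 (u t : F) (w : GL chevF4.Idx F) :
    X 44 u * (X 31 t * w) = X 31 t * (X 44 u * w) := by
  simpa using sw_of 31 44 [] (by decide +kernel) u t w

theorem q31_45 (u t : F) (w : GL chevF4.Idx F) :
    X 45 u * (X 31 t * w) = X 31 t * (X 45 u * w) := by
  simpa using sw_of 31 45 [] (by decide +kernel) u t w

theorem q31_46 (u t : F) (w : GL chevF4.Idx F) :
    X 46 u * (X 31 t * w) = X 31 t * (X 46 u * w) := by
  simpa using sw_of 31 46 [] (by decide +kernel) u t w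

theorem q31_47 (u t : F) (w : GL chevF4.Idx F) :
    X 47 u * (X 31 t * w) = X 31 t * (X 47 u * w) := by
  simpa using sw_of 31 47 [] (by decide +kernel) u t w

theorem q32_33 (u t : F) (w : GL chevF4.Idx F) :
    X 33 u * (X 32 t * w) = X 32 t * (X 33 u * (X 39 (t * u) * (X 43 (t * u ^ 2) * w))) := by
  simpa using sw_of 32 33 [(39, 1, 1), (43, 1, 2)] (by decide +kernel) u t w

theorem q32_34 (u t : F) (w : GL chevF4.Idx F) :
    X 34 u * (X 32 t * w) = X 32 t * (X 34 u * (X 40 (t * u) * (X 45 (t * u ^ 2) * w))) := by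
  simpa using sw_of 32 34 [(40, 1, 1), (45, 1, 2)] (by decide +kernel) u t w

theorem q32_35 (u t : F) (w : GL chevF4.Idx F) :
    X 35 u * (X 32 t * w) = X 32 t * (X 35 u * w) := by
  simpa using sw_of 32 35 [] (by decide +kernel) u t w

theorem q32_36 (u t : F) (w : GL chevF4.Idx F) :
    X 36 u * (X 32 t * w) = X 32 t * (X 36 u * w) := by
  simpa using sw_of 32 36 [] (by decide +kernel) u t w

theorem q32_37 (u t : F) (w : GL chevF4.Idx F) :
    X 37 u * (X 32 t * w) = X 32 t * (X 37 u * w) := by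
  simpa using sw_of 32 37 [] (by decide +kernel) u t w

theorem q32_38 (u t : F) (w : GL chevF4.Idx F) :
    X 38 u * (X 32 t * w) = X 32 t * (X 38 u * w) := by
  simpa using sw_of 32 38 [] (by decide +kernel) u t w

theorem q32_39 (u t : F) (w : GL chevF4.Idx F) :
    X 39 u * (X 32 t * w) = X 32 t * (X 39 u * w) := by
  simpa using sw_of 32 39 [] (by decide +kernel) u t w

theorem q32_40 (u t : F) (w : GL chevF4.Idx F) :
    X 40 u * (X 32 t * w) = X 32 t * (X 40 u * w) := by
  simpa using sw_of 32 40 [] (by decide +kernel) u t w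

theorem q32_41 (u t : F) (w : GL chevF4.Idx F) :
    X 41 u * (X 32 t * w) = X 32 t * (X 41 u * (X 46 (t * u) * w)) := by
  simpa using sw_of 32 41 [(46, 1, 1)] (by decide +kernel) u t w

theorem q32_42 (u t : F) (w : GL chevF4.Idx F) :
    X 42 u * (X 32 t * w) = X 32 t * (X 42 u * (X 47 (t * u) * w)) := by
  simpa using sw_of 32 42 [(47, 1, 1)] (by decide +kernel) u t w

theorem q32_43 (u t : F) (w : GL chevF4.Idx F) :
    X 43 u * (X 32 t * w) = X 32 t * (X 43 u * w) := by
  simpa using sw_of 32 43 [] (by decide +kernel) u t w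

theorem q32_44 (u t : F) (w : GL chevF4.Idx F) :
    X 44 u * (X 32 t * w) = X 32 t * (X 44 u * w) := by
  simpa using sw_of 32 44 [] (by decide +kernel) u t w

theorem q32_45 (u t : F) (w : GL chevF4.Idx F) :
    X 45 u * (X 32 t * w) = X 32 t * (X 45 u * w) := by
  simpa using sw_of 32 45 [] (by decide +kernel) u t w

theorem q32_46 (u t : F) (w : GL chevF4.Idx F) :
    X 46 u * (X 32 t * w) = X 32 t * (X 46 u * w) := by
  simpa using sw_of 32 46 [] (by decide +kernel) u t w

theorem q32_47 (u t : F) (w : GL chevF4.Idx F) :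
    X 47 u * (X 32 t * w) = X 32 t * (X 47 u * w) := by
  simpa using sw_of 32 47 [] (by decide +kernel) u t w

theorem q33_34 (u t : F) (w : GL chevF4.Idx F) :
    X 34 u * (X 33 t * w) = X 33 t * (X 34 u * w) := by
  simpa using sw_of 33 34 [] (by decide +kernel) u t w

theorem q33_35 (u t : F) (w : GL chevF4.Idx F) :
    X 35 u * (X 33 t * w) = X 33 t * (X 35 u * w) := by
  simpa using sw_of 33 35 [] (by decide +kernel) u t w

theorem q33_36 (u t : F) (w : GL chevF4.Idx F) :
    X 36 u * (X 33 t * w) = X 33 t * (X 36 u * w) := by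
  simpa using sw_of 33 36 [] (by decide +kernel) u t w

theorem q33_37 (u t : F) (w : GL chevF4.Idx F) :
    X 37 u * (X 33 t * w) = X 33 t * (X 37 u * w) := by
  simpa using sw_of 33 37 [] (by decide +kernel) u t w

theorem q33_38 (u t : F) (w : GL chevF4.Idx F) :
    X 38 u * (X 33 t * w) = X 33 t * (X 38 u * w) := by
  simpa using sw_of 33 38 [] (by decide +kernel) u t w

theorem q33_39 (u t : F) (w : GL chevF4.Idx F) :
    X 39 u * (X 33 t * w) = X 33 t * (X 39 u * w) := by
  simpa using sw_of 33 39 [] (by decide +kernel) u t w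

theorem q33_40 (u t : F) (w : GL chevF4.Idx F) :
    X 40 u * (X 33 t * w) = X 33 t * (X 40 u * (X 44 (t * u) * w)) := by
  simpa using sw_of 33 40 [(44, 1, 1)] (by decide +kernel) u t w

theorem q33_41 (u t : F) (w : GL chevF4.Idx F) :
    X 41 u * (X 33 t * w) = X 33 t * (X 41 u * w) := by
  simpa using sw_of 33 41 [] (by decide +kernel) u t w

theorem q33_42 (u t : F) (w : GL chevF4.Idx F) :
    X 42 u * (X 33 t * w) = X 33 t * (X 42 u * w) := by
  simpa using sw_of 33 42 [] (by decide +kernel) u t w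

theorem q33_43 (u t : F) (w : GL chevF4.Idx F) :
    X 43 u * (X 33 t * w) = X 33 t * (X 43 u * w) := by
  simpa using sw_of 33 43 [] (by decide +kernel) u t w

theorem q33_44 (u t : F) (w : GL chevF4.Idx F) :
    X 44 u * (X 33 t * w) = X 33 t * (X 44 u * w) := by
  simpa using sw_of 33 44 [] (by decide +kernel) u t w

theorem q33_45 (u t : F) (w : GL chevF4.Idx F) :
    X 45 u * (X 33 t * w) = X 33 t * (X 45 u * w) := by
  simpa using sw_of 33 45 [] (by decide +kernel) u t w

theorem q33_46 (u t : F) (w : GL chevF4.Idx F) :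
    X 46 u * (X 33 t * w) = X 33 t * (X 46 u * w) := by
  simpa using sw_of 33 46 [] (by decide +kernel) u t w

theorem q33_47 (u t : F) (w : GL chevF4.Idx F) :
    X 47 u * (X 33 t * w) = X 33 t * (X 47 u * w) := by
  simpa using sw_of 33 47 [] (by decide +kernel) u t w

theorem q34_35 (u t : F) (w : GL chevF4.Idx F) :
    X 35 u * (X 34 t * w) = X 34 t * (X 35 u * w) := by
  simpa using sw_of 34 35 [] (by decide +kernel) u t w

theorem q34_36 (u t : F) (w : GL chevF4.Idx F) :
    X 36 u * (X 34 t * w) = X 34 t * (X 36 u * w) := by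
  simpa using sw_of 34 36 [] (by decide +kernel) u t w

theorem q34_37 (u t : F) (w : GL chevF4.Idx F) :
    X 37 u * (X 34 t * w) = X 34 t * (X 37 u * w) := by
  simpa using sw_of 34 37 [] (by decide +kernel) u t w

theorem q34_38 (u t : F) (w : GL chevF4.Idx F) :
    X 38 u * (X 34 t * w) = X 34 t * (X 38 u * w) := by
  simpa using sw_of 34 38 [] (by decide +kernel) u t w

theorem q34_39 (u t : F) (w : GL chevF4.Idx F) :
    X 39 u * (X 34 t * w) = X 34 t * (X 39 u * (X 44 (t * u) * w)) := by
  simpa using sw_of 34 39 [(44, 1, 1)] (by decide +kernel) u t w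

theorem q34_40 (u t : F) (w : GL chevF4.Idx F) :
    X 40 u * (X 34 t * w) = X 34 t * (X 40 u * w) := by
  simpa using sw_of 34 40 [] (by decide +kernel) u t w

theorem q34_41 (u t : F) (w : GL chevF4.Idx F) :
    X 41 u * (X 34 t * w) = X 34 t * (X 41 u * w) := by
  simpa using sw_of 34 41 [] (by decide +kernel) u t w

theorem q34_42 (u t : F) (w : GL chevF4.Idx F) :
    X 42 u * (X 34 t * w) = X 34 t * (X 42 u * w) := by
  simpa using sw_of 34 42 [] (by decide +kernel) u t w

theorem q34_43 (u t : F) (w : GL chevF4.Idx F) :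
    X 43 u * (X 34 t * w) = X 34 t * (X 43 u * w) := by
  simpa using sw_of 34 43 [] (by decide +kernel) u t w

theorem q34_44 (u t : F) (w : GL chevF4.Idx F) :
    X 44 u * (X 34 t * w) = X 34 t * (X 44 u * w) := by
  simpa using sw_of 34 44 [] (by decide +kernel) u t w

theorem q34_45 (u t : F) (w : GL chevF4.Idx F) :
    X 45 u * (X 34 t * w) = X 34 t * (X 45 u * w) := by
  simpa using sw_of 34 45 [] (by decide +kernel) u t w

theorem q34_46 (u t : F) (w : GL chevF4.Idx F) :
    X 46 u * (X 34 t * w) = X 34 t * (X 46 u * w) := by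
  simpa using sw_of 34 46 [] (by decide +kernel) u t w

theorem q34_47 (u t : F) (w : GL chevF4.Idx F) :
    X 47 u * (X 34 t * w) = X 34 t * (X 47 u * w) := by
  simpa using sw_of 34 47 [] (by decide +kernel) u t w

theorem q35_36 (u t : F) (w : GL chevF4.Idx F) :
    X 36 u * (X 35 t * w) = X 35 t * (X 36 u * w) := by
  simpa using sw_of 35 36 [] (by decide +kernel) u t w

theorem q35_37 (u t : F) (w : GL chevF4.Idx F) :
    X 37 u * (X 35 t * w) = X 35 t * (X 37 u * w) := by
  simpa using sw_of 35 37 [] (by decide +kernel) u t w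

theorem q35_38 (u t : F) (w : GL chevF4.Idx F) :
    X 38 u * (X 35 t * w) = X 35 t * (X 38 u * (X 44 (t * u) * w)) := by
  simpa using sw_of 35 38 [(44, 1, 1)] (by decide +kernel) u t w

theorem q35_39 (u t : F) (w : GL chevF4.Idx F) :
    X 39 u * (X 35 t * w) = X 35 t * (X 39 u * w) := by
  simpa using sw_of 35 39 [] (by decide +kernel) u t w

theorem q35_40 (u t : F) (w : GL chevF4.Idx F) :
    X 40 u * (X 35 t * w) = X 35 t * (X 40 u * w) := by
  simpa using sw_of 35 40 [] (by decide +kernel) u t w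

theorem q35_41 (u t : F) (w : GL chevF4.Idx F) :
    X 41 u * (X 35 t * w) = X 35 t * (X 41 u * w) := by
  simpa using sw_of 35 41 [] (by decide +kernel) u t w

theorem q35_42 (u t : F) (w : GL chevF4.Idx F) :
    X 42 u * (X 35 t * w) = X 35 t * (X 42 u * w) := by
  simpa using sw_of 35 42 [] (by decide +kernel) u t w

theorem q35_43 (u t : F) (w : GL chevF4.Idx F) :
    X 43 u * (X 35 t * w) = X 35 t * (X 43 u * w) := by
  simpa using sw_of 35 43 [] (by decide +kernel) u t w

theorem q35_44 (u t : F) (w : GL chevF4.Idx F) :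
    X 44 u * (X 35 t * w) = X 35 t * (X 44 u * w) := by
  simpa using sw_of 35 44 [] (by decide +kernel) u t w

theorem q35_45 (u t : F) (w : GL chevF4.Idx F) :
    X 45 u * (X 35 t * w) = X 35 t * (X 45 u * w) := by
  simpa using sw_of 35 45 [] (by decide +kernel) u t w

theorem q35_46 (u t : F) (w : GL chevF4.Idx F) :
    X 46 u * (X 35 t * w) = X 35 t * (X 46 u * w) := by
  simpa using sw_of 35 46 [] (by decide +kernel) u t w

theorem q35_47 (u t : F) (w : GL chevF4.Idx F) :
    X 47 u * (X 35 t * w) = X 35 t * (X 47 u * w) := by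
  simpa using sw_of 35 47 [] (by decide +kernel) u t w

theorem q36_37 (u t : F) (w : GL chevF4.Idx F) :
    X 37 u * (X 36 t * w) = X 36 t * (X 37 u * (X 44 (t * u) * w)) := by
  simpa using sw_of 36 37 [(44, 1, 1)] (by decide +kernel) u t w

theorem q36_38 (u t : F) (w : GL chevF4.Idx F) :
    X 38 u * (X 36 t * w) = X 36 t * (X 38 u * w) := by
  simpa using sw_of 36 38 [] (by decide +kernel) u t w

theorem q36_39 (u t : F) (w : GL chevF4.Idx F) :
    X 39 u * (X 36 t * w) = X 36 t * (X 39 u * w) := by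
  simpa using sw_of 36 39 [] (by decide +kernel) u t w

theorem q36_40 (u t : F) (w : GL chevF4.Idx F) :
    X 40 u * (X 36 t * w) = X 36 t * (X 40 u * w) := by
  simpa using sw_of 36 40 [] (by decide +kernel) u t w

theorem q36_41 (u t : F) (w : GL chevF4.Idx F) :
    X 41 u * (X 36 t * w) = X 36 t * (X 41 u * w) := by
  simpa using sw_of 36 41 [] (by decide +kernel) u t w

theorem q36_42 (u t : F) (w : GL chevF4.Idx F) :
    X 42 u * (X 36 t * w) = X 36 t * (X 42 u * w) := by
  simpa using sw_of 36 42 [] (by decide +kernel) u t w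

theorem q36_43 (u t : F) (w : GL chevF4.Idx F) :
    X 43 u * (X 36 t * w) = X 36 t * (X 43 u * w) := by
  simpa using sw_of 36 43 [] (by decide +kernel) u t w

theorem q36_44 (u t : F) (w : GL chevF4.Idx F) :
    X 44 u * (X 36 t * w) = X 36 t * (X 44 u * w) := by
  simpa using sw_of 36 44 [] (by decide +kernel) u t w

theorem q36_45 (u t : F) (w : GL chevF4.Idx F) :
    X 45 u * (X 36 t * w) = X 36 t * (X 45 u * w) := by
  simpa using sw_of 36 45 [] (by decide +kernel) u t w

theorem q36_46 (u t : F) (w : GL chevF4.Idx F) :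
    X 46 u * (X 36 t * w) = X 36 t * (X 46 u * w) := by
  simpa using sw_of 36 46 [] (by decide +kernel) u t w

theorem q36_47 (u t : F) (w : GL chevF4.Idx F) :
    X 47 u * (X 36 t * w) = X 36 t * (X 47 u * w) := by
  simpa using sw_of 36 47 [] (by decide +kernel) u t w

theorem q37_38 (u t : F) (w : GL chevF4.Idx F) :
    X 38 u * (X 37 t * w) = X 37 t * (X 38 u * w) := by
  simpa using sw_of 37 38 [] (by decide +kernel) u t w

theorem q37_39 (u t : F) (w : GL chevF4.Idx F) :
    X 39 u * (X 37 t * w) = X 37 t * (X 39 u * w) := by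
  simpa using sw_of 37 39 [] (by decide +kernel) u t w

theorem q37_40 (u t : F) (w : GL chevF4.Idx F) :
    X 40 u * (X 37 t * w) = X 37 t * (X 40 u * w) := by
  simpa using sw_of 37 40 [] (by decide +kernel) u t w

theorem q37_41 (u t : F) (w : GL chevF4.Idx F) :
    X 41 u * (X 37 t * w) = X 37 t * (X 41 u * w) := by
  simpa using sw_of 37 41 [] (by decide +kernel) u t w

theorem q37_42 (u t : F) (w : GL chevF4.Idx F) :
    X 42 u * (X 37 t * w) = X 37 t * (X 42 u * w) := by
  simpa using sw_of 37 42 [] (by decide +kernel) u t w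

theorem q37_43 (u t : F) (w : GL chevF4.Idx F) :
    X 43 u * (X 37 t * w) = X 37 t * (X 43 u * w) := by
  simpa using sw_of 37 43 [] (by decide +kernel) u t w

theorem q37_44 (u t : F) (w : GL chevF4.Idx F) :
    X 44 u * (X 37 t * w) = X 37 t * (X 44 u * w) := by
  simpa using sw_of 37 44 [] (by decide +kernel) u t w

theorem q37_45 (u t : F) (w : GL chevF4.Idx F) :
    X 45 u * (X 37 t * w) = X 37 t * (X 45 u * w) := by
  simpa using sw_of 37 45 [] (by decide +kernel) u t w

theorem q37_46 (u t : F) (w : GL chevF4.Idx F) :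
    X 46 u * (X 37 t * w) = X 37 t * (X 46 u * w) := by
  simpa using sw_of 37 46 [] (by decide +kernel) u t w

theorem q37_47 (u t : F) (w : GL chevF4.Idx F) :
    X 47 u * (X 37 t * w) = X 37 t * (X 47 u * w) := by
  simpa using sw_of 37 47 [] (by decide +kernel) u t w

theorem q38_39 (u t : F) (w : GL chevF4.Idx F) :
    X 39 u * (X 38 t * w) = X 38 t * (X 39 u * w) := by
  simpa using sw_of 38 39 [] (by decide +kernel) u t w

theorem q38_40 (u t : F) (w : GL chevF4.Idx F) :
    X 40 u * (X 38 t * w) = X 38 t * (X 40 u * w) := by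
  simpa using sw_of 38 40 [] (by decide +kernel) u t w

theorem q38_41 (u t : F) (w : GL chevF4.Idx F) :
    X 41 u * (X 38 t * w) = X 38 t * (X 41 u * w) := by
  simpa using sw_of 38 41 [] (by decide +kernel) u t w

theorem q38_42 (u t : F) (w : GL chevF4.Idx F) :
    X 42 u * (X 38 t * w) = X 38 t * (X 42 u * w) := by
  simpa using sw_of 38 42 [] (by decide +kernel) u t w

theorem q38_43 (u t : F) (w : GL chevF4.Idx F) :
    X 43 u * (X 38 t * w) = X 38 t * (X 43 u * w) := by
  simpa using sw_of 38 43 [] (by decide +kernel) u t w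

theorem q38_44 (u t : F) (w : GL chevF4.Idx F) :
    X 44 u * (X 38 t * w) = X 38 t * (X 44 u * w) := by
  simpa using sw_of 38 44 [] (by decide +kernel) u t w

theorem q38_45 (u t : F) (w : GL chevF4.Idx F) :
    X 45 u * (X 38 t * w) = X 38 t * (X 45 u * w) := by
  simpa using sw_of 38 45 [] (by decide +kernel) u t w

theorem q38_46 (u t : F) (w : GL chevF4.Idx F) :
    X 46 u * (X 38 t * w) = X 38 t * (X 46 u * w) := by
  simpa using sw_of 38 46 [] (by decide +kernel) u t w

theorem q38_47 (u t : F) (w : GL chevF4.Idx F) :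
    X 47 u * (X 38 t * w) = X 38 t * (X 47 u * w) := by
  simpa using sw_of 38 47 [] (by decide +kernel) u t w

theorem q39_40 (u t : F) (w : GL chevF4.Idx F) :
    X 40 u * (X 39 t * w) = X 39 t * (X 40 u * w) := by
  simpa using sw_of 39 40 [] (by decide +kernel) u t w

theorem q39_41 (u t : F) (w : GL chevF4.Idx F) :
    X 41 u * (X 39 t * w) = X 39 t * (X 41 u * w) := by
  simpa using sw_of 39 41 [] (by decide +kernel) u t w

theorem q39_42 (u t : F) (w : GL chevF4.Idx F) :
    X 42 u * (X 39 t * w) = X 39 t * (X 42 u * w) := by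
  simpa using sw_of 39 42 [] (by decide +kernel) u t w

theorem q39_43 (u t : F) (w : GL chevF4.Idx F) :
    X 43 u * (X 39 t * w) = X 39 t * (X 43 u * w) := by
  simpa using sw_of 39 43 [] (by decide +kernel) u t w

theorem q39_44 (u t : F) (w : GL chevF4.Idx F) :
    X 44 u * (X 39 t * w) = X 39 t * (X 44 u * w) := by
  simpa using sw_of 39 44 [] (by decide +kernel) u t w

theorem q39_45 (u t : F) (w : GL chevF4.Idx F) :
    X 45 u * (X 39 t * w) = X 39 t * (X 45 u * w) := by
  simpa using sw_of 39 45 [] (by decide +kernel) u t w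

theorem q39_46 (u t : F) (w : GL chevF4.Idx F) :
    X 46 u * (X 39 t * w) = X 39 t * (X 46 u * w) := by
  simpa using sw_of 39 46 [] (by decide +kernel) u t w

theorem q39_47 (u t : F) (w : GL chevF4.Idx F) :
    X 47 u * (X 39 t * w) = X 39 t * (X 47 u * w) := by
  simpa using sw_of 39 47 [] (by decide +kernel) u t w

theorem q40_41 (u t : F) (w : GL chevF4.Idx F) :
    X 41 u * (X 40 t * w) = X 40 t * (X 41 u * w) := by
  simpa using sw_of 40 41 [] (by decide +kernel) u t w

theorem q40_42 (u t : F) (w : GL chevF4.Idx F) :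
    X 42 u * (X 40 t * w) = X 40 t * (X 42 u * w) := by
  simpa using sw_of 40 42 [] (by decide +kernel) u t w

theorem q40_43 (u t : F) (w : GL chevF4.Idx F) :
    X 43 u * (X 40 t * w) = X 40 t * (X 43 u * w) := by
  simpa using sw_of 40 43 [] (by decide +kernel) u t w

theorem q40_44 (u t : F) (w : GL chevF4.Idx F) :
    X 44 u * (X 40 t * w) = X 40 t * (X 44 u * w) := by
  simpa using sw_of 40 44 [] (by decide +kernel) u t w

theorem q40_45 (u t : F) (w : GL chevF4.Idx F) :
    X 45 u * (X 40 t * w) = X 40 t * (X 45 u * w) := by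
  simpa using sw_of 40 45 [] (by decide +kernel) u t w

theorem q40_46 (u t : F) (w : GL chevF4.Idx F) :
    X 46 u * (X 40 t * w) = X 40 t * (X 46 u * w) := by
  simpa using sw_of 40 46 [] (by decide +kernel) u t w

theorem q40_47 (u t : F) (w : GL chevF4.Idx F) :
    X 47 u * (X 40 t * w) = X 40 t * (X 47 u * w) := by
  simpa using sw_of 40 47 [] (by decide +kernel) u t w

theorem q41_42 (u t : F) (w : GL chevF4.Idx F) :
    X 42 u * (X 41 t * w) = X 41 t * (X 42 u * w) := by
  simpa using sw_of 41 42 [] (by decide +kernel) u t w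

theorem q41_43 (u t : F) (w : GL chevF4.Idx F) :
    X 43 u * (X 41 t * w) = X 41 t * (X 43 u * w) := by
  simpa using sw_of 41 43 [] (by decide +kernel) u t w

theorem q41_44 (u t : F) (w : GL chevF4.Idx F) :
    X 44 u * (X 41 t * w) = X 41 t * (X 44 u * w) := by
  simpa using sw_of 41 44 [] (by decide +kernel) u t w

theorem q41_45 (u t : F) (w : GL chevF4.Idx F) :
    X 45 u * (X 41 t * w) = X 41 t * (X 45 u * w) := by
  simpa using sw_of 41 45 [] (by decide +kernel) u t w

theorem q41_46 (u t : F) (w : GL chevF4.Idx F) :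
    X 46 u * (X 41 t * w) = X 41 t * (X 46 u * w) := by
  simpa using sw_of 41 46 [] (by decide +kernel) u t w

theorem q41_47 (u t : F) (w : GL chevF4.Idx F) :
    X 47 u * (X 41 t * w) = X 41 t * (X 47 u * w) := by
  simpa using sw_of 41 47 [] (by decide +kernel) u t w

theorem q42_43 (u t : F) (w : GL chevF4.Idx F) :
    X 43 u * (X 42 t * w) = X 42 t * (X 43 u * w) := by
  simpa using sw_of 42 43 [] (by decide +kernel) u t w

theorem q42_44 (u t : F) (w : GL chevF4.Idx F) :
    X 44 u * (X 42 t * w) = X 42 t * (X 44 u * w) := by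
  simpa using sw_of 42 44 [] (by decide +kernel) u t w

theorem q42_45 (u t : F) (w : GL chevF4.Idx F) :
    X 45 u * (X 42 t * w) = X 42 t * (X 45 u * w) := by
  simpa using sw_of 42 45 [] (by decide +kernel) u t w

theorem q42_46 (u t : F) (w : GL chevF4.Idx F) :
    X 46 u * (X 42 t * w) = X 42 t * (X 46 u * w) := by
  simpa using sw_of 42 46 [] (by decide +kernel) u t w

theorem q42_47 (u t : F) (w : GL chevF4.Idx F) :
    X 47 u * (X 42 t * w) = X 42 t * (X 47 u * w) := by
  simpa using sw_of 42 47 [] (by decide +kernel) u t w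

theorem q43_44 (u t : F) (w : GL chevF4.Idx F) :
    X 44 u * (X 43 t * w) = X 43 t * (X 44 u * w) := by
  simpa using sw_of 43 44 [] (by decide +kernel) u t w

theorem q43_45 (u t : F) (w : GL chevF4.Idx F) :
    X 45 u * (X 43 t * w) = X 43 t * (X 45 u * w) := by
  simpa using sw_of 43 45 [] (by decide +kernel) u t w

theorem q43_46 (u t : F) (w : GL chevF4.Idx F) :
    X 46 u * (X 43 t * w) = X 43 t * (X 46 u * w) := by
  simpa using sw_of 43 46 [] (by decide +kernel) u t w

theorem q43_47 (u t : F) (w : GL chevF4.Idx F) :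
    X 47 u * (X 43 t * w) = X 43 t * (X 47 u * w) := by
  simpa using sw_of 43 47 [] (by decide +kernel) u t w

theorem q44_45 (u t : F) (w : GL chevF4.Idx F) :
    X 45 u * (X 44 t * w) = X 44 t * (X 45 u * w) := by
  simpa using sw_of 44 45 [] (by decide +kernel) u t w

theorem q44_46 (u t : F) (w : GL chevF4.Idx F) :
    X 46 u * (X 44 t * w) = X 44 t * (X 46 u * w) := by
  simpa using sw_of 44 46 [] (by decide +kernel) u t w

theorem q44_47 (u t : F) (w : GL chevF4.Idx F) :
    X 47 u * (X 44 t * w) = X 44 t * (X 47 u * w) := by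
  simpa using sw_of 44 47 [] (by decide +kernel) u t w

theorem q45_46 (u t : F) (w : GL chevF4.Idx F) :
    X 46 u * (X 45 t * w) = X 45 t * (X 46 u * w) := by
  simpa using sw_of 45 46 [] (by decide +kernel) u t w

theorem q45_47 (u t : F) (w : GL chevF4.Idx F) :
    X 47 u * (X 45 t * w) = X 45 t * (X 47 u * w) := by
  simpa using sw_of 45 47 [] (by decide +kernel) u t w

theorem q46_47 (u t : F) (w : GL chevF4.Idx F) :
    X 47 u * (X 46 t * w) = X 46 t * (X 47 u * w) := by
  simpa using sw_of 46 47 [] (by decide +kernel) u t w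

end CfsgLib.Twisted.F4Uni
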