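import Cfsg.Agent.Lib.TwistedStr.F4UnipotentRoots

/-!
The twisted coordinates of `²F₄` and their commutator relations, for a field endomorphism `θ`
with `(θ ∘ θ) x ^ 2 = x`.
-/

set_option maxHeartbeats 1000000

set_option autoImplicit false
set_option linter.unusedSectionVars false
set_option linter.unusedSimpArgs false
set_option linter.unreachableTactic false
set_option linter.unusedTactic false

namespace CfsgLib.Twisted.F4Uni

open Cfsg.Lie CfsgLib.ChevStr
open scoped MatrixGroups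


variable {F : Type*} [Field F] [CharP F 2]

/-- A half of the Frobenius. -/
class HalfFrob (θ : F →+* F) : Prop where
  eq : ∀ x, θ (θ x) ^ 2 = x

/-- The square of the half Frobenius. -/
def ph (θ : F →+* F) (x : F) : F := θ x ^ 2

/-- An element of a root group of `²F₄`. -/
noncomputable def A1 (θ : F →+* F) (t : F) : GL chevF4.Idx F :=
  X 27 (θ t) * (X 25 t * (X 28 (θ t * t)))

/-- An element of a root group of `²F₄`. -/
noncomputable def Z1 (θ : F →+* F) (t : F) : GL chevF4.Idx F :=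
  X 30 t * (X 28 (θ t))

/-- An element of a root group of `²F₄`. -/
noncomputable def T2 (θ : F →+* F) (t : F) : GL chevF4.Idx F :=
  X 32 t * (X 37 (θ t))

/-- An element of a root group of `²F₄`. -/
noncomputable def A3 (θ : F →+* F) (t : F) : GL chevF4.Idx F :=
  X 35 (θ t) * (X 31 t * (X 40 (θ t * t)))

/-- An element of a root group of `²F₄`. -/
noncomputable def Z3 (θ : F →+* F) (t : F) : GL chevF4.Idx F :=
  X 46 t * (X 40 (θ t))

/-- An element of a root group of `²F₄`. -/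
noncomputable def T4 (θ : F →+* F) (t : F) : GL chevF4.Idx F :=
  X 45 t * (X 39 (θ t))

/-- An element of a root group of `²F₄`. -/
noncomputable def A5 (θ : F →+* F) (t : F) : GL chevF4.Idx F :=
  X 29 (θ t) * (X 41 t * (X 44 (θ t * t)))

/-- An element of a root group of `²F₄`. -/
noncomputable def Z5 (θ : F →+* F) (t : F) : GL chevF4.Idx F :=
  X 47 t * (X 44 (θ t))

/-- An element of a root group of `²F₄`. -/
noncomputable def T6 (θ : F →+* F) (t : F) : GL chevF4.Idx F :=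
  X 43 t * (X 38 (θ t))

/-- An element of a root group of `²F₄`. -/
noncomputable def A7 (θ : F →+* F) (t : F) : GL chevF4.Idx F :=
  X 34 (θ t) * (X 26 t * (X 36 (θ t * t)))

/-- An element of a root group of `²F₄`. -/
noncomputable def Z7 (θ : F →+* F) (t : F) : GL chevF4.Idx F :=
  X 42 t * (X 36 (θ t))

/-- An element of a root group of `²F₄`. -/
noncomputable def T8 (θ : F →+* F) (t : F) : GL chevF4.Idx F :=
  X 24 t * (X 33 (θ t))

variable (θ : F →+* F) [hθ : HalfFrob θ]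

omit hθ in
theorem ph_zero : ph θ 0 = 0 := by simp [ph]

omit hθ in
theorem ph_mul (x y : F) : ph θ (x * y) = ph θ x * ph θ y := by simp [ph, mul_pow]

omit hθ in
theorem ph_add (x y : F) : ph θ (x + y) = ph θ x + ph θ y := by simp [ph, CharTwo.add_sq]

theorem ph_ph (x : F) : ph θ (ph θ x) = x * x := by
  rw [ph, ph, map_pow, HalfFrob.eq, sq]

theorem th_sq (x : F) : θ (θ x) ^ 2 = x := HalfFrob.eq x

omit hθ in
theorem mul_congr {x x' y y' : GL chevF4.Idx F} (h : x = x') (h' : y = y') : x * y = x' * y' := by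
  rw [h, h']

theorem num_char_two : (2 : F) = 0 ∧ (3 : F) = 1 ∧ (4 : F) = 0 ∧ (5 : F) = 1 ∧ (6 : F) = 0 ∧ (7 : F) = 1 ∧ (8 : F) = 0 ∧ (9 : F) = 1 ∧ (10 : F) = 0 ∧ (11 : F) = 1 ∧ (12 : F) = 0 ∧ (13 : F) = 1 ∧ (14 : F) = 0 ∧ (15 : F) = 1 ∧ (16 : F) = 0 ∧ (17 : F) = 1 ∧ (18 : F) = 0 ∧ (19 : F) = 1 ∧ (20 : F) = 0 ∧ (21 : F) = 1 ∧ (22 : F) = 0 ∧ (23 : F) = 1 ∧ (24 : F) = 0 ∧ (25 : F) = 1 ∧ (26 : F) = 0 ∧ (27 : F) = 1 ∧ (28 : F) = 0 ∧ (29 : F) = 1 ∧ (30 : F) = 0 ∧ (31 : F) = 1 ∧ (32 : F) = 0 := by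
  have h := CharTwo.two_eq_zero (R := F)
  refine ⟨?_, ?_, ?_, ?_, ?_, ?_, ?_, ?_, ?_, ?_, ?_, ?_, ?_, ?_, ?_, ?_, ?_, ?_, ?_, ?_, ?_, ?_, ?_, ?_, ?_, ?_, ?_, ?_, ?_, ?_, ?_⟩
  · linear_combination 1 * h
  · linear_combination 1 * h
  · linear_combination 2 * h
  · linear_combination 2 * h
  · linear_combination 3 * h
  · linear_combination 3 * h
  · linear_combination 4 * h
  · linear_combination 4 * h
  · linear_combination 5 * h
  · linear_combination 5 * h
  · linear_combination 6 * h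
  · linear_combination 6 * h
  · linear_combination 7 * h
  · linear_combination 7 * h
  · linear_combination 8 * h
  · linear_combination 8 * h
  · linear_combination 9 * h
  · linear_combination 9 * h
  · linear_combination 10 * h
  · linear_combination 10 * h
  · linear_combination 11 * h
  · linear_combination 11 * h
  · linear_combination 12 * h
  · linear_combination 12 * h
  · linear_combination 13 * h
  · linear_combination 13 * h
  · linear_combination 14 * h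
  · linear_combination 14 * h
  · linear_combination 15 * h
  · linear_combination 15 * h
  · linear_combination 16 * h

theorem rZ1_A1 (u t : F) (w : GL chevF4.Idx F) :
    Z1 θ u * (A1 θ t * w) = A1 θ t * (Z1 θ u * w) := by
  obtain ⟨z, rfl⟩ : ∃ z, w = X 25 (0 : F) * (X 27 (0 : F) * (X 28 (0 : F) * (X 30 (0 : F) * z))) := ⟨w, by simp [X_zero]⟩
  simp only [A1, Z1, T2, A3, Z3, T4, A5, Z5, T6, A7, Z7, T8, mul_assoc, X_mul_assoc, ph, map_mul, map_pow, map_add, th_sq θ, q25_27, q25_28, q25_30, q27_28, q27_30, q28_30]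
  all_goals try simp only [map_mul, map_pow, map_add, th_sq θ]
  all_goals (repeat' refine mul_congr ?_ ?_)
  all_goals first
    | rfl
    | (refine congrArg _ ?_; ring1)
    | (refine congrArg _ ?_; rw [← sub_eq_zero, CharTwo.sub_eq_add]; ring_nf;
       simp [num_char_two]; done)

theorem rT2_A1 (u t : F) (w : GL chevF4.Idx F) :
    T2 θ u * (A1 θ t * w) = A1 θ t * (T2 θ u * w) := by
  obtain ⟨z, rfl⟩ : ∃ z, w = X 25 (0 : F) * (X 27 (0 : F) * (X 28 (0 : F) * (X 30 (0 : F) * (X 32 (0 : F) * (X 37 (0 : F) * z))))) := ⟨w, by simp [X_zero]⟩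
  simp only [A1, Z1, T2, A3, Z3, T4, A5, Z5, T6, A7, Z7, T8, mul_assoc, X_mul_assoc, ph, map_mul, map_pow, map_add, th_sq θ, q25_27, q25_28, q25_30, q25_32, q25_37, q27_28, q27_30, q27_32, q27_37, q28_30, q28_32, q28_37, q30_32, q30_37, q32_37]
  all_goals try simp only [map_mul, map_pow, map_add, th_sq θ]
  all_goals (repeat' refine mul_congr ?_ ?_)
  all_goals first
    | rfl
    | (refine congrArg _ ?_; ring1)
    | (refine congrArg _ ?_; rw [← sub_eq_zero, CharTwo.sub_eq_add]; ring_nf;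
       simp [num_char_two]; done)

theorem rA3_A1 (u t : F) (w : GL chevF4.Idx F) :
    A3 θ u * (A1 θ t * w) = A1 θ t * (T2 θ (t * u) * (A3 θ u * w)) := by
  obtain ⟨z, rfl⟩ : ∃ z, w = X 25 (0 : F) * (X 27 (0 : F) * (X 28 (0 : F) * (X 30 (0 : F) * (X 31 (0 : F) * (X 32 (0 : F) * (X 35 (0 : F) * (X 37 (0 : F) * (X 40 (0 : F) * (X 46 (0 : F) * z))))))))) := ⟨w, by simp [X_zero]⟩
  simp only [A1, Z1, T2, A3, Z3, T4, A5, Z5, T6, A7, Z7, T8, mul_assoc, X_mul_assoc, ph, map_mul, map_pow, map_add, th_sq θ, q25_27, q25_28, q25_30, q25_31, q25_32, q25_35, q25_37, q25_40, q25_46, q27_28, q27_30, q27_31, q27_32, q27_35, q27_37, q27_40, q27_46, q28_30, q28_31, q28_32, q28_35, q28_37, q28_40, q28_46, q30_31, q30_32, q30_35, q30_37, q30_40, q30_46, q31_32, q31_35, q31_37, q31_40, q31_46, q32_35, q32_37, q32_40, q32_46, q35_37, q35_40, q35_46, q37_40, q37_46, q40_46]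
  all_goals try simp only [map_mul, map_pow, map_add, th_sq θ]
  all_goals (repeat' refine mul_congr ?_ ?_)
  all_goals first
    | rfl
    | (refine congrArg _ ?_; ring1)
    | (refine congrArg _ ?_; rw [← sub_eq_zero, CharTwo.sub_eq_add]; ring_nf;
       simp [num_char_two]; done)

theorem rZ3_A1 (u t : F) (w : GL chevF4.Idx F) :
    Z3 θ u * (A1 θ t * w) = A1 θ t * (Z3 θ u * w) := by
  obtain ⟨z, rfl⟩ : ∃ z, w = X 25 (0 : F) * (X 27 (0 : F) * (X 28 (0 : F) * (X 30 (0 : F) * (X 40 (0 : F) * (X 46 (0 : F) * z))))) := ⟨w, by simp [X_zero]⟩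
  simp only [A1, Z1, T2, A3, Z3, T4, A5, Z5, T6, A7, Z7, T8, mul_assoc, X_mul_assoc, ph, map_mul, map_pow, map_add, th_sq θ, q25_27, q25_28, q25_30, q25_40, q25_46, q27_28, q27_30, q27_40, q27_46, q28_30, q28_40, q28_46, q30_40, q30_46, q40_46]
  all_goals try simp only [map_mul, map_pow, map_add, th_sq θ]
  all_goals (repeat' refine mul_congr ?_ ?_)
  all_goals first
    | rfl
    | (refine congrArg _ ?_; ring1)
    | (refine congrArg _ ?_; rw [← sub_eq_zero, CharTwo.sub_eq_add]; ring_nf;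
       simp [num_char_two]; done)

theorem rT4_A1 (u t : F) (w : GL chevF4.Idx F) :
    T4 θ u * (A1 θ t * w) = A1 θ t * (Z3 θ (t * u) * (T4 θ u * w)) := by
  obtain ⟨z, rfl⟩ : ∃ z, w = X 25 (0 : F) * (X 27 (0 : F) * (X 28 (0 : F) * (X 30 (0 : F) * (X 39 (0 : F) * (X 40 (0 : F) * (X 45 (0 : F) * (X 46 (0 : F) * z))))))) := ⟨w, by simp [X_zero]⟩
  simp only [A1, Z1, T2, A3, Z3, T4, A5, Z5, T6, A7, Z7, T8, mul_assoc, X_mul_assoc, ph, map_mul, map_pow, map_add, th_sq θ, q25_27, q25_28, q25_30, q25_39, q25_40, q25_45, q25_46, q27_28, q27_30, q27_39, q27_40, q27_45, q27_46, q28_30, q28_39, q28_40, q28_45, q28_46, q30_39, q30_40, q30_45, q30_46, q39_40, q39_45, q39_46, q40_45, q40_46, q45_46]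
  all_goals try simp only [map_mul, map_pow, map_add, th_sq θ]
  all_goals (repeat' refine mul_congr ?_ ?_)
  all_goals first
    | rfl
    | (refine congrArg _ ?_; ring1)
    | (refine congrArg _ ?_; rw [← sub_eq_zero, CharTwo.sub_eq_add]; ring_nf;
       simp [num_char_two]; done)

theorem rA5_A1 (u t : F) (w : GL chevF4.Idx F) :
    A5 θ u * (A1 θ t * w) = A1 θ t * (A5 θ u * w) := by
  obtain ⟨z, rfl⟩ : ∃ z, w = X 25 (0 : F) * (X 27 (0 : F) * (X 28 (0 : F) * (X 29 (0 : F) * (X 30 (0 : F) * (X 41 (0 : F) * (X 44 (0 : F) * (X 47 (0 : F) * z))))))) := ⟨w, by simp [X_zero]⟩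
  simp only [A1, Z1, T2, A3, Z3, T4, A5, Z5, T6, A7, Z7, T8, mul_assoc, X_mul_assoc, ph, map_mul, map_pow, map_add, th_sq θ, q25_27, q25_28, q25_29, q25_30, q25_41, q25_44, q25_47, q27_28, q27_29, q27_30, q27_41, q27_44, q27_47, q28_29, q28_30, q28_41, q28_44, q28_47, q29_30, q29_41, q29_44, q29_47, q30_41, q30_44, q30_47, q41_44, q41_47, q44_47]
  all_goals try simp only [map_mul, map_pow, map_add, th_sq θ]
  all_goals (repeat' refine mul_congr ?_ ?_)
  all_goals first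
    | rfl
    | (refine congrArg _ ?_; ring1)
    | (refine congrArg _ ?_; rw [← sub_eq_zero, CharTwo.sub_eq_add]; ring_nf;
       simp [num_char_two]; done)

theorem rZ5_A1 (u t : F) (w : GL chevF4.Idx F) :
    Z5 θ u * (A1 θ t * w) = A1 θ t * (Z5 θ u * w) := by
  obtain ⟨z, rfl⟩ : ∃ z, w = X 25 (0 : F) * (X 27 (0 : F) * (X 28 (0 : F) * (X 30 (0 : F) * (X 44 (0 : F) * (X 47 (0 : F) * z))))) := ⟨w, by simp [X_zero]⟩
  simp only [A1, Z1, T2, A3, Z3, T4, A5, Z5, T6, A7, Z7, T8, mul_assoc, X_mul_assoc, ph, map_mul, map_pow, map_add, th_sq θ, q25_27, q25_28, q25_30, q25_44, q25_47, q27_28, q27_30, q27_44, q27_47, q28_30, q28_44, q28_47, q30_44, q30_47, q44_47]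
  all_goals try simp only [map_mul, map_pow, map_add, th_sq θ]
  all_goals (repeat' refine mul_congr ?_ ?_)
  all_goals first
    | rfl
    | (refine congrArg _ ?_; ring1)
    | (refine congrArg _ ?_; rw [← sub_eq_zero, CharTwo.sub_eq_add]; ring_nf;
       simp [num_char_two]; done)

theorem rT6_A1 (u t : F) (w : GL chevF4.Idx F) :
    T6 θ u * (A1 θ t * w) = A1 θ t * (Z3 θ (ph θ t * t * u) * (T4 θ (ph θ t * u) * (Z5 θ (ph θ u * t) * (T6 θ u * w)))) := by
  obtain ⟨z, rfl⟩ : ∃ z, w = X 25 (0 : F) * (X 27 (0 : F) * (X 28 (0 : F) * (X 30 (0 : F) * (X 38 (0 : F) * (X 39 (0 : F) * (X 40 (0 : F) * (X 43 (0 : F) * (X 44 (0 : F) * (X 45 (0 : F) * (X 46 (0 : F) * (X 47 (0 : F) * z))))))))))) := ⟨w, by simp [X_zero]⟩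
  simp only [A1, Z1, T2, A3, Z3, T4, A5, Z5, T6, A7, Z7, T8, mul_assoc, X_mul_assoc, ph, map_mul, map_pow, map_add, th_sq θ, q25_27, q25_28, q25_30, q25_38, q25_39, q25_40, q25_43, q25_44, q25_45, q25_46, q25_47, q27_28, q27_30, q27_38, q27_39, q27_40, q27_43, q27_44, q27_45, q27_46, q27_47, q28_30, q28_38, q28_39, q28_40, q28_43, q28_44, q28_45, q28_46, q28_47, q30_38, q30_39, q30_40, q30_43, q30_44, q30_45, q30_46, q30_47, q38_39, q38_40, q38_43, q38_44, q38_45, q38_46, q38_47, q39_40, q39_43, q39_44, q39_45, q39_46, q39_47, q40_43, q40_44, q40_45, q40_46, q40_47, q43_44, q43_45, q43_46, q43_47, q44_45, q44_46, q44_47, q45_46, q45_47, q46_47]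
  all_goals try simp only [map_mul, map_pow, map_add, th_sq θ]
  all_goals (repeat' refine mul_congr ?_ ?_)
  all_goals first
    | rfl
    | (refine congrArg _ ?_; ring1)
    | (refine congrArg _ ?_; rw [← sub_eq_zero, CharTwo.sub_eq_add]; ring_nf;
       simp [num_char_two]; done)

theorem rA7_A1 (u t : F) (w : GL chevF4.Idx F) :
    A7 θ u * (A1 θ t * w) = A1 θ t * (T2 θ (ph θ t * t * u) * (A3 θ (ph θ t * u) * (Z3 θ (ph θ t * ph θ u * t * t * u) * (A5 θ (ph θ u * t) * (A7 θ u * w))))) := by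
  obtain ⟨z, rfl⟩ : ∃ z, w = X 25 (0 : F) * (X 26 (0 : F) * (X 27 (0 : F) * (X 28 (0 : F) * (X 29 (0 : F) * (X 30 (0 : F) * (X 31 (0 : F) * (X 32 (0 : F) * (X 34 (0 : F) * (X 35 (0 : F) * (X 36 (0 : F) * (X 37 (0 : F) * (X 38 (0 : F) * (X 39 (0 : F) * (X 40 (0 : F) * (X 41 (0 : F) * (X 42 (0 : F) * (X 43 (0 : F) * (X 44 (0 : F) * (X 45 (0 : F) * (X 46 (0 : F) * (X 47 (0 : F) * z))))))))))))))))))))) := ⟨w, by simp [X_zero]⟩
  simp only [A1, Z1, T2, A3, Z3, T4, A5, Z5, T6, A7, Z7, T8, mul_assoc, X_mul_assoc, ph, map_mul, map_pow, map_add, th_sq θ, q25_26, q25_27, q25_28, q25_29, q25_30, q25_31, q25_32, q25_34, q25_35, q25_36, q25_37, q25_38, q25_39, q25_40, q25_41, q25_42, q25_43, q25_44, q25_45, q25_46, q25_47, q26_27, q26_28, q26_29, q26_30, q26_31, q26_32, q26_34, q26_35, q26_36, q26_37, q26_38, q26_39, q26_40, q26_41, q26_42, q26_43, q26_44, q26_45, q26_46, q26_47, q27_28, q27_29, q27_30, q27_31, q27_32, q27_34, q27_35,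 q27_36, q27_37, q27_38, q27_39, q27_40, q27_41, q27_42, q27_43, q27_44, q27_45, q27_46, q27_47, q28_29, q28_30, q28_31, q28_32, q28_34, q28_35, q28_36, q28_37, q28_38, q28_39, q28_40, q28_41, q28_42, q28_43, q28_44, q28_45, q28_46, q28_47, q29_30, q29_31, q29_32, q29_34, q29_35, q29_36, q29_37, q29_38, q29_39, q29_40, q29_41, q29_42, q29_43, q29_44, q29_45, q29_46, q29_47, q30_31, q30_32, q30_34, q30_35, q30_36, q30_37, q30_38, q30_39, q30_40, q30_41, q30_42, q30_43, q30_44, q30_45, q30_46, q30_47, q31_32, q31_34, q31_35, q31_36, q31_37, q31_38, q31_39, q31_40, q31_41, q31_42, q31_43, q31_44, q31_45, q31_46, q31_47, q32_34, q32_35, q32_36, q32_37, q32_38, q32_39, q32_40, q32_41, q32_42, q32_43, q32_44, q32_45, q32_46, q32_47, q34_35, q34_36, q34_37, q34_38, q34_39, q34_40, q34_41, q34_42, q34_43, q34_44, q34_45, q34_46, q34_47, q35_36, q35_37, q35_38, q35_39, q35_40, q35_41, q35_42, q35_43, q35_44, q35_45, q35_46, q35_47,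 q36_37, q36_38, q36_39, q36_40, q36_41, q36_42, q36_43, q36_44, q36_45, q36_46, q36_47, q37_38, q37_39, q37_40, q37_41, q37_42, q37_43, q37_44, q37_45, q37_46, q37_47, q38_39, q38_40, q38_41, q38_42, q38_43, q38_44, q38_45, q38_46, q38_47, q39_40, q39_41, q39_42, q39_43, q39_44, q39_45, q39_46, q39_47, q40_41, q40_42, q40_43, q40_44, q40_45, q40_46, q40_47, q41_42, q41_43, q41_44, q41_45, q41_46, q41_47, q42_43, q42_44, q42_45, q42_46, q42_47, q43_44, q43_45, q43_46, q43_47, q44_45, q44_46, q44_47, q45_46, q45_47, q46_47]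
  all_goals try simp only [map_mul, map_pow, map_add, th_sq θ]
  all_goals (repeat' refine mul_congr ?_ ?_)
  all_goals first
    | rfl
    | (refine congrArg _ ?_; ring1)
    | (refine congrArg _ ?_; rw [← sub_eq_zero, CharTwo.sub_eq_add]; ring_nf;
       simp [num_char_two]; done)

theorem rZ7_A1 (u t : F) (w : GL chevF4.Idx F) :
    Z7 θ u * (A1 θ t * w) = A1 θ t * (Z3 θ (ph θ t * t * t * u) * (Z5 θ (ph θ t * ph θ u * t) * (T6 θ (t * u) * (Z7 θ u * w)))) := by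
  obtain ⟨z, rfl⟩ : ∃ z, w = X 25 (0 : F) * (X 27 (0 : F) * (X 28 (0 : F) * (X 30 (0 : F) * (X 36 (0 : F) * (X 38 (0 : F) * (X 39 (0 : F) * (X 40 (0 : F) * (X 42 (0 : F) * (X 43 (0 : F) * (X 44 (0 : F) * (X 45 (0 : F) * (X 46 (0 : F) * (X 47 (0 : F) * z))))))))))))) := ⟨w, by simp [X_zero]⟩
  simp only [A1, Z1, T2, A3, Z3, T4, A5, Z5, T6, A7, Z7, T8, mul_assoc, X_mul_assoc, ph, map_mul, map_pow, map_add, th_sq θ, q25_27, q25_28, q25_30, q25_36, q25_38, q25_39, q25_40, q25_42, q25_43, q25_44, q25_45, q25_46, q25_47, q27_28, q27_30, q27_36, q27_38, q27_39, q27_40, q27_42, q27_43, q27_44, q27_45, q27_46, q27_47, q28_30, q28_36, q28_38, q28_39, q28_40, q28_42, q28_43, q28_44, q28_45, q28_46, q28_47, q30_36, q30_38, q30_39, q30_40, q30_42, q30_43, q30_44, q30_45, q30_46, q30_47, q36_38, q36_39, q36_40, q36_42, q36_43, q36_44, q36_45, q36_46, q36_47, q38_39, q38_40, q38_42, q38_43, q38_44, q38_45, q38_46, q38_47, q39_40, q39_42,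 q39_43, q39_44, q39_45, q39_46, q39_47, q40_42, q40_43, q40_44, q40_45, q40_46, q40_47, q42_43, q42_44, q42_45, q42_46, q42_47, q43_44, q43_45, q43_46, q43_47, q44_45, q44_46, q44_47, q45_46, q45_47, q46_47]
  all_goals try simp only [map_mul, map_pow, map_add, th_sq θ]
  all_goals (repeat' refine mul_congr ?_ ?_)
  all_goals first
    | rfl
    | (refine congrArg _ ?_; ring1)
    | (refine congrArg _ ?_; rw [← sub_eq_zero, CharTwo.sub_eq_add]; ring_nf;
       simp [num_char_two]; done)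

theorem rT8_A1 (u t : F) (w : GL chevF4.Idx F) :
    T8 θ u * (A1 θ t * w) = A1 θ t * (T2 θ (ph θ t * t * t * u) * (Z3 θ (ph θ t * ph θ t * ph θ u * t * t * t * u) * (T4 θ (ph θ t * ph θ t * ph θ u * t * t * u) * (A5 θ (ph θ t * ph θ u * t) * (Z5 θ (ph θ t * ph θ t * ph θ u * t * t * t * u * u) * (T6 θ (ph θ t * ph θ u * t * t * u) * (A7 θ (t * u) * (T8 θ u * w)))))))) := by
  obtain ⟨z, rfl⟩ : ∃ z, w = X 24 (0 : F) * (X 25 (0 : F) * (X 26 (0 : F) * (X 27 (0 : F) * (X 28 (0 : F) * (X 29 (0 : F) * (X 30 (0 : F) * (X 31 (0 : F) * (X 32 (0 : F) * (X 33 (0 : F) * (X 34 (0 : F) * (X 35 (0 : F) * (X 36 (0 : F) * (X 37 (0 : F) * (X 38 (0 : F) * (X 39 (0 : F) * (X 40 (0 : F) * (X 41 (0 : F) * (X 42 (0 : F) * (X 43 (0 : F) * (X 44 (0 : F) * (X 45 (0 : F) * (X 46 (0 : F) * (X 47 (0 : F) * z))))))))))))))))))))))) := ⟨w, by simp [X_zero]⟩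
  simp only [A1, Z1, T2, A3, Z3, T4, A5, Z5, T6, A7, Z7, T8, mul_assoc, X_mul_assoc, ph, map_mul, map_pow, map_add, th_sq θ, q24_25, q24_26, q24_27, q24_28, q24_29, q24_30, q24_31, q24_32, q24_33, q24_34, q24_35, q24_36, q24_37, q24_38, q24_39, q24_40, q24_41, q24_42, q24_43, q24_44, q24_45, q24_46, q24_47, q25_26, q25_27, q25_28, q25_29, q25_30, q25_31, q25_32, q25_33, q25_34, q25_35, q25_36, q25_37, q25_38, q25_39, q25_40, q25_41, q25_42, q25_43, q25_44, q25_45, q25_46, q25_47, q26_27, q26_28, q26_29, q26_30, q26_31, q26_32, q26_33, q26_34, q26_35, q26_36, q26_37, q26_38, q26_39, q26_40, q26_41, q26_42, q26_43, q26_44, q26_45, q26_46, q26_47, q27_28, q27_29, q27_30, q27_31, q27_32, q27_33, q27_34, q27_35, q27_36, q27_37, q27_38, q27_39, q27_40, q27_41, q27_42, q27_43, q27_44, q27_45, q27_46, q27_47, q28_29, q28_30, q28_31, q28_32, q28_33, q28_34, q28_35, q28_36, q28_37, q28_38, q28_39, q28_40, q28_41, q28_42, q28_43,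 q28_44, q28_45, q28_46, q28_47, q29_30, q29_31, q29_32, q29_33, q29_34, q29_35, q29_36, q29_37, q29_38, q29_39, q29_40, q29_41, q29_42, q29_43, q29_44, q29_45, q29_46, q29_47, q30_31, q30_32, q30_33, q30_34, q30_35, q30_36, q30_37, q30_38, q30_39, q30_40, q30_41, q30_42, q30_43, q30_44, q30_45, q30_46, q30_47, q31_32, q31_33, q31_34, q31_35, q31_36, q31_37, q31_38, q31_39, q31_40, q31_41, q31_42, q31_43, q31_44, q31_45, q31_46, q31_47, q32_33, q32_34, q32_35, q32_36, q32_37, q32_38, q32_39, q32_40, q32_41, q32_42, q32_43, q32_44, q32_45, q32_46, q32_47, q33_34, q33_35, q33_36, q33_37, q33_38, q33_39, q33_40, q33_41, q33_42, q33_43, q33_44, q33_45, q33_46, q33_47, q34_35, q34_36, q34_37, q34_38, q34_39, q34_40, q34_41, q34_42, q34_43, q34_44, q34_45, q34_46, q34_47, q35_36, q35_37, q35_38, q35_39, q35_40, q35_41, q35_42, q35_43, q35_44, q35_45, q35_46, q35_47, q36_37, q36_38, q36_39, q36_40, q36_41, q36_42, q36_43, q36_44,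 q36_45, q36_46, q36_47, q37_38, q37_39, q37_40, q37_41, q37_42, q37_43, q37_44, q37_45, q37_46, q37_47, q38_39, q38_40, q38_41, q38_42, q38_43, q38_44, q38_45, q38_46, q38_47, q39_40, q39_41, q39_42, q39_43, q39_44, q39_45, q39_46, q39_47, q40_41, q40_42, q40_43, q40_44, q40_45, q40_46, q40_47, q41_42, q41_43, q41_44, q41_45, q41_46, q41_47, q42_43, q42_44, q42_45, q42_46, q42_47, q43_44, q43_45, q43_46, q43_47, q44_45, q44_46, q44_47, q45_46, q45_47, q46_47]
  all_goals try simp only [map_mul, map_pow, map_add, th_sq θ]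
  all_goals (repeat' refine mul_congr ?_ ?_)
  all_goals first
    | rfl
    | (refine congrArg _ ?_; ring1)
    | (refine congrArg _ ?_; rw [← sub_eq_zero, CharTwo.sub_eq_add]; ring_nf;
       simp [num_char_two]; done)

theorem rT2_Z1 (u t : F) (w : GL chevF4.Idx F) :
    T2 θ u * (Z1 θ t * w) = Z1 θ t * (T2 θ u * w) := by
  obtain ⟨z, rfl⟩ : ∃ z, w = X 28 (0 : F) * (X 30 (0 : F) * (X 32 (0 : F) * (X 37 (0 : F) * z))) := ⟨w, by simp [X_zero]⟩
  simp only [A1, Z1, T2, A3, Z3, T4, A5, Z5, T6, A7, Z7, T8, mul_assoc, X_mul_assoc, ph, map_mul, map_pow, map_add, th_sq θ, q28_30, q28_32, q28_37, q30_32, q30_37, q32_37]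
  all_goals try simp only [map_mul, map_pow, map_add, th_sq θ]
  all_goals (repeat' refine mul_congr ?_ ?_)
  all_goals first
    | rfl
    | (refine congrArg _ ?_; ring1)
    | (refine congrArg _ ?_; rw [← sub_eq_zero, CharTwo.sub_eq_add]; ring_nf;
       simp [num_char_two]; done)

theorem rA3_Z1 (u t : F) (w : GL chevF4.Idx F) :
    A3 θ u * (Z1 θ t * w) = Z1 θ t * (A3 θ u * w) := by
  obtain ⟨z, rfl⟩ : ∃ z, w = X 28 (0 : F) * (X 30 (0 : F) * (X 31 (0 : F) * (X 35 (0 : F) * (X 40 (0 : F) * (X 46 (0 : F) * z))))) := ⟨w, by simp [X_zero]⟩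
  simp only [A1, Z1, T2, A3, Z3, T4, A5, Z5, T6, A7, Z7, T8, mul_assoc, X_mul_assoc, ph, map_mul, map_pow, map_add, th_sq θ, q28_30, q28_31, q28_35, q28_40, q28_46, q30_31, q30_35, q30_40, q30_46, q31_35, q31_40, q31_46, q35_40, q35_46, q40_46]
  all_goals try simp only [map_mul, map_pow, map_add, th_sq θ]
  all_goals (repeat' refine mul_congr ?_ ?_)
  all_goals first
    | rfl
    | (refine congrArg _ ?_; ring1)
    | (refine congrArg _ ?_; rw [← sub_eq_zero, CharTwo.sub_eq_add]; ring_nf;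
       simp [num_char_two]; done)

theorem rZ3_Z1 (u t : F) (w : GL chevF4.Idx F) :
    Z3 θ u * (Z1 θ t * w) = Z1 θ t * (Z3 θ u * w) := by
  obtain ⟨z, rfl⟩ : ∃ z, w = X 28 (0 : F) * (X 30 (0 : F) * (X 40 (0 : F) * (X 46 (0 : F) * z))) := ⟨w, by simp [X_zero]⟩
  simp only [A1, Z1, T2, A3, Z3, T4, A5, Z5, T6, A7, Z7, T8, mul_assoc, X_mul_assoc, ph, map_mul, map_pow, map_add, th_sq θ, q28_30, q28_40, q28_46, q30_40, q30_46, q40_46]
  all_goals try simp only [map_mul, map_pow, map_add, th_sq θ]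
  all_goals (repeat' refine mul_congr ?_ ?_)
  all_goals first
    | rfl
    | (refine congrArg _ ?_; ring1)
    | (refine congrArg _ ?_; rw [← sub_eq_zero, CharTwo.sub_eq_add]; ring_nf;
       simp [num_char_two]; done)

theorem rT4_Z1 (u t : F) (w : GL chevF4.Idx F) :
    T4 θ u * (Z1 θ t * w) = Z1 θ t * (T4 θ u * w) := by
  obtain ⟨z, rfl⟩ : ∃ z, w = X 28 (0 : F) * (X 30 (0 : F) * (X 39 (0 : F) * (X 45 (0 : F) * z))) := ⟨w, by simp [X_zero]⟩
  simp only [A1, Z1, T2, A3, Z3, T4, A5, Z5, T6, A7, Z7, T8, mul_assoc, X_mul_assoc, ph, map_mul, map_pow, map_add, th_sq θ, q28_30, q28_39, q28_45, q30_39, q30_45, q39_45]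
  all_goals try simp only [map_mul, map_pow, map_add, th_sq θ]
  all_goals (repeat' refine mul_congr ?_ ?_)
  all_goals first
    | rfl
    | (refine congrArg _ ?_; ring1)
    | (refine congrArg _ ?_; rw [← sub_eq_zero, CharTwo.sub_eq_add]; ring_nf;
       simp [num_char_two]; done)

theorem rA5_Z1 (u t : F) (w : GL chevF4.Idx F) :
    A5 θ u * (Z1 θ t * w) = Z1 θ t * (A5 θ u * w) := by
  obtain ⟨z, rfl⟩ : ∃ z, w = X 28 (0 : F) * (X 29 (0 : F) * (X 30 (0 : F) * (X 41 (0 : F) * (X 44 (0 : F) * (X 47 (0 : F) * z))))) := ⟨w, by simp [X_zero]⟩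
  simp only [A1, Z1, T2, A3, Z3, T4, A5, Z5, T6, A7, Z7, T8, mul_assoc, X_mul_assoc, ph, map_mul, map_pow, map_add, th_sq θ, q28_29, q28_30, q28_41, q28_44, q28_47, q29_30, q29_41, q29_44, q29_47, q30_41, q30_44, q30_47, q41_44, q41_47, q44_47]
  all_goals try simp only [map_mul, map_pow, map_add, th_sq θ]
  all_goals (repeat' refine mul_congr ?_ ?_)
  all_goals first
    | rfl
    | (refine congrArg _ ?_; ring1)
    | (refine congrArg _ ?_; rw [← sub_eq_zero, CharTwo.sub_eq_add]; ring_nf;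
       simp [num_char_two]; done)

theorem rZ5_Z1 (u t : F) (w : GL chevF4.Idx F) :
    Z5 θ u * (Z1 θ t * w) = Z1 θ t * (Z5 θ u * w) := by
  obtain ⟨z, rfl⟩ : ∃ z, w = X 28 (0 : F) * (X 30 (0 : F) * (X 44 (0 : F) * (X 47 (0 : F) * z))) := ⟨w, by simp [X_zero]⟩
  simp only [A1, Z1, T2, A3, Z3, T4, A5, Z5, T6, A7, Z7, T8, mul_assoc, X_mul_assoc, ph, map_mul, map_pow, map_add, th_sq θ, q28_30, q28_44, q28_47, q30_44, q30_47, q44_47]
  all_goals try simp only [map_mul, map_pow, map_add, th_sq θ]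
  all_goals (repeat' refine mul_congr ?_ ?_)
  all_goals first
    | rfl
    | (refine congrArg _ ?_; ring1)
    | (refine congrArg _ ?_; rw [← sub_eq_zero, CharTwo.sub_eq_add]; ring_nf;
       simp [num_char_two]; done)

theorem rT6_Z1 (u t : F) (w : GL chevF4.Idx F) :
    T6 θ u * (Z1 θ t * w) = Z1 θ t * (Z3 θ (t * u) * (T6 θ u * w)) := by
  obtain ⟨z, rfl⟩ : ∃ z, w = X 28 (0 : F) * (X 30 (0 : F) * (X 38 (0 : F) * (X 40 (0 : F) * (X 43 (0 : F) * (X 46 (0 : F) * z))))) := ⟨w, by simp [X_zero]⟩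
  simp only [A1, Z1, T2, A3, Z3, T4, A5, Z5, T6, A7, Z7, T8, mul_assoc, X_mul_assoc, ph, map_mul, map_pow, map_add, th_sq θ, q28_30, q28_38, q28_40, q28_43, q28_46, q30_38, q30_40, q30_43, q30_46, q38_40, q38_43, q38_46, q40_43, q40_46, q43_46]
  all_goals try simp only [map_mul, map_pow, map_add, th_sq θ]
  all_goals (repeat' refine mul_congr ?_ ?_)
  all_goals first
    | rfl
    | (refine congrArg _ ?_; ring1)
    | (refine congrArg _ ?_; rw [← sub_eq_zero, CharTwo.sub_eq_add]; ring_nf;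
       simp [num_char_two]; done)

theorem rA7_Z1 (u t : F) (w : GL chevF4.Idx F) :
    A7 θ u * (Z1 θ t * w) = Z1 θ t * (T2 θ (t * u) * (T4 θ (ph θ u * t * u) * (Z5 θ (ph θ u * t * u * u) * (A7 θ u * w)))) := by
  obtain ⟨z, rfl⟩ : ∃ z, w = X 26 (0 : F) * (X 28 (0 : F) * (X 30 (0 : F) * (X 32 (0 : F) * (X 34 (0 : F) * (X 36 (0 : F) * (X 37 (0 : F) * (X 39 (0 : F) * (X 40 (0 : F) * (X 42 (0 : F) * (X 44 (0 : F) * (X 45 (0 : F) * (X 46 (0 : F) * (X 47 (0 : F) * z))))))))))))) := ⟨w, by simp [X_zero]⟩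
  simp only [A1, Z1, T2, A3, Z3, T4, A5, Z5, T6, A7, Z7, T8, mul_assoc, X_mul_assoc, ph, map_mul, map_pow, map_add, th_sq θ, q26_28, q26_30, q26_32, q26_34, q26_36, q26_37, q26_39, q26_40, q26_42, q26_44, q26_45, q26_46, q26_47, q28_30, q28_32, q28_34, q28_36, q28_37, q28_39, q28_40, q28_42, q28_44, q28_45, q28_46, q28_47, q30_32, q30_34, q30_36, q30_37, q30_39, q30_40, q30_42, q30_44, q30_45, q30_46, q30_47, q32_34, q32_36, q32_37, q32_39, q32_40, q32_42, q32_44, q32_45, q32_46, q32_47, q34_36, q34_37, q34_39, q34_40, q34_42, q34_44, q34_45, q34_46, q34_47, q36_37, q36_39, q36_40, q36_42, q36_44, q36_45, q36_46, q36_47, q37_39, q37_40, q37_42, q37_44, q37_45, q37_46, q37_47, q39_40, q39_42, q39_44, q39_45, q39_46, q39_47, q40_42, q40_44, q40_45, q40_46, q40_47, q42_44, q42_45, q42_46, q42_47, q44_45, q44_46, q44_47, q45_46, q45_47, q46_47]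
  all_goals try simp only [map_mul, map_pow, map_add, th_sq θ]
  all_goals (repeat' refine mul_congr ?_ ?_)
  all_goals first
    | rfl
    | (refine congrArg _ ?_; ring1)
    | (refine congrArg _ ?_; rw [← sub_eq_zero, CharTwo.sub_eq_add]; ring_nf;
       simp [num_char_two]; done)

theorem rZ7_Z1 (u t : F) (w : GL chevF4.Idx F) :
    Z7 θ u * (Z1 θ t * w) = Z1 θ t * (Z3 θ (ph θ t * u) * (T4 θ (t * u) * (Z5 θ (ph θ u * t) * (Z7 θ u * w)))) := by
  obtain ⟨z, rfl⟩ : ∃ z, w = X 28 (0 : F) * (X 30 (0 : F) * (X 36 (0 : F) * (X 39 (0 : F) * (X 40 (0 : F) * (X 42 (0 : F) * (X 44 (0 : F) * (X 45 (0 : F) * (X 46 (0 : F) * (X 47 (0 : F) * z))))))))) := ⟨w, by simp [X_zero]⟩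
  simp only [A1, Z1, T2, A3, Z3, T4, A5, Z5, T6, A7, Z7, T8, mul_assoc, X_mul_assoc, ph, map_mul, map_pow, map_add, th_sq θ, q28_30, q28_36, q28_39, q28_40, q28_42, q28_44, q28_45, q28_46, q28_47, q30_36, q30_39, q30_40, q30_42, q30_44, q30_45, q30_46, q30_47, q36_39, q36_40, q36_42, q36_44, q36_45, q36_46, q36_47, q39_40, q39_42, q39_44, q39_45, q39_46, q39_47, q40_42, q40_44, q40_45, q40_46, q40_47, q42_44, q42_45, q42_46, q42_47, q44_45, q44_46, q44_47, q45_46, q45_47, q46_47]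
  all_goals try simp only [map_mul, map_pow, map_add, th_sq θ]
  all_goals (repeat' refine mul_congr ?_ ?_)
  all_goals first
    | rfl
    | (refine congrArg _ ?_; ring1)
    | (refine congrArg _ ?_; rw [← sub_eq_zero, CharTwo.sub_eq_add]; ring_nf;
       simp [num_char_two]; done)

theorem rT8_Z1 (u t : F) (w : GL chevF4.Idx F) :
    T8 θ u * (Z1 θ t * w) = Z1 θ t * (T2 θ (ph θ t * u) * (A3 θ (t * u) * (Z3 θ (ph θ t * ph θ u * t * u) * (T4 θ (ph θ u * t * t * u) * (A5 θ (ph θ u * t) * (T6 θ (ph θ t * ph θ u * u) * (Z7 θ (ph θ u * t * u) * (T8 θ u * w)))))))) := by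
  obtain ⟨z, rfl⟩ : ∃ z, w = X 24 (0 : F) * (X 28 (0 : F) * (X 29 (0 : F) * (X 30 (0 : F) * (X 31 (0 : F) * (X 32 (0 : F) * (X 33 (0 : F) * (X 35 (0 : F) * (X 36 (0 : F) * (X 37 (0 : F) * (X 38 (0 : F) * (X 39 (0 : F) * (X 40 (0 : F) * (X 41 (0 : F) * (X 42 (0 : F) * (X 43 (0 : F) * (X 44 (0 : F) * (X 45 (0 : F) * (X 46 (0 : F) * (X 47 (0 : F) * z))))))))))))))))))) := ⟨w, by simp [X_zero]⟩
  simp only [A1, Z1, T2, A3, Z3, T4, A5, Z5, T6, A7, Z7, T8, mul_assoc, X_mul_assoc, ph, map_mul, map_pow, map_add, th_sq θ, q24_28, q24_29, q24_30, q24_31, q24_32, q24_33, q24_35, q24_36, q24_37, q24_38, q24_39, q24_40, q24_41, q24_42, q24_43, q24_44, q24_45, q24_46, q24_47, q28_29, q28_30, q28_31, q28_32, q28_33, q28_35, q28_36, q28_37, q28_38, q28_39, q28_40, q28_41, q28_42, q28_43, q28_44, q28_45, q28_46, q28_47, q29_30, q29_31, q29_32, q29_33, q29_35, q29_36, q29_37, q29_38, q29_39, q29_40, q29_41, q29_42, q29_43, q29_44, q29_45,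 q29_46, q29_47, q30_31, q30_32, q30_33, q30_35, q30_36, q30_37, q30_38, q30_39, q30_40, q30_41, q30_42, q30_43, q30_44, q30_45, q30_46, q30_47, q31_32, q31_33, q31_35, q31_36, q31_37, q31_38, q31_39, q31_40, q31_41, q31_42, q31_43, q31_44, q31_45, q31_46, q31_47, q32_33, q32_35, q32_36, q32_37, q32_38, q32_39, q32_40, q32_41, q32_42, q32_43, q32_44, q32_45, q32_46, q32_47, q33_35, q33_36, q33_37, q33_38, q33_39, q33_40, q33_41, q33_42, q33_43, q33_44, q33_45, q33_46, q33_47, q35_36, q35_37, q35_38, q35_39, q35_40, q35_41, q35_42, q35_43, q35_44, q35_45, q35_46, q35_47, q36_37, q36_38, q36_39, q36_40, q36_41, q36_42, q36_43, q36_44, q36_45, q36_46, q36_47, q37_38, q37_39, q37_40, q37_41, q37_42, q37_43, q37_44, q37_45, q37_46, q37_47, q38_39, q38_40, q38_41, q38_42, q38_43, q38_44, q38_45, q38_46, q38_47, q39_40, q39_41, q39_42, q39_43, q39_44, q39_45, q39_46, q39_47, q40_41, q40_42, q40_43, q40_44, q40_45, q40_46, q40_47,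 q41_42, q41_43, q41_44, q41_45, q41_46, q41_47, q42_43, q42_44, q42_45, q42_46, q42_47, q43_44, q43_45, q43_46, q43_47, q44_45, q44_46, q44_47, q45_46, q45_47, q46_47]
  all_goals try simp only [map_mul, map_pow, map_add, th_sq θ]
  all_goals (repeat' refine mul_congr ?_ ?_)
  all_goals first
    | rfl
    | (refine congrArg _ ?_; ring1)
    | (refine congrArg _ ?_; rw [← sub_eq_zero, CharTwo.sub_eq_add]; ring_nf;
       simp [num_char_two]; done)

theorem rA3_T2 (u t : F) (w : GL chevF4.Idx F) :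
    A3 θ u * (T2 θ t * w) = T2 θ t * (A3 θ u * w) := by
  obtain ⟨z, rfl⟩ : ∃ z, w = X 31 (0 : F) * (X 32 (0 : F) * (X 35 (0 : F) * (X 37 (0 : F) * (X 40 (0 : F) * (X 46 (0 : F) * z))))) := ⟨w, by simp [X_zero]⟩
  simp only [A1, Z1, T2, A3, Z3, T4, A5, Z5, T6, A7, Z7, T8, mul_assoc, X_mul_assoc, ph, map_mul, map_pow, map_add, th_sq θ, q31_32, q31_35, q31_37, q31_40, q31_46, q32_35, q32_37, q32_40, q32_46, q35_37, q35_40, q35_46, q37_40, q37_46, q40_46]
  all_goals try simp only [map_mul, map_pow, map_add, th_sq θ]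
  all_goals (repeat' refine mul_congr ?_ ?_)
  all_goals first
    | rfl
    | (refine congrArg _ ?_; ring1)
    | (refine congrArg _ ?_; rw [← sub_eq_zero, CharTwo.sub_eq_add]; ring_nf;
       simp [num_char_two]; done)

theorem rZ3_T2 (u t : F) (w : GL chevF4.Idx F) :
    Z3 θ u * (T2 θ t * w) = T2 θ t * (Z3 θ u * w) := by
  obtain ⟨z, rfl⟩ : ∃ z, w = X 32 (0 : F) * (X 37 (0 : F) * (X 40 (0 : F) * (X 46 (0 : F) * z))) := ⟨w, by simp [X_zero]⟩
  simp only [A1, Z1, T2, A3, Z3, T4, A5, Z5, T6, A7, Z7, T8, mul_assoc, X_mul_assoc, ph, map_mul, map_pow, map_add, th_sq θ, q32_37, q32_40, q32_46, q37_40, q37_46, q40_46]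
  all_goals try simp only [map_mul, map_pow, map_add, th_sq θ]
  all_goals (repeat' refine mul_congr ?_ ?_)
  all_goals first
    | rfl
    | (refine congrArg _ ?_; ring1)
    | (refine congrArg _ ?_; rw [← sub_eq_zero, CharTwo.sub_eq_add]; ring_nf;
       simp [num_char_two]; done)

theorem rT4_T2 (u t : F) (w : GL chevF4.Idx F) :
    T4 θ u * (T2 θ t * w) = T2 θ t * (T4 θ u * w) := by
  obtain ⟨z, rfl⟩ : ∃ z, w = X 32 (0 : F) * (X 37 (0 : F) * (X 39 (0 : F) * (X 45 (0 : F) * z))) := ⟨w, by simp [X_zero]⟩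
  simp only [A1, Z1, T2, A3, Z3, T4, A5, Z5, T6, A7, Z7, T8, mul_assoc, X_mul_assoc, ph, map_mul, map_pow, map_add, th_sq θ, q32_37, q32_39, q32_45, q37_39, q37_45, q39_45]
  all_goals try simp only [map_mul, map_pow, map_add, th_sq θ]
  all_goals (repeat' refine mul_congr ?_ ?_)
  all_goals first
    | rfl
    | (refine congrArg _ ?_; ring1)
    | (refine congrArg _ ?_; rw [← sub_eq_zero, CharTwo.sub_eq_add]; ring_nf;
       simp [num_char_two]; done)

theorem rA5_T2 (u t : F) (w : GL chevF4.Idx F) :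
    A5 θ u * (T2 θ t * w) = T2 θ t * (Z3 θ (t * u) * (A5 θ u * w)) := by
  obtain ⟨z, rfl⟩ : ∃ z, w = X 29 (0 : F) * (X 32 (0 : F) * (X 37 (0 : F) * (X 40 (0 : F) * (X 41 (0 : F) * (X 44 (0 : F) * (X 46 (0 : F) * (X 47 (0 : F) * z))))))) := ⟨w, by simp [X_zero]⟩
  simp only [A1, Z1, T2, A3, Z3, T4, A5, Z5, T6, A7, Z7, T8, mul_assoc, X_mul_assoc, ph, map_mul, map_pow, map_add, th_sq θ, q29_32, q29_37, q29_40, q29_41, q29_44, q29_46, q29_47, q32_37, q32_40, q32_41, q32_44, q32_46, q32_47, q37_40, q37_41, q37_44, q37_46, q37_47, q40_41, q40_44, q40_46, q40_47, q41_44, q41_46, q41_47, q44_46, q44_47, q46_47]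
  all_goals try simp only [map_mul, map_pow, map_add, th_sq θ]
  all_goals (repeat' refine mul_congr ?_ ?_)
  all_goals first
    | rfl
    | (refine congrArg _ ?_; ring1)
    | (refine congrArg _ ?_; rw [← sub_eq_zero, CharTwo.sub_eq_add]; ring_nf;
       simp [num_char_two]; done)

theorem rZ5_T2 (u t : F) (w : GL chevF4.Idx F) :
    Z5 θ u * (T2 θ t * w) = T2 θ t * (Z5 θ u * w) := by
  obtain ⟨z, rfl⟩ : ∃ z, w = X 32 (0 : F) * (X 37 (0 : F) * (X 44 (0 : F) * (X 47 (0 : F) * z))) := ⟨w, by simp [X_zero]⟩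
  simp only [A1, Z1, T2, A3, Z3, T4, A5, Z5, T6, A7, Z7, T8, mul_assoc, X_mul_assoc, ph, map_mul, map_pow, map_add, th_sq θ, q32_37, q32_44, q32_47, q37_44, q37_47, q44_47]
  all_goals try simp only [map_mul, map_pow, map_add, th_sq θ]
  all_goals (repeat' refine mul_congr ?_ ?_)
  all_goals first
    | rfl
    | (refine congrArg _ ?_; ring1)
    | (refine congrArg _ ?_; rw [← sub_eq_zero, CharTwo.sub_eq_add]; ring_nf;
       simp [num_char_two]; done)

theorem rT6_T2 (u t : F) (w : GL chevF4.Idx F) :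
    T6 θ u * (T2 θ t * w) = T2 θ t * (T6 θ u * w) := by
  obtain ⟨z, rfl⟩ : ∃ z, w = X 32 (0 : F) * (X 37 (0 : F) * (X 38 (0 : F) * (X 43 (0 : F) * z))) := ⟨w, by simp [X_zero]⟩
  simp only [A1, Z1, T2, A3, Z3, T4, A5, Z5, T6, A7, Z7, T8, mul_assoc, X_mul_assoc, ph, map_mul, map_pow, map_add, th_sq θ, q32_37, q32_38, q32_43, q37_38, q37_43, q38_43]
  all_goals try simp only [map_mul, map_pow, map_add, th_sq θ]
  all_goals (repeat' refine mul_congr ?_ ?_)
  all_goals first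
    | rfl
    | (refine congrArg _ ?_; ring1)
    | (refine congrArg _ ?_; rw [← sub_eq_zero, CharTwo.sub_eq_add]; ring_nf;
       simp [num_char_two]; done)

theorem rA7_T2 (u t : F) (w : GL chevF4.Idx F) :
    A7 θ u * (T2 θ t * w) = T2 θ t * (Z3 θ (ph θ t * u) * (T4 θ (ph θ u * t) * (A7 θ u * w))) := by
  obtain ⟨z, rfl⟩ : ∃ z, w = X 26 (0 : F) * (X 32 (0 : F) * (X 34 (0 : F) * (X 36 (0 : F) * (X 37 (0 : F) * (X 39 (0 : F) * (X 40 (0 : F) * (X 42 (0 : F) * (X 44 (0 : F) * (X 45 (0 : F) * (X 46 (0 : F) * (X 47 (0 : F) * z))))))))))) := ⟨w, by simp [X_zero]⟩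
  simp only [A1, Z1, T2, A3, Z3, T4, A5, Z5, T6, A7, Z7, T8, mul_assoc, X_mul_assoc, ph, map_mul, map_pow, map_add, th_sq θ, q26_32, q26_34, q26_36, q26_37, q26_39, q26_40, q26_42, q26_44, q26_45, q26_46, q26_47, q32_34, q32_36, q32_37, q32_39, q32_40, q32_42, q32_44, q32_45, q32_46, q32_47, q34_36, q34_37, q34_39, q34_40, q34_42, q34_44, q34_45, q34_46, q34_47, q36_37, q36_39, q36_40, q36_42, q36_44, q36_45, q36_46, q36_47, q37_39, q37_40, q37_42, q37_44, q37_45, q37_46, q37_47, q39_40, q39_42, q39_44, q39_45, q39_46, q39_47, q40_42, q40_44, q40_45, q40_46, q40_47, q42_44, q42_45, q42_46, q42_47, q44_45, q44_46, q44_47, q45_46, q45_47, q46_47]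
  all_goals try simp only [map_mul, map_pow, map_add, th_sq θ]
  all_goals (repeat' refine mul_congr ?_ ?_)
  all_goals first
    | rfl
    | (refine congrArg _ ?_; ring1)
    | (refine congrArg _ ?_; rw [← sub_eq_zero, CharTwo.sub_eq_add]; ring_nf;
       simp [num_char_two]; done)

theorem rZ7_T2 (u t : F) (w : GL chevF4.Idx F) :
    Z7 θ u * (T2 θ t * w) = T2 θ t * (Z5 θ (t * u) * (Z7 θ u * w)) := by
  obtain ⟨z, rfl⟩ : ∃ z, w = X 32 (0 : F) * (X 36 (0 : F) * (X 37 (0 : F) * (X 42 (0 : F) * (X 44 (0 : F) * (X 47 (0 : F) * z))))) := ⟨w, by simp [X_zero]⟩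
  simp only [A1, Z1, T2, A3, Z3, T4, A5, Z5, T6, A7, Z7, T8, mul_assoc, X_mul_assoc, ph, map_mul, map_pow, map_add, th_sq θ, q32_36, q32_37, q32_42, q32_44, q32_47, q36_37, q36_42, q36_44, q36_47, q37_42, q37_44, q37_47, q42_44, q42_47, q44_47]
  all_goals try simp only [map_mul, map_pow, map_add, th_sq θ]
  all_goals (repeat' refine mul_congr ?_ ?_)
  all_goals first
    | rfl
    | (refine congrArg _ ?_; ring1)
    | (refine congrArg _ ?_; rw [← sub_eq_zero, CharTwo.sub_eq_add]; ring_nf;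
       simp [num_char_two]; done)

theorem rT8_T2 (u t : F) (w : GL chevF4.Idx F) :
    T8 θ u * (T2 θ t * w) = T2 θ t * (T4 θ (ph θ t * u) * (T6 θ (ph θ u * t) * (T8 θ u * w))) := by
  obtain ⟨z, rfl⟩ : ∃ z, w = X 24 (0 : F) * (X 32 (0 : F) * (X 33 (0 : F) * (X 37 (0 : F) * (X 38 (0 : F) * (X 39 (0 : F) * (X 43 (0 : F) * (X 45 (0 : F) * z))))))) := ⟨w, by simp [X_zero]⟩
  simp only [A1, Z1, T2, A3, Z3, T4, A5, Z5, T6, A7, Z7, T8, mul_assoc, X_mul_assoc, ph, map_mul, map_pow, map_add, th_sq θ, q24_32, q24_33, q24_37, q24_38, q24_39, q24_43, q24_45, q32_33, q32_37, q32_38, q32_39, q32_43, q32_45, q33_37, q33_38, q33_39, q33_43, q33_45, q37_38, q37_39, q37_43, q37_45, q38_39, q38_43, q38_45, q39_43, q39_45, q43_45]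
  all_goals try simp only [map_mul, map_pow, map_add, th_sq θ]
  all_goals (repeat' refine mul_congr ?_ ?_)
  all_goals first
    | rfl
    | (refine congrArg _ ?_; ring1)
    | (refine congrArg _ ?_; rw [← sub_eq_zero, CharTwo.sub_eq_add]; ring_nf;
       simp [num_char_two]; done)

theorem rZ3_A3 (u t : F) (w : GL chevF4.Idx F) :
    Z3 θ u * (A3 θ t * w) = A3 θ t * (Z3 θ u * w) := by
  obtain ⟨z, rfl⟩ : ∃ z, w = X 31 (0 : F) * (X 35 (0 : F) * (X 40 (0 : F) * (X 46 (0 : F) * z))) := ⟨w, by simp [X_zero]⟩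
  simp only [A1, Z1, T2, A3, Z3, T4, A5, Z5, T6, A7, Z7, T8, mul_assoc, X_mul_assoc, ph, map_mul, map_pow, map_add, th_sq θ, q31_35, q31_40, q31_46, q35_40, q35_46, q40_46]
  all_goals try simp only [map_mul, map_pow, map_add, th_sq θ]
  all_goals (repeat' refine mul_congr ?_ ?_)
  all_goals first
    | rfl
    | (refine congrArg _ ?_; ring1)
    | (refine congrArg _ ?_; rw [← sub_eq_zero, CharTwo.sub_eq_add]; ring_nf;
       simp [num_char_two]; done)

theorem rT4_A3 (u t : F) (w : GL chevF4.Idx F) :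
    T4 θ u * (A3 θ t * w) = A3 θ t * (T4 θ u * w) := by
  obtain ⟨z, rfl⟩ : ∃ z, w = X 31 (0 : F) * (X 35 (0 : F) * (X 39 (0 : F) * (X 40 (0 : F) * (X 45 (0 : F) * (X 46 (0 : F) * z))))) := ⟨w, by simp [X_zero]⟩
  simp only [A1, Z1, T2, A3, Z3, T4, A5, Z5, T6, A7, Z7, T8, mul_assoc, X_mul_assoc, ph, map_mul, map_pow, map_add, th_sq θ, q31_35, q31_39, q31_40, q31_45, q31_46, q35_39, q35_40, q35_45, q35_46, q39_40, q39_45, q39_46, q40_45, q40_46, q45_46]
  all_goals try simp only [map_mul, map_pow, map_add, th_sq θ]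
  all_goals (repeat' refine mul_congr ?_ ?_)
  all_goals first
    | rfl
    | (refine congrArg _ ?_; ring1)
    | (refine congrArg _ ?_; rw [← sub_eq_zero, CharTwo.sub_eq_add]; ring_nf;
       simp [num_char_two]; done)

theorem rA5_A3 (u t : F) (w : GL chevF4.Idx F) :
    A5 θ u * (A3 θ t * w) = A3 θ t * (T4 θ (t * u) * (A5 θ u * w)) := by
  obtain ⟨z, rfl⟩ : ∃ z, w = X 29 (0 : F) * (X 31 (0 : F) * (X 35 (0 : F) * (X 39 (0 : F) * (X 40 (0 : F) * (X 41 (0 : F) * (X 44 (0 : F) * (X 45 (0 : F) * (X 46 (0 : F) * (X 47 (0 : F) * z))))))))) := ⟨w, by simp [X_zero]⟩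
  simp only [A1, Z1, T2, A3, Z3, T4, A5, Z5, T6, A7, Z7, T8, mul_assoc, X_mul_assoc, ph, map_mul, map_pow, map_add, th_sq θ, q29_31, q29_35, q29_39, q29_40, q29_41, q29_44, q29_45, q29_46, q29_47, q31_35, q31_39, q31_40, q31_41, q31_44, q31_45, q31_46, q31_47, q35_39, q35_40, q35_41, q35_44, q35_45, q35_46, q35_47, q39_40, q39_41, q39_44, q39_45, q39_46, q39_47, q40_41, q40_44, q40_45, q40_46, q40_47, q41_44, q41_45, q41_46, q41_47, q44_45, q44_46, q44_47, q45_46, q45_47, q46_47]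
  all_goals try simp only [map_mul, map_pow, map_add, th_sq θ]
  all_goals (repeat' refine mul_congr ?_ ?_)
  all_goals first
    | rfl
    | (refine congrArg _ ?_; ring1)
    | (refine congrArg _ ?_; rw [← sub_eq_zero, CharTwo.sub_eq_add]; ring_nf;
       simp [num_char_two]; done)

theorem rZ5_A3 (u t : F) (w : GL chevF4.Idx F) :
    Z5 θ u * (A3 θ t * w) = A3 θ t * (Z5 θ u * w) := by
  obtain ⟨z, rfl⟩ : ∃ z, w = X 31 (0 : F) * (X 35 (0 : F) * (X 40 (0 : F) * (X 44 (0 : F) * (X 46 (0 : F) * (X 47 (0 : F) * z))))) := ⟨w, by simp [X_zero]⟩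
  simp only [A1, Z1, T2, A3, Z3, T4, A5, Z5, T6, A7, Z7, T8, mul_assoc, X_mul_assoc, ph, map_mul, map_pow, map_add, th_sq θ, q31_35, q31_40, q31_44, q31_46, q31_47, q35_40, q35_44, q35_46, q35_47, q40_44, q40_46, q40_47, q44_46, q44_47, q46_47]
  all_goals try simp only [map_mul, map_pow, map_add, th_sq θ]
  all_goals (repeat' refine mul_congr ?_ ?_)
  all_goals first
    | rfl
    | (refine congrArg _ ?_; ring1)
    | (refine congrArg _ ?_; rw [← sub_eq_zero, CharTwo.sub_eq_add]; ring_nf;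
       simp [num_char_two]; done)

theorem rT6_A3 (u t : F) (w : GL chevF4.Idx F) :
    T6 θ u * (A3 θ t * w) = A3 θ t * (Z5 θ (t * u) * (T6 θ u * w)) := by
  obtain ⟨z, rfl⟩ : ∃ z, w = X 31 (0 : F) * (X 35 (0 : F) * (X 38 (0 : F) * (X 40 (0 : F) * (X 43 (0 : F) * (X 44 (0 : F) * (X 46 (0 : F) * (X 47 (0 : F) * z))))))) := ⟨w, by simp [X_zero]⟩
  simp only [A1, Z1, T2, A3, Z3, T4, A5, Z5, T6, A7, Z7, T8, mul_assoc, X_mul_assoc, ph, map_mul, map_pow, map_add, th_sq θ, q31_35, q31_38, q31_40, q31_43, q31_44, q31_46, q31_47, q35_38, q35_40, q35_43, q35_44, q35_46, q35_47, q38_40, q38_43, q38_44, q38_46, q38_47, q40_43, q40_44, q40_46, q40_47, q43_44, q43_46, q43_47, q44_46, q44_47, q46_47]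
  all_goals try simp only [map_mul, map_pow, map_add, th_sq θ]
  all_goals (repeat' refine mul_congr ?_ ?_)
  all_goals first
    | rfl
    | (refine congrArg _ ?_; ring1)
    | (refine congrArg _ ?_; rw [← sub_eq_zero, CharTwo.sub_eq_add]; ring_nf;
       simp [num_char_two]; done)

theorem rA7_A3 (u t : F) (w : GL chevF4.Idx F) :
    A7 θ u * (A3 θ t * w) = A3 θ t * (A7 θ u * w) := by
  obtain ⟨z, rfl⟩ : ∃ z, w = X 26 (0 : F) * (X 31 (0 : F) * (X 34 (0 : F) * (X 35 (0 : F) * (X 36 (0 : F) * (X 40 (0 : F) * (X 42 (0 : F) * (X 46 (0 : F) * z))))))) := ⟨w, by simp [X_zero]⟩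
  simp only [A1, Z1, T2, A3, Z3, T4, A5, Z5, T6, A7, Z7, T8, mul_assoc, X_mul_assoc, ph, map_mul, map_pow, map_add, th_sq θ, q26_31, q26_34, q26_35, q26_36, q26_40, q26_42, q26_46, q31_34, q31_35, q31_36, q31_40, q31_42, q31_46, q34_35, q34_36, q34_40, q34_42, q34_46, q35_36, q35_40, q35_42, q35_46, q36_40, q36_42, q36_46, q40_42, q40_46, q42_46]
  all_goals try simp only [map_mul, map_pow, map_add, th_sq θ]
  all_goals (repeat' refine mul_congr ?_ ?_)
  all_goals first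
    | rfl
    | (refine congrArg _ ?_; ring1)
    | (refine congrArg _ ?_; rw [← sub_eq_zero, CharTwo.sub_eq_add]; ring_nf;
       simp [num_char_two]; done)

theorem rZ7_A3 (u t : F) (w : GL chevF4.Idx F) :
    Z7 θ u * (A3 θ t * w) = A3 θ t * (Z7 θ u * w) := by
  obtain ⟨z, rfl⟩ : ∃ z, w = X 31 (0 : F) * (X 35 (0 : F) * (X 36 (0 : F) * (X 40 (0 : F) * (X 42 (0 : F) * (X 46 (0 : F) * z))))) := ⟨w, by simp [X_zero]⟩
  simp only [A1, Z1, T2, A3, Z3, T4, A5, Z5, T6, A7, Z7, T8, mul_assoc, X_mul_assoc, ph, map_mul, map_pow, map_add, th_sq θ, q31_35, q31_36, q31_40, q31_42, q31_46, q35_36, q35_40, q35_42, q35_46, q36_40, q36_42, q36_46, q40_42, q40_46, q42_46]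
  all_goals try simp only [map_mul, map_pow, map_add, th_sq θ]
  all_goals (repeat' refine mul_congr ?_ ?_)
  all_goals first
    | rfl
    | (refine congrArg _ ?_; ring1)
    | (refine congrArg _ ?_; rw [← sub_eq_zero, CharTwo.sub_eq_add]; ring_nf;
       simp [num_char_two]; done)

theorem rT8_A3 (u t : F) (w : GL chevF4.Idx F) :
    T8 θ u * (A3 θ t * w) = A3 θ t * (Z5 θ (ph θ t * t * u) * (T6 θ (ph θ t * u) * (Z7 θ (ph θ u * t) * (T8 θ u * w)))) := by
  obtain ⟨z, rfl⟩ : ∃ z, w = X 24 (0 : F) * (X 31 (0 : F) * (X 33 (0 : F) * (X 35 (0 : F) * (X 36 (0 : F) * (X 38 (0 : F) * (X 40 (0 : F) * (X 42 (0 : F) * (X 43 (0 : F) * (X 44 (0 : F) * (X 46 (0 : F) * (X 47 (0 : F) * z))))))))))) := ⟨w, by simp [X_zero]⟩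
  simp only [A1, Z1, T2, A3, Z3, T4, A5, Z5, T6, A7, Z7, T8, mul_assoc, X_mul_assoc, ph, map_mul, map_pow, map_add, th_sq θ, q24_31, q24_33, q24_35, q24_36, q24_38, q24_40, q24_42, q24_43, q24_44, q24_46, q24_47, q31_33, q31_35, q31_36, q31_38, q31_40, q31_42, q31_43, q31_44, q31_46, q31_47, q33_35, q33_36, q33_38, q33_40, q33_42, q33_43, q33_44, q33_46, q33_47, q35_36, q35_38, q35_40, q35_42, q35_43, q35_44, q35_46, q35_47, q36_38, q36_40, q36_42, q36_43, q36_44, q36_46, q36_47, q38_40, q38_42, q38_43, q38_44, q38_46, q38_47, q40_42, q40_43, q40_44, q40_46, q40_47, q42_43, q42_44, q42_46, q42_47, q43_44, q43_46, q43_47, q44_46, q44_47, q46_47]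
  all_goals try simp only [map_mul, map_pow, map_add, th_sq θ]
  all_goals (repeat' refine mul_congr ?_ ?_)
  all_goals first
    | rfl
    | (refine congrArg _ ?_; ring1)
    | (refine congrArg _ ?_; rw [← sub_eq_zero, CharTwo.sub_eq_add]; ring_nf;
       simp [num_char_two]; done)

theorem rT4_Z3 (u t : F) (w : GL chevF4.Idx F) :
    T4 θ u * (Z3 θ t * w) = Z3 θ t * (T4 θ u * w) := by
  obtain ⟨z, rfl⟩ : ∃ z, w = X 39 (0 : F) * (X 40 (0 : F) * (X 45 (0 : F) * (X 46 (0 : F) * z))) := ⟨w, by simp [X_zero]⟩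
  simp only [A1, Z1, T2, A3, Z3, T4, A5, Z5, T6, A7, Z7, T8, mul_assoc, X_mul_assoc, ph, map_mul, map_pow, map_add, th_sq θ, q39_40, q39_45, q39_46, q40_45, q40_46, q45_46]
  all_goals try simp only [map_mul, map_pow, map_add, th_sq θ]
  all_goals (repeat' refine mul_congr ?_ ?_)
  all_goals first
    | rfl
    | (refine congrArg _ ?_; ring1)
    | (refine congrArg _ ?_; rw [← sub_eq_zero, CharTwo.sub_eq_add]; ring_nf;
       simp [num_char_two]; done)

theorem rA5_Z3 (u t : F) (w : GL chevF4.Idx F) :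
    A5 θ u * (Z3 θ t * w) = Z3 θ t * (A5 θ u * w) := by
  obtain ⟨z, rfl⟩ : ∃ z, w = X 29 (0 : F) * (X 40 (0 : F) * (X 41 (0 : F) * (X 44 (0 : F) * (X 46 (0 : F) * (X 47 (0 : F) * z))))) := ⟨w, by simp [X_zero]⟩
  simp only [A1, Z1, T2, A3, Z3, T4, A5, Z5, T6, A7, Z7, T8, mul_assoc, X_mul_assoc, ph, map_mul, map_pow, map_add, th_sq θ, q29_40, q29_41, q29_44, q29_46, q29_47, q40_41, q40_44, q40_46, q40_47, q41_44, q41_46, q41_47, q44_46, q44_47, q46_47]
  all_goals try simp only [map_mul, map_pow, map_add, th_sq θ]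
  all_goals (repeat' refine mul_congr ?_ ?_)
  all_goals first
    | rfl
    | (refine congrArg _ ?_; ring1)
    | (refine congrArg _ ?_; rw [← sub_eq_zero, CharTwo.sub_eq_add]; ring_nf;
       simp [num_char_two]; done)

theorem rZ5_Z3 (u t : F) (w : GL chevF4.Idx F) :
    Z5 θ u * (Z3 θ t * w) = Z3 θ t * (Z5 θ u * w) := by
  obtain ⟨z, rfl⟩ : ∃ z, w = X 40 (0 : F) * (X 44 (0 : F) * (X 46 (0 : F) * (X 47 (0 : F) * z))) := ⟨w, by simp [X_zero]⟩
  simp only [A1, Z1, T2, A3, Z3, T4, A5, Z5, T6, A7, Z7, T8, mul_assoc, X_mul_assoc, ph, map_mul, map_pow, map_add, th_sq θ, q40_44, q40_46, q40_47, q44_46, q44_47, q46_47]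
  all_goals try simp only [map_mul, map_pow, map_add, th_sq θ]
  all_goals (repeat' refine mul_congr ?_ ?_)
  all_goals first
    | rfl
    | (refine congrArg _ ?_; ring1)
    | (refine congrArg _ ?_; rw [← sub_eq_zero, CharTwo.sub_eq_add]; ring_nf;
       simp [num_char_two]; done)

theorem rT6_Z3 (u t : F) (w : GL chevF4.Idx F) :
    T6 θ u * (Z3 θ t * w) = Z3 θ t * (T6 θ u * w) := by
  obtain ⟨z, rfl⟩ : ∃ z, w = X 38 (0 : F) * (X 40 (0 : F) * (X 43 (0 : F) * (X 46 (0 : F) * z))) := ⟨w, by simp [X_zero]⟩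
  simp only [A1, Z1, T2, A3, Z3, T4, A5, Z5, T6, A7, Z7, T8, mul_assoc, X_mul_assoc, ph, map_mul, map_pow, map_add, th_sq θ, q38_40, q38_43, q38_46, q40_43, q40_46, q43_46]
  all_goals try simp only [map_mul, map_pow, map_add, th_sq θ]
  all_goals (repeat' refine mul_congr ?_ ?_)
  all_goals first
    | rfl
    | (refine congrArg _ ?_; ring1)
    | (refine congrArg _ ?_; rw [← sub_eq_zero, CharTwo.sub_eq_add]; ring_nf;
       simp [num_char_two]; done)

theorem rA7_Z3 (u t : F) (w : GL chevF4.Idx F) :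
    A7 θ u * (Z3 θ t * w) = Z3 θ t * (A7 θ u * w) := by
  obtain ⟨z, rfl⟩ : ∃ z, w = X 26 (0 : F) * (X 34 (0 : F) * (X 36 (0 : F) * (X 40 (0 : F) * (X 42 (0 : F) * (X 46 (0 : F) * z))))) := ⟨w, by simp [X_zero]⟩
  simp only [A1, Z1, T2, A3, Z3, T4, A5, Z5, T6, A7, Z7, T8, mul_assoc, X_mul_assoc, ph, map_mul, map_pow, map_add, th_sq θ, q26_34, q26_36, q26_40, q26_42, q26_46, q34_36, q34_40, q34_42, q34_46, q36_40, q36_42, q36_46, q40_42, q40_46, q42_46]
  all_goals try simp only [map_mul, map_pow, map_add, th_sq θ]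
  all_goals (repeat' refine mul_congr ?_ ?_)
  all_goals first
    | rfl
    | (refine congrArg _ ?_; ring1)
    | (refine congrArg _ ?_; rw [← sub_eq_zero, CharTwo.sub_eq_add]; ring_nf;
       simp [num_char_two]; done)

theorem rZ7_Z3 (u t : F) (w : GL chevF4.Idx F) :
    Z7 θ u * (Z3 θ t * w) = Z3 θ t * (Z7 θ u * w) := by
  obtain ⟨z, rfl⟩ : ∃ z, w = X 36 (0 : F) * (X 40 (0 : F) * (X 42 (0 : F) * (X 46 (0 : F) * z))) := ⟨w, by simp [X_zero]⟩
  simp only [A1, Z1, T2, A3, Z3, T4, A5, Z5, T6, A7, Z7, T8, mul_assoc, X_mul_assoc, ph, map_mul, map_pow, map_add, th_sq θ, q36_40, q36_42, q36_46, q40_42, q40_46, q42_46]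
  all_goals try simp only [map_mul, map_pow, map_add, th_sq θ]
  all_goals (repeat' refine mul_congr ?_ ?_)
  all_goals first
    | rfl
    | (refine congrArg _ ?_; ring1)
    | (refine congrArg _ ?_; rw [← sub_eq_zero, CharTwo.sub_eq_add]; ring_nf;
       simp [num_char_two]; done)

theorem rT8_Z3 (u t : F) (w : GL chevF4.Idx F) :
    T8 θ u * (Z3 θ t * w) = Z3 θ t * (Z5 θ (t * u) * (T8 θ u * w)) := by
  obtain ⟨z, rfl⟩ : ∃ z, w = X 24 (0 : F) * (X 33 (0 : F) * (X 40 (0 : F) * (X 44 (0 : F) * (X 46 (0 : F) * (X 47 (0 : F) * z))))) := ⟨w, by simp [X_zero]⟩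
  simp only [A1, Z1, T2, A3, Z3, T4, A5, Z5, T6, A7, Z7, T8, mul_assoc, X_mul_assoc, ph, map_mul, map_pow, map_add, th_sq θ, q24_33, q24_40, q24_44, q24_46, q24_47, q33_40, q33_44, q33_46, q33_47, q40_44, q40_46, q40_47, q44_46, q44_47, q46_47]
  all_goals try simp only [map_mul, map_pow, map_add, th_sq θ]
  all_goals (repeat' refine mul_congr ?_ ?_)
  all_goals first
    | rfl
    | (refine congrArg _ ?_; ring1)
    | (refine congrArg _ ?_; rw [← sub_eq_zero, CharTwo.sub_eq_add]; ring_nf;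
       simp [num_char_two]; done)

theorem rA5_T4 (u t : F) (w : GL chevF4.Idx F) :
    A5 θ u * (T4 θ t * w) = T4 θ t * (A5 θ u * w) := by
  obtain ⟨z, rfl⟩ : ∃ z, w = X 29 (0 : F) * (X 39 (0 : F) * (X 41 (0 : F) * (X 44 (0 : F) * (X 45 (0 : F) * (X 47 (0 : F) * z))))) := ⟨w, by simp [X_zero]⟩
  simp only [A1, Z1, T2, A3, Z3, T4, A5, Z5, T6, A7, Z7, T8, mul_assoc, X_mul_assoc, ph, map_mul, map_pow, map_add, th_sq θ, q29_39, q29_41, q29_44, q29_45, q29_47, q39_41, q39_44, q39_45, q39_47, q41_44, q41_45, q41_47, q44_45, q44_47, q45_47]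
  all_goals try simp only [map_mul, map_pow, map_add, th_sq θ]
  all_goals (repeat' refine mul_congr ?_ ?_)
  all_goals first
    | rfl
    | (refine congrArg _ ?_; ring1)
    | (refine congrArg _ ?_; rw [← sub_eq_zero, CharTwo.sub_eq_add]; ring_nf;
       simp [num_char_two]; done)

theorem rZ5_T4 (u t : F) (w : GL chevF4.Idx F) :
    Z5 θ u * (T4 θ t * w) = T4 θ t * (Z5 θ u * w) := by
  obtain ⟨z, rfl⟩ : ∃ z, w = X 39 (0 : F) * (X 44 (0 : F) * (X 45 (0 : F) * (X 47 (0 : F) * z))) := ⟨w, by simp [X_zero]⟩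
  simp only [A1, Z1, T2, A3, Z3, T4, A5, Z5, T6, A7, Z7, T8, mul_assoc, X_mul_assoc, ph, map_mul, map_pow, map_add, th_sq θ, q39_44, q39_45, q39_47, q44_45, q44_47, q45_47]
  all_goals try simp only [map_mul, map_pow, map_add, th_sq θ]
  all_goals (repeat' refine mul_congr ?_ ?_)
  all_goals first
    | rfl
    | (refine congrArg _ ?_; ring1)
    | (refine congrArg _ ?_; rw [← sub_eq_zero, CharTwo.sub_eq_add]; ring_nf;
       simp [num_char_two]; done)

theorem rT6_T4 (u t : F) (w : GL chevF4.Idx F) :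
    T6 θ u * (T4 θ t * w) = T4 θ t * (T6 θ u * w) := by
  obtain ⟨z, rfl⟩ : ∃ z, w = X 38 (0 : F) * (X 39 (0 : F) * (X 43 (0 : F) * (X 45 (0 : F) * z))) := ⟨w, by simp [X_zero]⟩
  simp only [A1, Z1, T2, A3, Z3, T4, A5, Z5, T6, A7, Z7, T8, mul_assoc, X_mul_assoc, ph, map_mul, map_pow, map_add, th_sq θ, q38_39, q38_43, q38_45, q39_43, q39_45, q43_45]
  all_goals try simp only [map_mul, map_pow, map_add, th_sq θ]
  all_goals (repeat' refine mul_congr ?_ ?_)
  all_goals first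
    | rfl
    | (refine congrArg _ ?_; ring1)
    | (refine congrArg _ ?_; rw [← sub_eq_zero, CharTwo.sub_eq_add]; ring_nf;
       simp [num_char_two]; done)

theorem rA7_T4 (u t : F) (w : GL chevF4.Idx F) :
    A7 θ u * (T4 θ t * w) = T4 θ t * (Z5 θ (t * u) * (A7 θ u * w)) := by
  obtain ⟨z, rfl⟩ : ∃ z, w = X 26 (0 : F) * (X 34 (0 : F) * (X 36 (0 : F) * (X 39 (0 : F) * (X 42 (0 : F) * (X 44 (0 : F) * (X 45 (0 : F) * (X 47 (0 : F) * z))))))) := ⟨w, by simp [X_zero]⟩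
  simp only [A1, Z1, T2, A3, Z3, T4, A5, Z5, T6, A7, Z7, T8, mul_assoc, X_mul_assoc, ph, map_mul, map_pow, map_add, th_sq θ, q26_34, q26_36, q26_39, q26_42, q26_44, q26_45, q26_47, q34_36, q34_39, q34_42, q34_44, q34_45, q34_47, q36_39, q36_42, q36_44, q36_45, q36_47, q39_42, q39_44, q39_45, q39_47, q42_44, q42_45, q42_47, q44_45, q44_47, q45_47]
  all_goals try simp only [map_mul, map_pow, map_add, th_sq θ]
  all_goals (repeat' refine mul_congr ?_ ?_)
  all_goals first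
    | rfl
    | (refine congrArg _ ?_; ring1)
    | (refine congrArg _ ?_; rw [← sub_eq_zero, CharTwo.sub_eq_add]; ring_nf;
       simp [num_char_two]; done)

theorem rZ7_T4 (u t : F) (w : GL chevF4.Idx F) :
    Z7 θ u * (T4 θ t * w) = T4 θ t * (Z7 θ u * w) := by
  obtain ⟨z, rfl⟩ : ∃ z, w = X 36 (0 : F) * (X 39 (0 : F) * (X 42 (0 : F) * (X 45 (0 : F) * z))) := ⟨w, by simp [X_zero]⟩
  simp only [A1, Z1, T2, A3, Z3, T4, A5, Z5, T6, A7, Z7, T8, mul_assoc, X_mul_assoc, ph, map_mul, map_pow, map_add, th_sq θ, q36_39, q36_42, q36_45, q39_42, q39_45, q42_45]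
  all_goals try simp only [map_mul, map_pow, map_add, th_sq θ]
  all_goals (repeat' refine mul_congr ?_ ?_)
  all_goals first
    | rfl
    | (refine congrArg _ ?_; ring1)
    | (refine congrArg _ ?_; rw [← sub_eq_zero, CharTwo.sub_eq_add]; ring_nf;
       simp [num_char_two]; done)

theorem rT8_T4 (u t : F) (w : GL chevF4.Idx F) :
    T8 θ u * (T4 θ t * w) = T4 θ t * (T8 θ u * w) := by
  obtain ⟨z, rfl⟩ : ∃ z, w = X 24 (0 : F) * (X 33 (0 : F) * (X 39 (0 : F) * (X 45 (0 : F) * z))) := ⟨w, by simp [X_zero]⟩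
  simp only [A1, Z1, T2, A3, Z3, T4, A5, Z5, T6, A7, Z7, T8, mul_assoc, X_mul_assoc, ph, map_mul, map_pow, map_add, th_sq θ, q24_33, q24_39, q24_45, q33_39, q33_45, q39_45]
  all_goals try simp only [map_mul, map_pow, map_add, th_sq θ]
  all_goals (repeat' refine mul_congr ?_ ?_)
  all_goals first
    | rfl
    | (refine congrArg _ ?_; ring1)
    | (refine congrArg _ ?_; rw [← sub_eq_zero, CharTwo.sub_eq_add]; ring_nf;
       simp [num_char_two]; done)

theorem rZ5_A5 (u t : F) (w : GL chevF4.Idx F) :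
    Z5 θ u * (A5 θ t * w) = A5 θ t * (Z5 θ u * w) := by
  obtain ⟨z, rfl⟩ : ∃ z, w = X 29 (0 : F) * (X 41 (0 : F) * (X 44 (0 : F) * (X 47 (0 : F) * z))) := ⟨w, by simp [X_zero]⟩
  simp only [A1, Z1, T2, A3, Z3, T4, A5, Z5, T6, A7, Z7, T8, mul_assoc, X_mul_assoc, ph, map_mul, map_pow, map_add, th_sq θ, q29_41, q29_44, q29_47, q41_44, q41_47, q44_47]
  all_goals try simp only [map_mul, map_pow, map_add, th_sq θ]
  all_goals (repeat' refine mul_congr ?_ ?_)
  all_goals first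
    | rfl
    | (refine congrArg _ ?_; ring1)
    | (refine congrArg _ ?_; rw [← sub_eq_zero, CharTwo.sub_eq_add]; ring_nf;
       simp [num_char_two]; done)

theorem rT6_A5 (u t : F) (w : GL chevF4.Idx F) :
    T6 θ u * (A5 θ t * w) = A5 θ t * (T6 θ u * w) := by
  obtain ⟨z, rfl⟩ : ∃ z, w = X 29 (0 : F) * (X 38 (0 : F) * (X 41 (0 : F) * (X 43 (0 : F) * (X 44 (0 : F) * (X 47 (0 : F) * z))))) := ⟨w, by simp [X_zero]⟩
  simp only [A1, Z1, T2, A3, Z3, T4, A5, Z5, T6, A7, Z7, T8, mul_assoc, X_mul_assoc, ph, map_mul, map_pow, map_add, th_sq θ, q29_38, q29_41, q29_43, q29_44, q29_47, q38_41, q38_43, q38_44, q38_47, q41_43, q41_44, q41_47, q43_44, q43_47, q44_47]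
  all_goals try simp only [map_mul, map_pow, map_add, th_sq θ]
  all_goals (repeat' refine mul_congr ?_ ?_)
  all_goals first
    | rfl
    | (refine congrArg _ ?_; ring1)
    | (refine congrArg _ ?_; rw [← sub_eq_zero, CharTwo.sub_eq_add]; ring_nf;
       simp [num_char_two]; done)

theorem rA7_A5 (u t : F) (w : GL chevF4.Idx F) :
    A7 θ u * (A5 θ t * w) = A5 θ t * (T6 θ (t * u) * (A7 θ u * w)) := by
  obtain ⟨z, rfl⟩ : ∃ z, w = X 26 (0 : F) * (X 29 (0 : F) * (X 34 (0 : F) * (X 36 (0 : F) * (X 38 (0 : F) * (X 41 (0 : F) * (X 42 (0 : F) * (X 43 (0 : F) * (X 44 (0 : F) * (X 47 (0 : F) * z))))))))) := ⟨w, by simp [X_zero]⟩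
  simp only [A1, Z1, T2, A3, Z3, T4, A5, Z5, T6, A7, Z7, T8, mul_assoc, X_mul_assoc, ph, map_mul, map_pow, map_add, th_sq θ, q26_29, q26_34, q26_36, q26_38, q26_41, q26_42, q26_43, q26_44, q26_47, q29_34, q29_36, q29_38, q29_41, q29_42, q29_43, q29_44, q29_47, q34_36, q34_38, q34_41, q34_42, q34_43, q34_44, q34_47, q36_38, q36_41, q36_42, q36_43, q36_44, q36_47, q38_41, q38_42, q38_43, q38_44, q38_47, q41_42, q41_43, q41_44, q41_47, q42_43, q42_44, q42_47, q43_44, q43_47, q44_47]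
  all_goals try simp only [map_mul, map_pow, map_add, th_sq θ]
  all_goals (repeat' refine mul_congr ?_ ?_)
  all_goals first
    | rfl
    | (refine congrArg _ ?_; ring1)
    | (refine congrArg _ ?_; rw [← sub_eq_zero, CharTwo.sub_eq_add]; ring_nf;
       simp [num_char_two]; done)

theorem rZ7_A5 (u t : F) (w : GL chevF4.Idx F) :
    Z7 θ u * (A5 θ t * w) = A5 θ t * (Z7 θ u * w) := by
  obtain ⟨z, rfl⟩ : ∃ z, w = X 29 (0 : F) * (X 36 (0 : F) * (X 41 (0 : F) * (X 42 (0 : F) * (X 44 (0 : F) * (X 47 (0 : F) * z))))) := ⟨w, by simp [X_zero]⟩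
  simp only [A1, Z1, T2, A3, Z3, T4, A5, Z5, T6, A7, Z7, T8, mul_assoc, X_mul_assoc, ph, map_mul, map_pow, map_add, th_sq θ, q29_36, q29_41, q29_42, q29_44, q29_47, q36_41, q36_42, q36_44, q36_47, q41_42, q41_44, q41_47, q42_44, q42_47, q44_47]
  all_goals try simp only [map_mul, map_pow, map_add, th_sq θ]
  all_goals (repeat' refine mul_congr ?_ ?_)
  all_goals first
    | rfl
    | (refine congrArg _ ?_; ring1)
    | (refine congrArg _ ?_; rw [← sub_eq_zero, CharTwo.sub_eq_add]; ring_nf;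
       simp [num_char_two]; done)

theorem rT8_A5 (u t : F) (w : GL chevF4.Idx F) :
    T8 θ u * (A5 θ t * w) = A5 θ t * (Z7 θ (t * u) * (T8 θ u * w)) := by
  obtain ⟨z, rfl⟩ : ∃ z, w = X 24 (0 : F) * (X 29 (0 : F) * (X 33 (0 : F) * (X 36 (0 : F) * (X 41 (0 : F) * (X 42 (0 : F) * (X 44 (0 : F) * (X 47 (0 : F) * z))))))) := ⟨w, by simp [X_zero]⟩
  simp only [A1, Z1, T2, A3, Z3, T4, A5, Z5, T6, A7, Z7, T8, mul_assoc, X_mul_assoc, ph, map_mul, map_pow, map_add, th_sq θ, q24_29, q24_33, q24_36, q24_41, q24_42, q24_44, q24_47, q29_33, q29_36, q29_41, q29_42, q29_44, q29_47, q33_36, q33_41, q33_42, q33_44, q33_47, q36_41, q36_42, q36_44, q36_47, q41_42, q41_44, q41_47, q42_44, q42_47, q44_47]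
  all_goals try simp only [map_mul, map_pow, map_add, th_sq θ]
  all_goals (repeat' refine mul_congr ?_ ?_)
  all_goals first
    | rfl
    | (refine congrArg _ ?_; ring1)
    | (refine congrArg _ ?_; rw [← sub_eq_zero, CharTwo.sub_eq_add]; ring_nf;
       simp [num_char_two]; done)

theorem rT6_Z5 (u t : F) (w : GL chevF4.Idx F) :
    T6 θ u * (Z5 θ t * w) = Z5 θ t * (T6 θ u * w) := by
  obtain ⟨z, rfl⟩ : ∃ z, w = X 38 (0 : F) * (X 43 (0 : F) * (X 44 (0 : F) * (X 47 (0 : F) * z))) := ⟨w, by simp [X_zero]⟩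
  simp only [A1, Z1, T2, A3, Z3, T4, A5, Z5, T6, A7, Z7, T8, mul_assoc, X_mul_assoc, ph, map_mul, map_pow, map_add, th_sq θ, q38_43, q38_44, q38_47, q43_44, q43_47, q44_47]
  all_goals try simp only [map_mul, map_pow, map_add, th_sq θ]
  all_goals (repeat' refine mul_congr ?_ ?_)
  all_goals first
    | rfl
    | (refine congrArg _ ?_; ring1)
    | (refine congrArg _ ?_; rw [← sub_eq_zero, CharTwo.sub_eq_add]; ring_nf;
       simp [num_char_two]; done)

theorem rA7_Z5 (u t : F) (w : GL chevF4.Idx F) :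
    A7 θ u * (Z5 θ t * w) = Z5 θ t * (A7 θ u * w) := by
  obtain ⟨z, rfl⟩ : ∃ z, w = X 26 (0 : F) * (X 34 (0 : F) * (X 36 (0 : F) * (X 42 (0 : F) * (X 44 (0 : F) * (X 47 (0 : F) * z))))) := ⟨w, by simp [X_zero]⟩
  simp only [A1, Z1, T2, A3, Z3, T4, A5, Z5, T6, A7, Z7, T8, mul_assoc, X_mul_assoc, ph, map_mul, map_pow, map_add, th_sq θ, q26_34, q26_36, q26_42, q26_44, q26_47, q34_36, q34_42, q34_44, q34_47, q36_42, q36_44, q36_47, q42_44, q42_47, q44_47]
  all_goals try simp only [map_mul, map_pow, map_add, th_sq θ]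
  all_goals (repeat' refine mul_congr ?_ ?_)
  all_goals first
    | rfl
    | (refine congrArg _ ?_; ring1)
    | (refine congrArg _ ?_; rw [← sub_eq_zero, CharTwo.sub_eq_add]; ring_nf;
       simp [num_char_two]; done)

theorem rZ7_Z5 (u t : F) (w : GL chevF4.Idx F) :
    Z7 θ u * (Z5 θ t * w) = Z5 θ t * (Z7 θ u * w) := by
  obtain ⟨z, rfl⟩ : ∃ z, w = X 36 (0 : F) * (X 42 (0 : F) * (X 44 (0 : F) * (X 47 (0 : F) * z))) := ⟨w, by simp [X_zero]⟩
  simp only [A1, Z1, T2, A3, Z3, T4, A5, Z5, T6, A7, Z7, T8, mul_assoc, X_mul_assoc, ph, map_mul, map_pow, map_add, th_sq θ, q36_42, q36_44, q36_47, q42_44, q42_47, q44_47]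
  all_goals try simp only [map_mul, map_pow, map_add, th_sq θ]
  all_goals (repeat' refine mul_congr ?_ ?_)
  all_goals first
    | rfl
    | (refine congrArg _ ?_; ring1)
    | (refine congrArg _ ?_; rw [← sub_eq_zero, CharTwo.sub_eq_add]; ring_nf;
       simp [num_char_two]; done)

theorem rT8_Z5 (u t : F) (w : GL chevF4.Idx F) :
    T8 θ u * (Z5 θ t * w) = Z5 θ t * (T8 θ u * w) := by
  obtain ⟨z, rfl⟩ : ∃ z, w = X 24 (0 : F) * (X 33 (0 : F) * (X 44 (0 : F) * (X 47 (0 : F) * z))) := ⟨w, by simp [X_zero]⟩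
  simp only [A1, Z1, T2, A3, Z3, T4, A5, Z5, T6, A7, Z7, T8, mul_assoc, X_mul_assoc, ph, map_mul, map_pow, map_add, th_sq θ, q24_33, q24_44, q24_47, q33_44, q33_47, q44_47]
  all_goals try simp only [map_mul, map_pow, map_add, th_sq θ]
  all_goals (repeat' refine mul_congr ?_ ?_)
  all_goals first
    | rfl
    | (refine congrArg _ ?_; ring1)
    | (refine congrArg _ ?_; rw [← sub_eq_zero, CharTwo.sub_eq_add]; ring_nf;
       simp [num_char_two]; done)

theorem rA7_T6 (u t : F) (w : GL chevF4.Idx F) :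
    A7 θ u * (T6 θ t * w) = T6 θ t * (A7 θ u * w) := by
  obtain ⟨z, rfl⟩ : ∃ z, w = X 26 (0 : F) * (X 34 (0 : F) * (X 36 (0 : F) * (X 38 (0 : F) * (X 42 (0 : F) * (X 43 (0 : F) * z))))) := ⟨w, by simp [X_zero]⟩
  simp only [A1, Z1, T2, A3, Z3, T4, A5, Z5, T6, A7, Z7, T8, mul_assoc, X_mul_assoc, ph, map_mul, map_pow, map_add, th_sq θ, q26_34, q26_36, q26_38, q26_42, q26_43, q34_36, q34_38, q34_42, q34_43, q36_38, q36_42, q36_43, q38_42, q38_43, q42_43]
  all_goals try simp only [map_mul, map_pow, map_add, th_sq θ]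
  all_goals (repeat' refine mul_congr ?_ ?_)
  all_goals first
    | rfl
    | (refine congrArg _ ?_; ring1)
    | (refine congrArg _ ?_; rw [← sub_eq_zero, CharTwo.sub_eq_add]; ring_nf;
       simp [num_char_two]; done)

theorem rZ7_T6 (u t : F) (w : GL chevF4.Idx F) :
    Z7 θ u * (T6 θ t * w) = T6 θ t * (Z7 θ u * w) := by
  obtain ⟨z, rfl⟩ : ∃ z, w = X 36 (0 : F) * (X 38 (0 : F) * (X 42 (0 : F) * (X 43 (0 : F) * z))) := ⟨w, by simp [X_zero]⟩
  simp only [A1, Z1, T2, A3, Z3, T4, A5, Z5, T6, A7, Z7, T8, mul_assoc, X_mul_assoc, ph, map_mul, map_pow, map_add, th_sq θ, q36_38, q36_42, q36_43, q38_42, q38_43, q42_43]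
  all_goals try simp only [map_mul, map_pow, map_add, th_sq θ]
  all_goals (repeat' refine mul_congr ?_ ?_)
  all_goals first
    | rfl
    | (refine congrArg _ ?_; ring1)
    | (refine congrArg _ ?_; rw [← sub_eq_zero, CharTwo.sub_eq_add]; ring_nf;
       simp [num_char_two]; done)

theorem rT8_T6 (u t : F) (w : GL chevF4.Idx F) :
    T8 θ u * (T6 θ t * w) = T6 θ t * (T8 θ u * w) := by
  obtain ⟨z, rfl⟩ : ∃ z, w = X 24 (0 : F) * (X 33 (0 : F) * (X 38 (0 : F) * (X 43 (0 : F) * z))) := ⟨w, by simp [X_zero]⟩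
  simp only [A1, Z1, T2, A3, Z3, T4, A5, Z5, T6, A7, Z7, T8, mul_assoc, X_mul_assoc, ph, map_mul, map_pow, map_add, th_sq θ, q24_33, q24_38, q24_43, q33_38, q33_43, q38_43]
  all_goals try simp only [map_mul, map_pow, map_add, th_sq θ]
  all_goals (repeat' refine mul_congr ?_ ?_)
  all_goals first
    | rfl
    | (refine congrArg _ ?_; ring1)
    | (refine congrArg _ ?_; rw [← sub_eq_zero, CharTwo.sub_eq_add]; ring_nf;
       simp [num_char_two]; done)

theorem rZ7_A7 (u t : F) (w : GL chevF4.Idx F) :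
    Z7 θ u * (A7 θ t * w) = A7 θ t * (Z7 θ u * w) := by
  obtain ⟨z, rfl⟩ : ∃ z, w = X 26 (0 : F) * (X 34 (0 : F) * (X 36 (0 : F) * (X 42 (0 : F) * z))) := ⟨w, by simp [X_zero]⟩
  simp only [A1, Z1, T2, A3, Z3, T4, A5, Z5, T6, A7, Z7, T8, mul_assoc, X_mul_assoc, ph, map_mul, map_pow, map_add, th_sq θ, q26_34, q26_36, q26_42, q34_36, q34_42, q36_42]
  all_goals try simp only [map_mul, map_pow, map_add, th_sq θ]
  all_goals (repeat' refine mul_congr ?_ ?_)
  all_goals first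
    | rfl
    | (refine congrArg _ ?_; ring1)
    | (refine congrArg _ ?_; rw [← sub_eq_zero, CharTwo.sub_eq_add]; ring_nf;
       simp [num_char_two]; done)

theorem rT8_A7 (u t : F) (w : GL chevF4.Idx F) :
    T8 θ u * (A7 θ t * w) = A7 θ t * (T8 θ u * w) := by
  obtain ⟨z, rfl⟩ : ∃ z, w = X 24 (0 : F) * (X 26 (0 : F) * (X 33 (0 : F) * (X 34 (0 : F) * (X 36 (0 : F) * (X 42 (0 : F) * z))))) := ⟨w, by simp [X_zero]⟩
  simp only [A1, Z1, T2, A3, Z3, T4, A5, Z5, T6, A7, Z7, T8, mul_assoc, X_mul_assoc, ph, map_mul, map_pow, map_add, th_sq θ, q24_26, q24_33, q24_34, q24_36, q24_42, q26_33, q26_34, q26_36, q26_42, q33_34, q33_36, q33_42, q34_36, q34_42, q36_42]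
  all_goals try simp only [map_mul, map_pow, map_add, th_sq θ]
  all_goals (repeat' refine mul_congr ?_ ?_)
  all_goals first
    | rfl
    | (refine congrArg _ ?_; ring1)
    | (refine congrArg _ ?_; rw [← sub_eq_zero, CharTwo.sub_eq_add]; ring_nf;
       simp [num_char_two]; done)

theorem rT8_Z7 (u t : F) (w : GL chevF4.Idx F) :
    T8 θ u * (Z7 θ t * w) = Z7 θ t * (T8 θ u * w) := by
  obtain ⟨z, rfl⟩ : ∃ z, w = X 24 (0 : F) * (X 33 (0 : F) * (X 36 (0 : F) * (X 42 (0 : F) * z))) := ⟨w, by simp [X_zero]⟩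
  simp only [A1, Z1, T2, A3, Z3, T4, A5, Z5, T6, A7, Z7, T8, mul_assoc, X_mul_assoc, ph, map_mul, map_pow, map_add, th_sq θ, q24_33, q24_36, q24_42, q33_36, q33_42, q36_42]
  all_goals try simp only [map_mul, map_pow, map_add, th_sq θ]
  all_goals (repeat' refine mul_congr ?_ ?_)
  all_goals first
    | rfl
    | (refine congrArg _ ?_; ring1)
    | (refine congrArg _ ?_; rw [← sub_eq_zero, CharTwo.sub_eq_add]; ring_nf;
       simp [num_char_two]; done)

theorem mA1 (t u : F) (w : GL chevF4.Idx F) :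
    A1 θ t * (A1 θ u * w) = A1 θ (t + u) * (Z1 θ (ph θ u * t) * w) := by
  obtain ⟨z, rfl⟩ : ∃ z, w = X 25 (0 : F) * (X 27 (0 : F) * (X 28 (0 : F) * (X 30 (0 : F) * z))) := ⟨w, by simp [X_zero]⟩
  simp only [A1, Z1, T2, A3, Z3, T4, A5, Z5, T6, A7, Z7, T8, mul_assoc, X_mul_assoc, ph, map_mul, map_pow, map_add, th_sq θ, q25_27, q25_28, q25_30, q27_28, q27_30, q28_30]
  all_goals try simp only [map_mul, map_pow, map_add, th_sq θ]
  all_goals (repeat' refine mul_congr ?_ ?_)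
  all_goals first
    | rfl
    | (refine congrArg _ ?_; ring1)
    | (refine congrArg _ ?_; rw [← sub_eq_zero, CharTwo.sub_eq_add]; ring_nf;
       simp [num_char_two]; done)

theorem mZ1 (t u : F) (w : GL chevF4.Idx F) :
    Z1 θ t * (Z1 θ u * w) = Z1 θ (t + u) * w := by
  obtain ⟨z, rfl⟩ : ∃ z, w = X 28 (0 : F) * (X 30 (0 : F) * z) := ⟨w, by simp [X_zero]⟩
  simp only [A1, Z1, T2, A3, Z3, T4, A5, Z5, T6, A7, Z7, T8, mul_assoc, X_mul_assoc, ph, map_mul, map_pow, map_add, th_sq θ, q28_30]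
  all_goals try simp only [map_mul, map_pow, map_add, th_sq θ]
  all_goals (repeat' refine mul_congr ?_ ?_)
  all_goals first
    | rfl
    | (refine congrArg _ ?_; ring1)
    | (refine congrArg _ ?_; rw [← sub_eq_zero, CharTwo.sub_eq_add]; ring_nf;
       simp [num_char_two]; done)

theorem mT2 (t u : F) (w : GL chevF4.Idx F) :
    T2 θ t * (T2 θ u * w) = T2 θ (t + u) * w := by
  obtain ⟨z, rfl⟩ : ∃ z, w = X 32 (0 : F) * (X 37 (0 : F) * z) := ⟨w, by simp [X_zero]⟩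
  simp only [A1, Z1, T2, A3, Z3, T4, A5, Z5, T6, A7, Z7, T8, mul_assoc, X_mul_assoc, ph, map_mul, map_pow, map_add, th_sq θ, q32_37]
  all_goals try simp only [map_mul, map_pow, map_add, th_sq θ]
  all_goals (repeat' refine mul_congr ?_ ?_)
  all_goals first
    | rfl
    | (refine congrArg _ ?_; ring1)
    | (refine congrArg _ ?_; rw [← sub_eq_zero, CharTwo.sub_eq_add]; ring_nf;
       simp [num_char_two]; done)

theorem mA3 (t u : F) (w : GL chevF4.Idx F) :
    A3 θ t * (A3 θ u * w) = A3 θ (t + u) * (Z3 θ (ph θ u * t) * w) := by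
  obtain ⟨z, rfl⟩ : ∃ z, w = X 31 (0 : F) * (X 35 (0 : F) * (X 40 (0 : F) * (X 46 (0 : F) * z))) := ⟨w, by simp [X_zero]⟩
  simp only [A1, Z1, T2, A3, Z3, T4, A5, Z5, T6, A7, Z7, T8, mul_assoc, X_mul_assoc, ph, map_mul, map_pow, map_add, th_sq θ, q31_35, q31_40, q31_46, q35_40, q35_46, q40_46]
  all_goals try simp only [map_mul, map_pow, map_add, th_sq θ]
  all_goals (repeat' refine mul_congr ?_ ?_)
  all_goals first
    | rfl
    | (refine congrArg _ ?_; ring1)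
    | (refine congrArg _ ?_; rw [← sub_eq_zero, CharTwo.sub_eq_add]; ring_nf;
       simp [num_char_two]; done)

theorem mZ3 (t u : F) (w : GL chevF4.Idx F) :
    Z3 θ t * (Z3 θ u * w) = Z3 θ (t + u) * w := by
  obtain ⟨z, rfl⟩ : ∃ z, w = X 40 (0 : F) * (X 46 (0 : F) * z) := ⟨w, by simp [X_zero]⟩
  simp only [A1, Z1, T2, A3, Z3, T4, A5, Z5, T6, A7, Z7, T8, mul_assoc, X_mul_assoc, ph, map_mul, map_pow, map_add, th_sq θ, q40_46]
  all_goals try simp only [map_mul, map_pow, map_add, th_sq θ]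
  all_goals (repeat' refine mul_congr ?_ ?_)
  all_goals first
    | rfl
    | (refine congrArg _ ?_; ring1)
    | (refine congrArg _ ?_; rw [← sub_eq_zero, CharTwo.sub_eq_add]; ring_nf;
       simp [num_char_two]; done)

theorem mT4 (t u : F) (w : GL chevF4.Idx F) :
    T4 θ t * (T4 θ u * w) = T4 θ (t + u) * w := by
  obtain ⟨z, rfl⟩ : ∃ z, w = X 39 (0 : F) * (X 45 (0 : F) * z) := ⟨w, by simp [X_zero]⟩
  simp only [A1, Z1, T2, A3, Z3, T4, A5, Z5, T6, A7, Z7, T8, mul_assoc, X_mul_assoc, ph, map_mul, map_pow, map_add, th_sq θ, q39_45]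
  all_goals try simp only [map_mul, map_pow, map_add, th_sq θ]
  all_goals (repeat' refine mul_congr ?_ ?_)
  all_goals first
    | rfl
    | (refine congrArg _ ?_; ring1)
    | (refine congrArg _ ?_; rw [← sub_eq_zero, CharTwo.sub_eq_add]; ring_nf;
       simp [num_char_two]; done)

theorem mA5 (t u : F) (w : GL chevF4.Idx F) :
    A5 θ t * (A5 θ u * w) = A5 θ (t + u) * (Z5 θ (ph θ u * t) * w) := by
  obtain ⟨z, rfl⟩ : ∃ z, w = X 29 (0 : F) * (X 41 (0 : F) * (X 44 (0 : F) * (X 47 (0 : F) * z))) := ⟨w, by simp [X_zero]⟩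
  simp only [A1, Z1, T2, A3, Z3, T4, A5, Z5, T6, A7, Z7, T8, mul_assoc, X_mul_assoc, ph, map_mul, map_pow, map_add, th_sq θ, q29_41, q29_44, q29_47, q41_44, q41_47, q44_47]
  all_goals try simp only [map_mul, map_pow, map_add, th_sq θ]
  all_goals (repeat' refine mul_congr ?_ ?_)
  all_goals first
    | rfl
    | (refine congrArg _ ?_; ring1)
    | (refine congrArg _ ?_; rw [← sub_eq_zero, CharTwo.sub_eq_add]; ring_nf;
       simp [num_char_two]; done)

theorem mZ5 (t u : F) (w : GL chevF4.Idx F) :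
    Z5 θ t * (Z5 θ u * w) = Z5 θ (t + u) * w := by
  obtain ⟨z, rfl⟩ : ∃ z, w = X 44 (0 : F) * (X 47 (0 : F) * z) := ⟨w, by simp [X_zero]⟩
  simp only [A1, Z1, T2, A3, Z3, T4, A5, Z5, T6, A7, Z7, T8, mul_assoc, X_mul_assoc, ph, map_mul, map_pow, map_add, th_sq θ, q44_47]
  all_goals try simp only [map_mul, map_pow, map_add, th_sq θ]
  all_goals (repeat' refine mul_congr ?_ ?_)
  all_goals first
    | rfl
    | (refine congrArg _ ?_; ring1)
    | (refine congrArg _ ?_; rw [← sub_eq_zero, CharTwo.sub_eq_add]; ring_nf;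
       simp [num_char_two]; done)

theorem mT6 (t u : F) (w : GL chevF4.Idx F) :
    T6 θ t * (T6 θ u * w) = T6 θ (t + u) * w := by
  obtain ⟨z, rfl⟩ : ∃ z, w = X 38 (0 : F) * (X 43 (0 : F) * z) := ⟨w, by simp [X_zero]⟩
  simp only [A1, Z1, T2, A3, Z3, T4, A5, Z5, T6, A7, Z7, T8, mul_assoc, X_mul_assoc, ph, map_mul, map_pow, map_add, th_sq θ, q38_43]
  all_goals try simp only [map_mul, map_pow, map_add, th_sq θ]
  all_goals (repeat' refine mul_congr ?_ ?_)
  all_goals first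
    | rfl
    | (refine congrArg _ ?_; ring1)
    | (refine congrArg _ ?_; rw [← sub_eq_zero, CharTwo.sub_eq_add]; ring_nf;
       simp [num_char_two]; done)

theorem mA7 (t u : F) (w : GL chevF4.Idx F) :
    A7 θ t * (A7 θ u * w) = A7 θ (t + u) * (Z7 θ (ph θ u * t) * w) := by
  obtain ⟨z, rfl⟩ : ∃ z, w = X 26 (0 : F) * (X 34 (0 : F) * (X 36 (0 : F) * (X 42 (0 : F) * z))) := ⟨w, by simp [X_zero]⟩
  simp only [A1, Z1, T2, A3, Z3, T4, A5, Z5, T6, A7, Z7, T8, mul_assoc, X_mul_assoc, ph, map_mul, map_pow, map_add, th_sq θ, q26_34, q26_36, q26_42, q34_36, q34_42, q36_42]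
  all_goals try simp only [map_mul, map_pow, map_add, th_sq θ]
  all_goals (repeat' refine mul_congr ?_ ?_)
  all_goals first
    | rfl
    | (refine congrArg _ ?_; ring1)
    | (refine congrArg _ ?_; rw [← sub_eq_zero, CharTwo.sub_eq_add]; ring_nf;
       simp [num_char_two]; done)

theorem mZ7 (t u : F) (w : GL chevF4.Idx F) :
    Z7 θ t * (Z7 θ u * w) = Z7 θ (t + u) * w := by
  obtain ⟨z, rfl⟩ : ∃ z, w = X 36 (0 : F) * (X 42 (0 : F) * z) := ⟨w, by simp [X_zero]⟩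
  simp only [A1, Z1, T2, A3, Z3, T4, A5, Z5, T6, A7, Z7, T8, mul_assoc, X_mul_assoc, ph, map_mul, map_pow, map_add, th_sq θ, q36_42]
  all_goals try simp only [map_mul, map_pow, map_add, th_sq θ]
  all_goals (repeat' refine mul_congr ?_ ?_)
  all_goals first
    | rfl
    | (refine congrArg _ ?_; ring1)
    | (refine congrArg _ ?_; rw [← sub_eq_zero, CharTwo.sub_eq_add]; ring_nf;
       simp [num_char_two]; done)

theorem mT8 (t u : F) (w : GL chevF4.Idx F) :
    T8 θ t * (T8 θ u * w) = T8 θ (t + u) * w := by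
  obtain ⟨z, rfl⟩ : ∃ z, w = X 24 (0 : F) * (X 33 (0 : F) * z) := ⟨w, by simp [X_zero]⟩
  simp only [A1, Z1, T2, A3, Z3, T4, A5, Z5, T6, A7, Z7, T8, mul_assoc, X_mul_assoc, ph, map_mul, map_pow, map_add, th_sq θ, q24_33]
  all_goals try simp only [map_mul, map_pow, map_add, th_sq θ]
  all_goals (repeat' refine mul_congr ?_ ?_)
  all_goals first
    | rfl
    | (refine congrArg _ ?_; ring1)
    | (refine congrArg _ ?_; rw [← sub_eq_zero, CharTwo.sub_eq_add]; ring_nf;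
       simp [num_char_two]; done)

theorem A1_zero : A1 θ 0 = 1 := by simp [A1, X_zero]

theorem Z1_zero : Z1 θ 0 = 1 := by simp [Z1, X_zero]

theorem T2_zero : T2 θ 0 = 1 := by simp [T2, X_zero]

theorem A3_zero : A3 θ 0 = 1 := by simp [A3, X_zero]

theorem Z3_zero : Z3 θ 0 = 1 := by simp [Z3, X_zero]

theorem T4_zero : T4 θ 0 = 1 := by simp [T4, X_zero]

theorem A5_zero : A5 θ 0 = 1 := by simp [A5, X_zero]

theorem Z5_zero : Z5 θ 0 = 1 := by simp [Z5, X_zero]

theorem T6_zero : T6 θ 0 = 1 := by simp [T6, X_zero]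

theorem A7_zero : A7 θ 0 = 1 := by simp [A7, X_zero]

theorem Z7_zero : Z7 θ 0 = 1 := by simp [Z7, X_zero]

theorem T8_zero : T8 θ 0 = 1 := by simp [T8, X_zero]

end CfsgLib.Twisted.F4Uni
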