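import Cfsg.Agent.Lib.TwistedStr.Card
import Cfsg.Agent.Lib.Classif.RankThree.RootWords

/-!
Fusion in the fixed part of `U` when the torus part is trivial, filtrations given by chains of
levels, and bounds from polycyclic sequences.
-/

set_option autoImplicit false

namespace CfsgLib.Twisted

open Cfsg.Lie CfsgLib.ChevStr
open scoped MatrixGroups

variable {D : ChevalleyDatum} {F : Type*} [Field F]

/-- An element of `U` that a monomial element keeps in `U` avoids the inversion set. -/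
theorem mem_Ucl_of_conj [Fintype F] (C : ChevCore D F) {n : GL D.Idx F}
    {w : Equiv.Perm (Fin D.nroots)} (hmv : C.Moves n w) {u : GL D.Idx F}
    (hu : u ∈ D.posUnipotent F) (h : n * u * n⁻¹ ∈ D.posUnipotent F) :
    u ∈ C.Ucl ({r | D.IsPosRoot r} \ C.hR.invRoots w) := by
  classical
  set S := {r | D.IsPosRoot r} \ C.hR.invRoots w with hS
  have hpos : ∀ s : Fin D.nroots, (s : ℕ) ∈ S → D.IsPosRoot (w s) := fun s hs =>
    (C.R.pos_or_neg (w s).isLt).resolve_right fun hn => hs.2 (C.hR.mem_invRoots.2 ⟨hs.1, hn⟩)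
  have hcl : C.R.IsClosed S := by
    refine ⟨fun r hr => hr.1, fun r hr s hs k hk => ⟨C.R.combo_pos hr.1 hs.1 hk, fun hkI => ?_⟩⟩
    obtain ⟨hkn, a, b, -, -, hab⟩ := hk
    refine C.R.not_pos_and_neg ?_ (C.hR.mem_invRoots (s := ⟨k, hkn⟩).1 hkI).2
    refine (C.R.isPos_iff _).2 ⟨(w ⟨k, hkn⟩).isLt, ?_⟩
    rw [C.hR.combo_weyl hmv.1 (k := ⟨k, hkn⟩) (r := ⟨r, hr.1.1⟩) (s := ⟨s, hs.1.1⟩) hab]
    exact add_nonneg (smul_nonneg (by positivity) ((C.R.isPos_iff _).1 (hpos ⟨r, hr.1.1⟩ hr)).2)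
      (smul_nonneg (by positivity) ((C.R.isPos_iff _).1 (hpos ⟨s, hs.1.1⟩ hs)).2)
  have hsub : C.hR.invRoots w ⊆ {r | D.IsPosRoot r} := fun r ⟨_, hr⟩ => (C.hR.mem_invSet.1 hr).1
  have hfin : {r | D.IsPosRoot r}.Finite := (Set.finite_lt_nat D.nroots).subset fun r hr => hr.1
  have hI := C.hR.invRoots_closed hmv.1
  let f : ↥(C.Ucl S) × ↥(C.Ucl (C.hR.invRoots w)) → ↥(C.Ucl {r | D.IsPosRoot r}) := fun p =>
    ⟨p.1 * p.2, mul_mem (C.Ucl_mono Set.sdiff_subset p.1.2) (C.Ucl_mono hsub p.2.2)⟩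
  have hinj : Function.Injective f := by
    rintro ⟨a, b⟩ ⟨a', b'⟩ e
    have e' : (a : GL D.Idx F) * b = a' * b' := congrArg Subtype.val e
    have h1 : (a' : GL D.Idx F)⁻¹ * a = b' * (b : GL D.Idx F)⁻¹ := by
      rw [eq_mul_inv_iff_mul_eq, mul_assoc, e', inv_mul_cancel_left]
    have h2 := C.Ucl_inf hcl hI (mul_mem (inv_mem a'.2) a.2) (h1 ▸ mul_mem b'.2 (inv_mem b.2))
    rw [Set.sdiff_inter_self] at h2
    have h3 : (a' : GL D.Idx F)⁻¹ * a = 1 := Subgroup.mem_bot.1
      (C.Ucl_le (H := ⊥) (fun r hr => absurd hr (Set.notMem_empty r)) h2)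
    obtain rfl : a' = a := Subtype.ext (inv_mul_eq_one.1 h3)
    exact Prod.ext rfl (Subtype.ext (mul_left_cancel e'))
  have hcard : Nat.card (↥(C.Ucl S) × ↥(C.Ucl (C.hR.invRoots w))) =
      Nat.card ↥(C.Ucl {r | D.IsPosRoot r}) := by
    rw [Nat.card_prod, C.card_Ucl hcl, C.card_Ucl hI, C.card_Ucl C.R.isClosed_pos, ← pow_add,
      Set.ncard_sdiff_add_ncard_of_subset hsub hfin]
  obtain ⟨⟨a, b⟩, e⟩ := (hinj.bijective_of_nat_card_le hcard.ge).2 ⟨u, C.posUnipotent_eq ▸ hu⟩
  have e' : (a : GL D.Idx F) * b = u := congrArg Subtype.val e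
  have ha : n * (a : GL D.Idx F) * n⁻¹ ∈ D.posUnipotent F :=
    C.conj_Ucl_le hmv (fun s hs t => C.xGL_mem_posUnipotent (hpos s hs) t) a a.2
  have hb : n * (b : GL D.Idx F) * n⁻¹ = 1 := by
    refine (Subgroup.eq_bot_iff_forall _).1 C.borel_inf_negUnipotent _ (Subgroup.mem_inf.2
      ⟨le_sup_left (b := D.diagonalSubgroup F) ?_, C.conj_invRoots_mem_neg hmv b b.2⟩)
    rw [show n * (b : GL D.Idx F) * n⁻¹ = (n * (a : GL D.Idx F) * n⁻¹)⁻¹ * (n * u * n⁻¹) by
      rw [← e']; group]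
    exact mul_mem (inv_mem ha) h
  rw [conj_eq_one_iff] at hb
  rw [← e', hb, mul_one]
  exact a.2

namespace Gens

variable {C : ChevCore D F} {φ : Frob C} {I : Type}
  {O : OrbitData C.R φ.ρ I} {G1 : Subgroup (GL D.Idx F)} {d : ℕ} (g : Gens φ O G1 d) [Fintype F]

include g

/-- With trivial torus part, a function invariant under the representatives of the orbits on their
complements is invariant under the monomial elements. -/
theorem fusion {α : Type*} (hH : D.diagonalSubgroup F ⊓ G1 = ⊥) (f : GL D.Idx F → α)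
    (hs : ∀ i, ∀ u ∈ φ.fixU (outRoots C.R (O.J i)), f (g.s i * u * (g.s i)⁻¹) = f u) :
    ∀ n ∈ D.monomialSubgroup F, n ∈ G1 → ∀ u ∈ D.posUnipotent F, u ∈ G1 →
      n * u * n⁻¹ ∈ D.posUnipotent F → f (n * u * n⁻¹) = f u := by
  intro n hn hn1
  obtain ⟨w, hw, -⟩ := C.exists_moves hn
  induction hk : (C.hR.invSet w).card using Nat.strong_induction_on generalizing n w with
  | _ k ih =>
    intro u hu hu1 hc
    by_cases h0 : C.hR.invSet w = ∅
    · have : n = 1 := (Subgroup.eq_bot_iff_forall _).1 hH n (Subgroup.mem_inf.2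
        ⟨C.mem_diagonal_of_moves_one hn (C.hR.eq_one_of_invSet_eq_empty hw.1 h0 ▸ hw), hn1⟩)
      rw [this, one_mul, inv_one, mul_one]
    have hcw : Commute φ.ρ w := φ.commute_of_fixed hn hw (g.le_fixed hn1).2
    obtain ⟨i, hneg⟩ := Gens.exists_orbit_neg (O := O) hw.1 hcw h0
    obtain ⟨hcard, hpos⟩ := g.all_neg_descent hw.1 i hneg
    have hout : u ∈ C.Ucl (outRoots C.R (O.J i)) := by
      refine C.Ucl_mono ?_ (mem_Ucl_of_conj C hw hu hc)
      rintro r ⟨hr, hrI⟩
      exact ⟨hr, fun hsupp => hrI (C.hR.mem_invRoots (s := ⟨r, hr.1⟩).2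
        ⟨hr, neg_of_supp C.hR hw.1 hneg (s := ⟨r, hr.1⟩) ⟨hr, hsupp⟩⟩)⟩
    have hss : g.s i * g.s i = 1 := (Subgroup.eq_bot_iff_forall _).1 hH _
      (Subgroup.mem_inf.2 ⟨g.sq_mem i, mul_mem (g.s_mem i) (g.s_mem i)⟩)
    have hu' : g.s i * u * (g.s i)⁻¹ ∈ C.Ucl (outRoots C.R (O.J i)) :=
      conj_out (g.s_moves i) (g.wJ_mem i) u hout
    have e : n * g.s i * (g.s i * u * (g.s i)⁻¹) * (n * g.s i)⁻¹ = n * u * n⁻¹ := by
      rw [show n * g.s i * (g.s i * u * (g.s i)⁻¹) * (n * g.s i)⁻¹ =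
        n * (g.s i * g.s i) * u * (n * (g.s i * g.s i))⁻¹ by group, hss, mul_one]
    have h1 := ih _ (by omega) (n * g.s i) (mul_mem hn (g.s_mem_N i)) (mul_mem hn1 (g.s_mem i))
      (w * g.wJ i) (ChevCore.Moves.mul C hw (g.s_moves i)) rfl (g.s i * u * (g.s i)⁻¹)
      (Ucl_out_le C _ hu') (mul_mem (mul_mem (g.s_mem i) hu1) (inv_mem (g.s_mem i))) (e.symm ▸ hc)
    rw [e, hs i u (Subgroup.mem_inf.2 ⟨hout, g.le_fixed hu1⟩)] at h1
    exact h1

end Gens

end CfsgLib.Twisted

namespace CfsgLib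

/-- A sequence in which every term squares into and normalizes the group of the later ones. -/
def IsHalving {G : Type*} [Group G] : List G → Prop
  | [] => True
  | a :: l => a * a ∈ Subgroup.closure {x | x ∈ l} ∧
      (∀ b ∈ l, a * b * a⁻¹ ∈ Subgroup.closure {x | x ∈ l}) ∧ IsHalving l

/-- Adjoining the first term at most doubles the order. -/
theorem IsHalving.card_cons_le {G : Type*} [Group G] [Finite G] {a : G} {l : List G}
    (h : IsHalving (a :: l)) : Nat.card ↥(Subgroup.closure {x | x ∈ a :: l}) ≤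
      2 * Nat.card ↥(Subgroup.closure {x | x ∈ l}) := by
  obtain ⟨hsq, hconj, -⟩ := h
  set A := Subgroup.closure {x : G | x ∈ l} with hA
  have hn : ∀ x ∈ A, a * x * a⁻¹ ∈ A := fun x hx => by
    have : A ≤ A.comap (MulAut.conj a).toMonoidHom := (Subgroup.closure_le _).2 fun b hb => hconj b hb
    exact this hx
  have hn' : ∀ x ∈ A, a⁻¹ * x * a ∈ A := fun x hx => by
    have := mul_mem (mul_mem (inv_mem hsq) (hn x hx)) hsq
    convert this using 1; group
  let B : Subgroup G :=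
    { carrier := {x | x ∈ A ∨ a * x ∈ A}
      one_mem' := Or.inl A.one_mem
      mul_mem' := by
        rintro x y (hx | hx) (hy | hy)
        · exact Or.inl (A.mul_mem hx hy)
        · refine Or.inr ?_
          have := A.mul_mem (hn x hx) hy
          convert this using 1; group
        · refine Or.inr ?_
          rw [← mul_assoc]; exact A.mul_mem hx hy
        · refine Or.inl ?_
          have := A.mul_mem (A.mul_mem (hn' _ hx) (A.inv_mem hsq)) hy
          convert this using 1; group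
      inv_mem' := by
        rintro x (hx | hx)
        · exact Or.inl (A.inv_mem hx)
        · refine Or.inr ?_
          have := A.mul_mem (hn _ (A.inv_mem hx)) hsq
          convert this using 1; group }
  have hle : Subgroup.closure {x | x ∈ a :: l} ≤ B := by
    refine (Subgroup.closure_le _).2 fun x hx => ?_
    rcases List.mem_cons.1 hx with rfl | hx
    · exact Or.inr hsq
    · exact Or.inl (Subgroup.subset_closure hx)
  have hB : (B : Set G) ⊆ (A : Set G) ∪ (fun y => a⁻¹ * y) '' (A : Set G) := by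
    rintro x (hx | hx)
    · exact Or.inl hx
    · exact Or.inr ⟨a * x, hx, inv_mul_cancel_left a x⟩
  calc Nat.card ↥(Subgroup.closure {x | x ∈ a :: l}) ≤ Nat.card B := Subgroup.card_le_of_le hle
    _ = (B : Set G).ncard := Nat.card_coe_set_eq _
    _ ≤ ((A : Set G) ∪ (fun y => a⁻¹ * y) '' (A : Set G)).ncard :=
        Set.ncard_le_ncard hB (Set.toFinite _)
    _ ≤ (A : Set G).ncard + ((fun y => a⁻¹ * y) '' (A : Set G)).ncard := Set.ncard_union_le _ _
    _ ≤ (A : Set G).ncard + (A : Set G).ncard :=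
        Nat.add_le_add_left (Set.ncard_image_le (Set.toFinite _)) _
    _ ≤ 2 * Nat.card A := by
        rw [← Nat.card_coe_set_eq]
        show Nat.card A + Nat.card A ≤ _
        omega

/-- Every product from a halving sequence is one of at most `2 ^ length` elements. -/
theorem IsHalving.card_le {G : Type*} [Group G] [Finite G] :
    ∀ {l : List G}, IsHalving l → Nat.card ↥(Subgroup.closure {x | x ∈ l}) ≤ 2 ^ l.length
  | [], _ => by simp
  | a :: l, h => by
    rw [List.length_cons, pow_succ']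
    exact h.card_cons_le.trans (Nat.mul_le_mul_left 2 (IsHalving.card_le h.2.2))


end CfsgLib
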