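import Cfsg.Agent.Lib.TwistedStr.TitsData
import Cfsg.Agent.Lib.TwistedStr.Fusion

/-!
²F₄(2): the subgroup of index two, found by the transfer from the fixed part of `U`, and its
perfectness.
-/

set_option autoImplicit false

namespace CfsgLib.Twisted

open Cfsg.Lie CfsgLib.ChevStr CfsgLib.RankThree
open scoped MatrixGroups commutatorElement

/-- The group ²F₄(2). -/
noncomputable abbrev G2F4 : Subgroup (GL chevF4.Idx (ZMod 2)) := twistedF4 (ZMod 2) 1

/-- Its root system data. -/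
noncomputable abbrev C2 : ChevCore chevF4 (ZMod 2) := coreF4 (ZMod 2)

theorem hn2 : Fintype.card (ZMod 2) = 2 * (2 ^ 0 * 2 ^ 0) := by simp

theorem gens2 : Gens (frobF4 (ZMod 2) 0) orbF4 G2F4 2 := gensF4 (ZMod 2) hn2

theorem zmod2_cases : ∀ u : ZMod 2, u = 0 ∨ u = 1 := by decide

theorem torus2_eq_bot : chevF4.diagonalSubgroup (ZMod 2) ⊓ G2F4 = ⊥ := by
  refine Subgroup.eq_bot_of_card_eq _ ?_
  have h := card_H1F4 (ZMod 2) hn2
  rw [ZMod.card] at h
  exact h

theorem card_2F4 : Nat.card ↥G2F4 = 35942400 := by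
  have h := card_twistedF4 (ZMod 2) hn2
  rw [ZMod.card] at h
  exact h

/-- The fixed part of `U`. -/
noncomputable def U2 : Subgroup (GL chevF4.Idx (ZMod 2)) := chevF4.posUnipotent (ZMod 2) ⊓ G2F4

theorem card_U2 : Nat.card ↥U2 = 4096 := by
  have hN : Set.ncard {r | chevF4.IsPosRoot r} = 24 := ncard_isPosRoot (by decide +kernel)
  refine Nat.pow_left_injective (show 2 ≠ 0 by norm_num) ?_
  show _ ^ 2 = _ ^ 2
  have h := gens2.card_U1
  rw [hN, Nat.card_zmod] at h
  rw [U2, h]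
  norm_num

/-- The element of the generator number `k`. -/
noncomputable def gElt (k : ℕ) : GL chevF4.Idx (ZMod 2) := W C2 (gWord k)

theorem W_fixed {w : List ℕ} (h : fixedOK chevF4 subF4.root w = true) : W C2 w ∈ U2 := by
  obtain ⟨-, u, -⟩ := upper_facts
  refine Subgroup.mem_inf.2 ⟨?_, W_mem (frobF4 (ZMod 2) 0) (root := subF4.root) (fun _ => rfl) u
    gens2.fixU_pos.1 h⟩
  simp only [fixedOK, Bool.and_eq_true, List.all_eq_true] at h
  rw [C2.posUnipotent_eq]
  exact C2.Ucl_mono (fun r hr => upper_pos u r (h.2 r hr)) (C2.word_mem w _)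

theorem gElt_mem {k : ℕ} (hk : k < 12) : gElt k ∈ U2 := by
  refine W_fixed (List.all_eq_true.1 titsGen_fixed _ ?_)
  rw [gWord, List.getD_eq_getElem _ _ (titsGen_len.1.symm ▸ hk)]
  exact List.getElem_mem _

theorem sameWord_W {n : ℕ} {v w : List ℕ} (h : sameWord n v w = true) : W C2 v = W C2 w :=
  W_eq_of_collect C2 n (beq_iff_eq.1 h)

theorem W_expand_mem {T : List (List ℕ)} {H : Subgroup (GL chevF4.Idx (ZMod 2))} :
    ∀ {e : List ℕ}, (∀ j ∈ e, W C2 (T.getD j []) ∈ H) → W C2 (expand T e) ∈ H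
  | [], _ => by rw [expand, List.flatMap_nil, W_nil]; exact one_mem _
  | a :: e, h => by
    rw [expand, List.flatMap_cons, W_append]
    exact mul_mem (h a List.mem_cons_self) (W_expand_mem fun j hj => h j (List.mem_cons_of_mem _ hj))

/-- The generators from number `k` on. -/
noncomputable def tailGroup (k : ℕ) : Subgroup (GL chevF4.Idx (ZMod 2)) :=
  Subgroup.closure {x | x ∈ (List.range' k (12 - k)).map gElt}

theorem gElt_mem_tail {k j : ℕ} (hkj : k ≤ j) (hj : j < 12) : gElt j ∈ tailGroup k :=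
  Subgroup.subset_closure (List.mem_map_of_mem (List.mem_range'_1.2 ⟨hkj, by omega⟩))

theorem tail_le {k : ℕ} (hk : k ≤ 12) {H : Subgroup (GL chevF4.Idx (ZMod 2))}
    (h : ∀ j, k ≤ j → j < 12 → gElt j ∈ H) : tailGroup k ≤ H := by
  refine (Subgroup.closure_le _).2 fun x hx => ?_
  obtain ⟨j, hj, rfl⟩ := List.mem_map.1 hx
  obtain ⟨h1, h2⟩ := List.mem_range'_1.1 hj
  exact h j h1 (by omega)

theorem gElt_sq {k : ℕ} (hk : k < 12) : gElt k * gElt k ∈ tailGroup (k + 1) := by
  obtain ⟨h1, h2⟩ := titsPC_sq ⟨k, hk⟩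
  rw [gElt, ← W_append, sameWord_W h2]
  exact W_expand_mem fun j hj => gElt_mem_tail (Nat.succ_le_of_lt (h1 j hj).1) (h1 j hj).2

theorem gElt_conj {k l : ℕ} (hk : k < 12) (hkl : k < l) (hl : l < 12) :
    gElt k * gElt l * (gElt k)⁻¹ ∈ tailGroup (k + 1) := by
  obtain ⟨h1, h2⟩ := titsPC_conj ⟨k, hk⟩ ⟨l, hl⟩ hkl
  rw [gElt, gElt, ← W_reverse C2, ← W_append, ← W_append, sameWord_W h2]
  exact W_expand_mem fun j hj => gElt_mem_tail (Nat.succ_le_of_lt (h1 j hj).1) (h1 j hj).2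

theorem tail_halving : ∀ m ≤ 12, CfsgLib.IsHalving ((List.range' (12 - m) m).map gElt)
  | 0, _ => trivial
  | m + 1, hm => by
    have e : (12 - (m + 1)) + 1 = 12 - m := by omega
    have e' : 12 - (12 - m) = m := by omega
    have hsub : tailGroup (12 - m) =
        Subgroup.closure {x | x ∈ (List.range' (12 - m) m).map gElt} := by rw [tailGroup, e']
    rw [List.range'_succ, List.map_cons, e]
    refine ⟨?_, fun b hb => ?_, tail_halving m (by omega)⟩
    · rw [← hsub, ← e]; exact gElt_sq (by omega)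
    · obtain ⟨l, hl, rfl⟩ := List.mem_map.1 hb
      obtain ⟨h1, h2⟩ := List.mem_range'_1.1 hl
      rw [← hsub, ← e]
      exact gElt_conj (by omega) (by omega) (by omega)

/-- The subgroup of index two in the fixed part of `U`. -/
noncomputable def S2 : Subgroup (GL chevF4.Idx (ZMod 2)) := tailGroup 1

/-- The generator outside. -/
noncomputable def t2 : GL chevF4.Idx (ZMod 2) := gElt 0

theorem S2_le : S2 ≤ U2 := tail_le (by norm_num) fun j _ hj => gElt_mem hj

theorem U2_le_fixed : U2 ≤ (frobF4 (ZMod 2) 0).fixedSub := inf_le_right.trans gens2.le_fixed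

/-- The fixed elements of a checked chain lie in a group containing its lifts. -/
theorem fixU_le_of_chain {H : Subgroup (GL chevF4.Idx (ZMod 2))}
    (hH : H ≤ (frobF4 (ZMod 2) 0).fixedSub) :
    ∀ ch : List (List ℕ × ℕ × List ℕ), chainCheck chevF4 rootDataF4.α subF4.root ch = true →
      C2.R.IsClosed (listSet (chainHead ch)) → (∀ c ∈ ch, W C2 c.2.2 ∈ H) →
      (frobF4 (ZMod 2) 0).fixU (listSet (chainHead ch)) ≤ H
  | [], _, _, _ => by
    rw [chainHead, listSet_nil, Frob.fixU_empty]; exact bot_le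
  | (L, r, w) :: rest, h, hcl, hmem => by
    simp only [chainCheck, Bool.and_eq_true, List.all_eq_true, beq_iff_eq,
      List.contains_iff_mem] at h
    obtain ⟨⟨⟨hlev, hw⟩, hcount⟩, hrest⟩ := h
    obtain ⟨-, hr, -, hL, -⟩ := Frob.of_levelCheck (C := C2) hlev
    have hrn : r < chevF4.nroots := (hL r hr).1
    obtain ⟨hl, hcl'⟩ := Frob.level_of_check (C := C2) hlev hcl
    refine ((frobF4 (ZMod 2) 0).level_list (root := subF4.root) (fun _ => rfl) (r := ⟨r, hrn⟩)
      hlev hcl Set.univ (fun _ _ => Set.mem_univ _) H hH (fun t _ => ?_)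
      (fixU_le_of_chain hH rest hrest hcl' fun c hc => hmem c (List.mem_cons_of_mem _ hc))).1
    rcases zmod2_cases t with rfl | rfl
    · exact ⟨1, one_mem _, one_mem _, C2.coord_of_mem hl hr
        (Frob.of_levelCheck (C := C2) hlev).2.2.1 (one_mem _)⟩
    · have hWL : W C2 w ∈ C2.Ucl (listSet L) :=
        C2.Ucl_mono (fun k hk => hw k hk) (C2.word_mem w _)
      refine ⟨W C2 w, hWL, hmem _ List.mem_cons_self, ?_⟩
      have e := C2.coord_wordGL hl hr (Frob.of_levelCheck (C := C2) hlev).2.2.1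
        (w.map fun k => (k, (1 : ZMod 2))) (fun p hp => by
          obtain ⟨k, hk, rfl⟩ := List.mem_map.1 hp
          exact hw k hk)
      have hsum : ∀ v : List ℕ, (((v.map fun k => (k, (1 : ZMod 2))).filter
          fun p => decide (p.1 = r)).map Prod.snd).sum = (v.count r : ZMod 2) := by
        intro v
        induction v with
        | nil => simp
        | cons a v ih =>
          by_cases ha : a = r
          · simp [ha, ih, add_comm]
          · simp [ha, ih, List.count_cons_of_ne ha]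
      rw [hsum, hcount, Nat.cast_one] at e
      exact e

theorem W_lift_mem {k : ℕ} (hk : k < 12) :
    W C2 (titsChain.getD k ([], 0, [])).2.2 ∈ tailGroup 0 := by
  obtain ⟨h1, h2⟩ := titsLift_ok ⟨k, hk⟩
  rw [sameWord_W h2]
  exact W_expand_mem fun j hj => gElt_mem_tail (Nat.zero_le _) (h1 j hj)

theorem chain_lift_mem {c : List ℕ × ℕ × List ℕ} (hc : c ∈ titsChain) :
    W C2 c.2.2 ∈ tailGroup 0 := by
  obtain ⟨k, hk, rfl⟩ := List.mem_iff_getElem.1 hc
  rw [← List.getD_eq_getElem titsChain ([], 0, []) hk]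
  exact W_lift_mem (lt_of_lt_of_eq hk (by decide +kernel))

theorem tail_zero_eq : tailGroup 0 = U2 := by
  refine le_antisymm (tail_le (by norm_num) fun j _ hj => gElt_mem hj) ?_
  have hset : listSet (chainHead titsChain) = {r | chevF4.IsPosRoot r} := by
    ext r
    exact ⟨fun h => ((titsChain_sets ⟨r, titsChain_bound.1 r h⟩).1).1 h,
      fun h => ((titsChain_sets ⟨r, h.1⟩).1).2 h⟩
  have h := fixU_le_of_chain
    ((tail_le (by norm_num) fun j _ hj => gElt_mem hj : tailGroup 0 ≤ U2).trans U2_le_fixed)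
    titsChain titsChain_ok.1 (hset ▸ C2.R.isClosed_pos) fun c hc => chain_lift_mem hc
  rw [hset] at h
  refine le_trans ?_ h
  rw [U2, Frob.fixU, ← C2.posUnipotent_eq]
  exact inf_le_inf_left _ gens2.le_fixed

theorem U2_le_of_gens {H : Subgroup (GL chevF4.Idx (ZMod 2))}
    (h : ∀ j, j < 12 → gElt j ∈ H) : U2 ≤ H :=
  tail_zero_eq ▸ tail_le (by norm_num) fun j _ hj => h j hj

theorem card_S2 : Nat.card ↥S2 = 2048 ∧ t2 ∉ S2 := by
  have h1 : Nat.card ↥S2 ≤ 2048 := by
    have := (tail_halving 11 (by norm_num)).card_le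
    simpa [S2, tailGroup] using this
  have h2 : Nat.card ↥U2 ≤ 2 * Nat.card ↥S2 := by
    rw [← tail_zero_eq]
    have h := tail_halving 12 le_rfl
    rw [show (List.range' (12 - 12) 12).map gElt = gElt 0 :: (List.range' 1 11).map gElt by
      rw [show (12 : ℕ) = 11 + 1 from rfl, Nat.sub_self, List.range'_succ, List.map_cons]] at h
    have e := h.card_cons_le
    rwa [← show (List.range' 0 12).map gElt = gElt 0 :: (List.range' 1 11).map gElt by
      rw [show (12 : ℕ) = 11 + 1 from rfl, List.range'_succ, List.map_cons]] at e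
  rw [card_U2] at h2
  refine ⟨by omega, fun ht => ?_⟩
  have h3 : U2 ≤ S2 := U2_le_of_gens fun j hj => by
    rcases Nat.eq_zero_or_pos j with rfl | h
    · exact ht
    · exact gElt_mem_tail h hj
  have h4 := Subgroup.card_le_of_le h3
  rw [card_U2] at h4
  omega

theorem mul_mem_S2_iff {a b : GL chevF4.Idx (ZMod 2)} (ha : a ∈ U2) (hb : b ∈ U2) :
    a * b ∈ S2 ↔ (a ∈ S2 ↔ b ∈ S2) := by
  have hidx : (S2.subgroupOf U2).index = 2 := by
    have h := (S2.subgroupOf U2).card_mul_index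
    rw [Nat.card_congr (Subgroup.subgroupOfEquivOfLe S2_le).toEquiv, card_S2.1, card_U2] at h
    omega
  have := Subgroup.mul_mem_iff_of_index_two hidx (a := (⟨a, ha⟩ : U2)) (b := ⟨b, hb⟩)
  simpa [Subgroup.mem_subgroupOf] using this

theorem s2_sq (i : Fin 2) : gens2.s i * gens2.s i = 1 :=
  (Subgroup.eq_bot_iff_forall _).1 torus2_eq_bot _
    (Subgroup.mem_inf.2 ⟨gens2.sq_mem i, mul_mem (gens2.s_mem i) (gens2.s_mem i)⟩)

theorem s2_moves (i : Fin 2) :
    C2.Moves (gens2.s i) (reflDataF4.wordPerm (f4TwistWord i)) := by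
  have e : gens2.wJ i = reflDataF4.wordPerm (f4TwistWord i) := gens2.wJ_eq i
    ((reflDataF4.weylSub _).list_prod_mem fun x hx => by
      obtain ⟨j, hj, rfl⟩ := List.mem_map.1 hx
      exact reflDataF4.sPerm_mem_sub (f4_word_mem i j hj)) (f4_word_neg i)
  exact e ▸ gens2.s_moves i

theorem s2_conj_W (i : Fin 2) : ∀ w : List ℕ, (∀ r ∈ w, r < chevF4.nroots) →
    gens2.s i * W C2 w * (gens2.s i)⁻¹ = W C2 (turn i w)
  | [], _ => by rw [turn, List.map_nil, W_nil, mul_one, mul_inv_cancel]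
  | a :: w, h => by
    have ha := h a List.mem_cons_self
    obtain ⟨u, hu⟩ := (s2_moves i).2 ⟨a, ha⟩ 1
    have hu0 : u ≠ 0 := fun h0 => by
      rw [h0, C2.xGL_zero, conj_eq_one_iff] at hu
      exact one_ne_zero ((C2.xGL_eq_one_iff ha).1 hu)
    obtain rfl : u = 1 := (zmod2_cases u).resolve_left hu0
    rw [titsMap_eq] at hu
    show _ = W C2 ((titsMap i).getD a 0 :: turn i w)
    rw [W_cons, W_cons, ← s2_conj_W i w fun r hr => h r (List.mem_cons_of_mem _ hr), ← hu]
    group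

theorem titsOut_bound : ∀ i, (titsOut i).length ≤ 11 ∧
    ∀ c ∈ titsOut i, ∀ r ∈ c.2.2, r < chevF4.nroots := by decide +kernel

/-- The representatives preserve membership on the complements. -/
theorem s2_invariant (i : Fin 2) :
    ∀ z ∈ (frobF4 (ZMod 2) 0).fixU (outRoots C2.R (nodesF4 i)),
      (gens2.s i * z * (gens2.s i)⁻¹ ∈ S2) = (z ∈ S2) := by
  intro z hz
  have hset : listSet (chainHead (titsOut i)) = outRoots C2.R (nodesF4 i) := by
    ext r
    exact ⟨fun h => ((titsChain_sets ⟨r, titsChain_bound.2 i r h⟩).2 i).1 h,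
      fun h => ((titsChain_sets ⟨r, h.1.1⟩).2 i).2 h⟩
  set H := Subgroup.closure {x | ∃ c ∈ titsOut i, x = W C2 c.2.2}
  have hU : ∀ c ∈ titsOut i, W C2 c.2.2 ∈ U2 := fun c hc => by
    obtain ⟨d, hd, e⟩ := titsOut_sub i c hc
    rw [e, ← tail_zero_eq]; exact chain_lift_mem hd
  have hz' : z ∈ H := by
    refine fixU_le_of_chain (H := H) ?_ (titsOut i) (titsChain_ok.2 i)
      (hset ▸ outRoots_closed C2 _) (fun c hc => Subgroup.subset_closure ⟨c, hc, rfl⟩) (hset ▸ hz)
    refine (Subgroup.closure_le _).2 ?_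
    rintro x ⟨c, hc, rfl⟩
    exact U2_le_fixed (hU c hc)
  suffices z ∈ U2 ∧ gens2.s i * z * (gens2.s i)⁻¹ ∈ U2 ∧
      (gens2.s i * z * (gens2.s i)⁻¹ ∈ S2 ↔ z ∈ S2) from propext this.2.2
  clear hz
  induction hz' using Subgroup.closure_induction with
  | mem x hx =>
    obtain ⟨c, hc, rfl⟩ := hx
    obtain ⟨k, hk, rfl⟩ := List.mem_iff_getElem.1 hc
    have hk11 : k < 11 := lt_of_lt_of_le hk (titsOut_bound i).1
    obtain ⟨h1, h2⟩ := titsFus_ok i ⟨k, hk11⟩ hk
    simp only [List.getD_eq_getElem (titsOut i) ([], 0, []) hk] at h2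
    have hb : ∀ r ∈ ((titsOut i)[k]).2.2, r < chevF4.nroots := (titsOut_bound i).2 _ hc
    have e := sameWord_W h2
    rw [W_append, ← s2_conj_W i _ hb] at e
    have hw : W C2 (expand titsGen ((titsFus i).getD k [])) ∈ S2 :=
      W_expand_mem fun j hj => gElt_mem_tail (h1 j hj).1 (h1 j hj).2
    refine ⟨hU _ hc, by rw [e]; exact mul_mem (S2_le hw) (hU _ hc), ?_⟩
    rw [e, mul_mem_S2_iff (S2_le hw) (hU _ hc), iff_true_left hw]
  | one =>
    rw [mul_one, mul_inv_cancel]
    exact ⟨one_mem _, one_mem _, Iff.rfl⟩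
  | mul x y _ _ hx hy =>
    obtain ⟨x1, x2, x3⟩ := hx
    obtain ⟨y1, y2, y3⟩ := hy
    have e : gens2.s i * (x * y) * (gens2.s i)⁻¹ =
        (gens2.s i * x * (gens2.s i)⁻¹) * (gens2.s i * y * (gens2.s i)⁻¹) := by group
    refine ⟨mul_mem x1 y1, by rw [e]; exact mul_mem x2 y2, ?_⟩
    rw [e, mul_mem_S2_iff x2 y2, mul_mem_S2_iff x1 y1, x3, y3]
  | inv x _ hx =>
    obtain ⟨x1, x2, x3⟩ := hx
    have e : gens2.s i * x⁻¹ * (gens2.s i)⁻¹ = (gens2.s i * x * (gens2.s i)⁻¹)⁻¹ := by group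
    refine ⟨inv_mem x1, by rw [e]; exact inv_mem x2, ?_⟩
    rw [e, S2.inv_mem_iff, S2.inv_mem_iff, x3]

/-- Conjugate elements of `U2` lie in `S2` together. -/
theorem fusion2 {g x : GL chevF4.Idx (ZMod 2)} (hg : g ∈ G2F4) (hx : x ∈ U2)
    (h : g * x * g⁻¹ ∈ U2) : g * x * g⁻¹ ∈ S2 ↔ x ∈ S2 := by
  have hin : ∀ a ∈ U2, ∀ y ∈ U2, (a * y * a⁻¹ ∈ S2 ↔ y ∈ S2) := fun a ha y hy => by
    rw [mul_mem_S2_iff (mul_mem ha hy) (inv_mem ha), mul_mem_S2_iff ha hy, S2.inv_mem_iff]
    tauto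
  obtain ⟨u, hu, n, hn, v, hv, -, rfl⟩ := gens2.twist.nf (g := g) hg
  have hu' : u ∈ U2 := hu
  have hv' : v ∈ U2 := hv
  have hx' : v * x * v⁻¹ ∈ U2 := mul_mem (mul_mem hv' hx) (inv_mem hv')
  have hy : n * (v * x * v⁻¹) * n⁻¹ ∈ U2 := by
    have := mul_mem (mul_mem (inv_mem hu') h) hu'
    convert this using 1; group
  have h1 := gens2.fusion torus2_eq_bot (fun z => z ∈ S2) s2_invariant n hn.1 hn.2 _
    hx'.1 hx'.2 hy.1
  rw [show u * n * v * x * (u * n * v)⁻¹ = u * (n * (v * x * v⁻¹) * n⁻¹) * u⁻¹ by group,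
    hin u hu' _ hy, Iff.of_eq h1, hin v hv' x hx]

theorem t2_not_mem_derived :
    (⟨t2, (gElt_mem (by norm_num : (0 : ℕ) < 12)).2⟩ : ↥G2F4) ∉ commutator ↥G2F4 := by
  classical
  set H := U2.subgroupOf G2F4
  let χ : ↥H →* ℤˣ :=
    { toFun := fun x => if (x : GL chevF4.Idx (ZMod 2)) ∈ S2 then 1 else -1
      map_one' := if_pos (by simp [one_mem])
      map_mul' := fun a b => by
        have h := mul_mem_S2_iff (a := ((a : ↥G2F4) : GL chevF4.Idx (ZMod 2)))
          (b := ((b : ↥G2F4) : GL chevF4.Idx (ZMod 2))) a.2 b.2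
        simp only [Subgroup.coe_mul]
        split_ifs <;> simp_all }
  set t : ↥G2F4 := ⟨t2, (gElt_mem (by norm_num : (0 : ℕ) < 12)).2⟩
  have ht : t ∈ H := gElt_mem (by norm_num : (0 : ℕ) < 12)
  have hidx : H.index = 8775 := by
    have h := H.card_mul_index
    rw [Nat.card_congr (Subgroup.subgroupOfEquivOfLe (show U2 ≤ G2F4 from inf_le_right)).toEquiv,
      card_U2, card_2F4] at h
    omega
  have : Fintype (↥G2F4 ⧸ H) := Fintype.ofFinite _
  intro hD
  have h1 : MonoidHom.transfer χ t = 1 := Abelianization.commutator_subset_ker _ hD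
  rw [MonoidHom.transfer_eq_prod_quotient_orbitRel_zpowers_quot χ t] at h1
  have hterm : ∀ q : Quotient (MulAction.orbitRel (Subgroup.zpowers t) (↥G2F4 ⧸ H)),
      χ ⟨q.out.out⁻¹ * t ^ Function.minimalPeriod (t • ·) q.out * q.out.out,
        QuotientGroup.out_conj_pow_minimalPeriod_mem H t q.out⟩ =
      χ ⟨t, ht⟩ ^ Function.minimalPeriod (t • ·) q.out := by
    intro q
    rw [← map_pow]
    have hk : t ^ Function.minimalPeriod (t • ·) q.out ∈ H := pow_mem ht _
    have h2 := fusion2 (g := ((q.out.out : ↥G2F4) : GL chevF4.Idx (ZMod 2))⁻¹)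
      (inv_mem (SetLike.coe_mem _)) hk
      (by simpa [H, Subgroup.mem_subgroupOf] using
        QuotientGroup.out_conj_pow_minimalPeriod_mem H t q.out)
    rw [inv_inv] at h2
    exact if_congr h2 rfl rfl
  rw [Finset.prod_congr rfl fun q _ => hterm q,
    Finset.prod_pow_eq_pow_sum, ← Subgroup.index_eq_sum_minimalPeriod H t, hidx] at h1
  have e : χ ⟨t, ht⟩ = -1 := if_neg card_S2.2
  rw [e] at h1
  exact absurd h1 (by rw [Odd.neg_one_pow (by decide)]; decide)

end CfsgLib.Twisted
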