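import Cfsg.Agent.Lib.Classif.RankThree.Exceptional
import Cfsg.Agent.Lib.TwistedStr.StrF4

/-! Tables for ²F₄(2) and the Tits group, checked by collection in the root elements. -/

set_option autoImplicit false

namespace CfsgLib.Twisted

open Cfsg.Lie CfsgLib.ChevStr CfsgLib.RankThree

/-- Generators of the fixed part of `U` in ²F₄(2): the first is outside the index two subgroup. -/
def titsGen : List (List ℕ) :=
  [[29, 41, 44],
    [24, 33],
    [25, 27, 28, 29, 41, 44],
    [26, 29, 34, 36, 38, 41, 44],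
    [28, 30],
    [29, 31, 35, 39, 40, 41, 44],
    [32, 37],
    [36, 42],
    [38, 43],
    [39, 45],
    [40, 46],
    [44, 47]]

/-- A chain of closed stable sets through the positive roots, with lifts. -/
def titsChain : List (List ℕ × ℕ × List ℕ) :=
  [([24, 25, 26, 27, 28, 29, 30, 31, 32, 33, 34, 35, 36, 37, 38, 39, 40, 41, 42, 43, 44, 45, 46, 47], 24, [24, 33]),
    ([25, 26, 27, 28, 29, 30, 31, 32, 34, 35, 36, 37, 38, 39, 40, 41, 42, 43, 44, 45, 46, 47], 25, [25, 27, 28]),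
    ([26, 28, 29, 30, 31, 32, 34, 35, 36, 37, 38, 39, 40, 41, 42, 43, 44, 45, 46, 47], 26, [26, 34, 36]),
    ([28, 29, 30, 31, 32, 35, 36, 37, 38, 39, 40, 41, 42, 43, 44, 45, 46, 47], 28, [28, 30]),
    ([29, 31, 32, 35, 36, 37, 38, 39, 40, 41, 42, 43, 44, 45, 46, 47], 31, [31, 35, 40]),
    ([29, 32, 36, 37, 38, 39, 40, 41, 42, 43, 44, 45, 46, 47], 29, [29, 41, 44]),
    ([32, 36, 37, 38, 39, 40, 42, 43, 44, 45, 46, 47], 32, [32, 37]),
    ([36, 38, 39, 40, 42, 43, 44, 45, 46, 47], 36, [36, 42]),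
    ([38, 39, 40, 43, 44, 45, 46, 47], 38, [38, 43]),
    ([39, 40, 44, 45, 46, 47], 39, [39, 45]),
    ([40, 44, 46, 47], 40, [40, 46]),
    ([44, 47], 44, [44, 47])]

/-- The lifts as products of the generators. -/
def titsLift : List (List ℕ) :=
  [[1], [2, 0, 11], [3, 0, 11], [4], [5, 0, 11], [0], [6], [7], [8], [9], [10], [11]]

/-- Squares and conjugates of the generators as products of the later ones. -/
def titsPC : List (List (List ℕ)) :=
  [[[11], [1, 7], [2], [3, 8], [4], [5, 9], [6, 10], [7], [8], [9], [10], [11]],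
    [[], [2, 3, 5, 6, 7, 10], [3, 7], [4, 5, 6, 7, 8, 9, 10], [5, 8], [6, 8, 9], [7], [8], [9], [10, 11], [11]],
    [[4, 11], [3, 5, 6, 8, 9, 10], [4], [5, 6, 9], [6, 10], [7, 8, 10, 11], [8, 9, 10, 11], [9, 10], [10], [11]],
    [[7, 8, 11], [4, 6, 10, 11], [5, 8, 9, 11], [6, 9, 11], [7], [8], [9, 11], [10], [11]],
    [[], [5], [6], [7, 9, 10, 11], [8, 10], [9], [10], [11]],
    [[9, 10, 11], [6, 10], [7], [8, 11], [9], [10], [11]],
    [[], [7, 11], [8], [9], [10], [11]],
    [[], [8], [9], [10], [11]],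
    [[], [9], [10], [11]],
    [[], [10], [11]],
    [[], [11]],
    [[]]]

/-- The chains through the roots outside the two orbits. -/
def titsOut : Fin 2 → List (List ℕ × ℕ × List ℕ)
  | 0 => titsChain.drop 1
  | 1 => [([24, 26, 29, 31, 32, 33, 34, 35, 36, 37, 38, 39, 40, 41, 42, 43, 44, 45, 46, 47], 24, [24, 33]),
    ([26, 29, 31, 32, 34, 35, 36, 37, 38, 39, 40, 41, 42, 43, 44, 45, 46, 47], 26, [26, 34, 36]),
    ([29, 31, 32, 35, 36, 37, 38, 39, 40, 41, 42, 43, 44, 45, 46, 47], 31, [31, 35, 40]),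
    ([29, 32, 36, 37, 38, 39, 40, 41, 42, 43, 44, 45, 46, 47], 29, [29, 41, 44]),
    ([32, 36, 37, 38, 39, 40, 42, 43, 44, 45, 46, 47], 32, [32, 37]),
    ([36, 38, 39, 40, 42, 43, 44, 45, 46, 47], 36, [36, 42]),
    ([38, 39, 40, 43, 44, 45, 46, 47], 38, [38, 43]),
    ([39, 40, 44, 45, 46, 47], 39, [39, 45]),
    ([40, 44, 46, 47], 40, [40, 46]),
    ([44, 47], 44, [44, 47])]

/-- Fusion by the representative of each orbit. -/
def titsFus : Fin 2 → List (List ℕ)
  | 0 => [[2, 3, 4, 5, 8, 10], [2, 3, 7, 8, 11], [4, 7, 9, 10, 11], [5, 9, 10, 11], [5, 10, 11], [6, 8], [4, 7], [6, 8], [], [10, 11], [10, 11]]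
  | 1 => [[1, 6, 8, 9], [3, 5, 7, 9, 11], [3, 5, 9, 10, 11], [], [1, 6], [7, 10], [8, 9], [8, 9], [7, 10], []]

/-- The representatives of the orbits on the roots. -/
def titsMap : Fin 2 → List ℕ
  | 0 => [1, 0, 2, 7, 15, 17, 16, 3, 8, 10, 9, 19, 18, 20, 33, 4, 6, 5, 12, 11, 13, 22, 21, 24, 23, 26, 25, 34, 36, 35, 42, 41, 43, 14, 27, 29, 28, 38, 37, 39, 44, 31, 30, 32, 40, 45, 47, 46]
  | 1 => [0, 5, 4, 3, 2, 1, 6, 11, 9, 8, 14, 7, 13, 12, 10, 23, 21, 30, 18, 28, 27, 16, 25, 15, 32, 22, 31, 20, 19, 29, 17, 26, 24, 37, 35, 34, 40, 33, 39, 38, 36, 41, 46, 45, 44, 43, 42, 47]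

/-- Commutators of generators. -/
def titsComm : List (ℕ × ℕ × List ℕ) :=
  [(0, 1, [36, 42]),
    (0, 3, [38, 43]),
    (0, 5, [39, 45]),
    (0, 6, [40, 46]),
    (1, 2, [26, 31, 32, 34, 35, 36, 37, 40, 44, 45, 46, 47]),
    (1, 10, [44, 47]),
    (2, 3, [29, 31, 35, 38, 41, 43, 45, 46, 47]),
    (2, 5, [32, 37, 39, 45]),
    (3, 2, [29, 31, 35, 38, 39, 40, 41, 43, 47])]

/-- Commutators with the representatives of the orbits. -/
def titsTurn : List (Fin 2 × List ℕ × List ℕ) :=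
  [(0, [26, 34, 36], [25, 26, 27, 28, 29, 31, 34, 42]),
    (0, [28, 30], [28, 30, 36, 39, 40, 42, 44, 45, 46, 47]),
    (0, [32, 37], [32, 37, 38, 43]),
    (1, [26, 34, 36], [26, 31, 34, 35, 40, 42]),
    (1, [32, 37], [24, 32, 33, 37, 39, 43])]

/-- The generators of the index two subgroup as products of commutators. -/
def titsDer : List (List ℕ) :=
  [[1, 7, 13], [4, 1, 9], [0, 6, 12], [0, 10], [1, 8], [1, 11], [0], [1], [2], [3], [5]]

/-- Commutators of generators in the index two subgroup. -/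
def titsComm2 : List (ℕ × ℕ × List ℕ) :=
  [(1, 2, [26, 31, 32, 34, 35, 36, 37, 40, 44, 45, 46, 47]),
    (1, 3, [36, 42]),
    (1, 4, [29, 31, 32, 35, 36, 37, 38, 39, 41, 42, 43, 44, 47]),
    (1, 5, [38, 43]),
    (1, 10, [44, 47]),
    (2, 5, [32, 37, 39, 45]),
    (2, 6, [40, 46]),
    (2, 8, [39, 44, 45, 47]),
    (3, 2, [29, 31, 35, 38, 39, 40, 41, 43, 47]),
    (3, 4, [32, 37, 39, 40, 44, 45, 46, 47]),
    (3, 6, [39, 45])]

/-- Conjugates of the first of them. -/
def titsTurn2 : List (Fin 2 × List ℕ) :=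
  [(0, [25, 27, 28, 29, 38, 40, 41, 43, 44, 46]),
    (1, [24, 26, 31, 33, 34, 35, 36, 40, 42, 43, 47])]

/-- The generators of the index two subgroup in its derived group. -/
def titsDer2 : List (List ℕ) :=
  [[9, 0, 12], [3, 7, 11], [2, 1, 0], [10, 11, 11], [3, 8], [5, 10], [1], [3], [10], [6], [4]]

/-- The generator number `k`. -/
def gWord (k : ℕ) : List ℕ := titsGen.getD k []

/-- The image of a word under the representative of an orbit. -/
def turn (i : Fin 2) (w : List ℕ) : List ℕ := w.map fun r => (titsMap i).getD r 0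

/-- A product of entries of a table. -/
def expand (T : List (List ℕ)) (e : List ℕ) : List ℕ := e.flatMap fun k => T.getD k []

/-- The values of the commutators. -/
def derWords : List (List ℕ) := titsComm.map (·.2.2) ++ titsTurn.map (·.2.2)

/-- The values of the second commutators. -/
def derWords2 : List (List ℕ) := titsComm2.map (·.2.2) ++ titsTurn2.map (·.2)

/-- The collected forms agree. -/
def sameWord (n : ℕ) (v w : List ℕ) : Bool := collect chevF4 n v == collect chevF4 n w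

/-- A chain of levels with lifts. -/
def chainHead : List (List ℕ × ℕ × List ℕ) → List ℕ
  | [] => []
  | c :: _ => c.1

/-- The checks on a chain. -/
def chainCheck (D : ChevalleyDatum) (α : ℕ → Fin D.rank → ℤ) (root : ℕ → ℕ) :
    List (List ℕ × ℕ × List ℕ) → Bool
  | [] => true
  | (L, r, w) :: rest => levelCheck D α root L (chainHead rest) r &&
      w.all (fun k => L.contains k) && w.count r == 1 && chainCheck D α root rest

theorem titsMap_eq : ∀ i, ∀ r : Fin chevF4.nroots,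
    (reflDataF4.wordPerm (f4TwistWord i) r : ℕ) = (titsMap i).getD r.val 0 := by decide +kernel

theorem titsMap_roots : ∀ i, ∀ w ∈ [[f4m1, f4m4], [f4ma, f4mb, f4mab, f4maab]].getD (i : Fin 2).val [],
    chevF4.IsPosRoot ((titsMap i).getD w 0) := by decide +kernel

theorem titsChain_ok : chainCheck chevF4 rootDataF4.α subF4.root titsChain = true ∧
    ∀ i, chainCheck chevF4 rootDataF4.α subF4.root (titsOut i) = true := by decide +kernel

theorem titsChain_sets : ∀ r : Fin chevF4.nroots,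
    ((r : ℕ) ∈ chainHead titsChain ↔ chevF4.IsPosRoot r.val) ∧
    ∀ i, ((r : ℕ) ∈ chainHead (titsOut i) ↔ chevF4.IsPosRoot r.val ∧
      ¬ SuppIn rootDataF4 (nodesF4 i) r) := by decide +kernel

theorem titsChain_bound : (∀ r ∈ chainHead titsChain, r < chevF4.nroots) ∧
    ∀ i, ∀ r ∈ chainHead (titsOut i), r < chevF4.nroots := by decide +kernel

theorem titsGen_fixed : (titsGen.all (fixedOK chevF4 subF4.root)) = true := by decide +kernel

theorem titsGen_len : titsGen.length = 12 ∧ titsLift.length = titsChain.length ∧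
    ∀ i, (titsFus i).length = (titsOut i).length := by decide +kernel

theorem titsOut_sub : ∀ i, ∀ c ∈ titsOut i, ∃ d ∈ titsChain, c.2.2 = d.2.2 := by decide +kernel

theorem titsLift_ok : ∀ k : Fin 12, (∀ j ∈ titsLift.getD k.val [], j < 12) ∧
    sameWord 30 (titsChain.getD k.val ([], 0, [])).2.2 (expand titsGen (titsLift.getD k.val [])) = true := by
  decide +kernel

theorem titsPC_sq : ∀ k : Fin 12, (∀ j ∈ (titsPC.getD k.val []).getD 0 [], k.val < j ∧ j < 12) ∧
    sameWord 120 (gWord k.val ++ gWord k.val)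
      (expand titsGen ((titsPC.getD k.val []).getD 0 [])) = true := by decide +kernel

theorem titsPC_conj : ∀ k : Fin 12, ∀ l : Fin 12, k.val < l.val →
    (∀ j ∈ (titsPC.getD k.val []).getD (l.val - k.val) [], k.val < j ∧ j < 12) ∧
    sameWord 120 (gWord k.val ++ gWord l.val ++ (gWord k.val).reverse)
      (expand titsGen ((titsPC.getD k.val []).getD (l.val - k.val) [])) = true := by decide +kernel

theorem titsFus_ok : ∀ i, ∀ k : Fin 11, k.val < (titsOut i).length →
    (∀ j ∈ (titsFus i).getD k.val [], 0 < j ∧ j < 12) ∧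
    sameWord 200 (turn i ((titsOut i).getD k.val ([], 0, [])).2.2)
      (expand titsGen ((titsFus i).getD k.val []) ++ ((titsOut i).getD k.val ([], 0, [])).2.2) = true := by
  decide +kernel

theorem titsTurn_first : ∀ i, (∀ r ∈ turn i (gWord 0), r < chevF4.nroots ∧ chevF4.IsPosRoot r) ∧
    (∀ r ∈ gWord 0, r < chevF4.nroots) := by decide +kernel

theorem titsComm_ok : ∀ e ∈ titsComm, e.1 < 12 ∧ e.2.1 < 12 ∧
    sameWord 260 ((gWord e.1).reverse ++ (gWord e.2.1).reverse ++ gWord e.1 ++ gWord e.2.1) e.2.2 = true := by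
  decide +kernel

theorem titsTurn_ok : ∀ e ∈ titsTurn, fixedOK chevF4 subF4.root e.2.1 = true ∧
    sameWord 260 (turn e.1 e.2.1 ++ e.2.1.reverse) e.2.2 = true := by decide +kernel

theorem titsDer_ok : ∀ k : Fin 11,
    (∀ j ∈ titsDer.getD k.val [], j < derWords.length) ∧
    sameWord 140 (gWord (k.val + 1)) (expand derWords (titsDer.getD k.val [])) = true := by
  decide +kernel

theorem titsComm2_ok : ∀ e ∈ titsComm2, 0 < e.1 ∧ e.1 < 12 ∧ 0 < e.2.1 ∧ e.2.1 < 12 ∧
    sameWord 260 ((gWord e.1).reverse ++ (gWord e.2.1).reverse ++ gWord e.1 ++ gWord e.2.1) e.2.2 = true := by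
  decide +kernel

theorem titsTurn2_ok : ∀ e ∈ titsTurn2, (∀ r ∈ (titsComm2.getD 0 (0, 0, [])).2.2, r < chevF4.nroots) ∧
    sameWord 260 (turn e.1 (titsComm2.getD 0 (0, 0, [])).2.2) e.2 = true := by decide +kernel

theorem titsDer2_ok : ∀ k : Fin 11,
    (∀ j ∈ titsDer2.getD k.val [], j < derWords2.length) ∧
    sameWord 140 (gWord (k.val + 1)) (expand derWords2 (titsDer2.getD k.val [])) = true := by
  decide +kernel

end CfsgLib.Twisted
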