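import Cfsg.Agent.Lib.TwistedStr.WeylG2
import Cfsg.Agent.Lib.SmallRee.Torus

/-! The order of ²G₂. -/

set_option autoImplicit false

namespace CfsgLib.Twisted

open Cfsg.Lie CfsgLib.ChevStr
open scoped MatrixGroups

theorem card_twistedG2 (K : Type*) [Field K] [Fintype K] [CharP K 3] {m : ℕ}
    (hn : Fintype.card K = 3 * (3 ^ m * 3 ^ m)) :
    Nat.card ↥(twistedG2 K (3 ^ m)) = Fintype.card K ^ 3 * (Fintype.card K - 1) * (Fintype.card K ^ 3 + 1) := by
  have g := gensG2 K hn
  have hfix : ∀ w ∈ twistSet (coreG2 K).hR (frobG2 K m).ρ,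
      Nat.card ↥((frobG2 K m).fixU ((coreG2 K).hR.invRoots w)) =
        Fintype.card K ^ (((coreG2 K).hR.invSet w).card / 2) := by
    intro w hw
    obtain ⟨hwW, hc⟩ := mem_twistSet.1 hw
    have e := (g.fix_invRoots hwW hc).2
    rw [Nat.card_eq_fintype_card (α := K)] at e
    have hK : Fintype.card K = 3 ^ (2 * m + 1) := by rw [hn, pow_succ, two_mul m, pow_add, mul_comm]
    have heven : Even ((coreG2 K).hR.invSet w).card := by
      have h2 := congrArg (fun x : ℕ => x.factorization 3) e
      simp only [hK, Nat.factorization_pow, Nat.Prime.factorization_self Nat.prime_three,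
        Finsupp.smul_apply, smul_eq_mul, mul_one] at h2
      have hev : Even (((coreG2 K).hR.invSet w).card * (2 * m + 1)) := h2 ▸ even_two_mul _
      rcases Nat.even_mul.1 hev with h | h
      · exact h
      · simp [parity_simps] at h
    obtain ⟨k, hk⟩ := heven
    rw [hk, ← two_mul, Nat.mul_div_cancel_left _ (by norm_num : 0 < 2)]
    refine Nat.pow_left_injective (show 2 ≠ 0 by norm_num) ?_
    show _ ^ 2 = _ ^ 2
    rw [e, hk, ← pow_mul]
    congr 1
    omega
  have hH : Nat.card ↥(chevG2.diagonalSubgroup K ⊓ twistedG2 K (3 ^ m)) = Fintype.card K - 1 :=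
    CfsgLib.SmallRee.card_H1 K hn
  rw [g.card_G1_of _ hfix, card_U1G2 K hn, hH]
  rw [show ∑ w ∈ twistSet (coreG2 K).hR (frobG2 K m).ρ,
      Fintype.card K ^ (((coreG2 K).hR.invSet w).card / 2) = _ from
    sum_twistSetG2 fun k => Fintype.card K ^ (k / 2)]
  simp only [Finset.sum_range_succ, Finset.sum_range_zero, List.getD_cons_succ, List.getD_cons_zero]
  norm_num
  ring_nf
  simp

end CfsgLib.Twisted
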