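import Cfsg.Agent.Lib.TwistedStr.Card

/-!
The Weyl elements commuting with a root permutation, enumerated by length through the images of the
fundamental roots.
-/

set_option autoImplicit false

namespace CfsgLib.Twisted

open Cfsg.Lie CfsgLib.ChevStr

variable {D : ChevalleyDatum}

/-- Apply a word of fundamental reflections to a list of values. -/
def wordFun (D : ChevalleyDatum) : List ℕ → List ℤ → List ℤ
  | [], g => g
  | j :: L, g =>
    let h := wordFun D L g
    List.ofFn fun i : Fin D.rank => h.getD i.val 0 - h.getD j 0 * D.cartan j (D.simple i.val)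

/-- The next level, from the levels below in reverse order. -/
def twistNext (D : ChevalleyDatum) (words : List (ℕ × List ℕ)) (prev : List (List (List ℤ))) :
    List (List ℤ) :=
  (words.flatMap fun cw => if cw.1 = 0 then [] else
    ((prev.getD (cw.1 - 1) []).filter fun g => cw.2.all fun j => decide (0 < g.getD j 0)).map
      (wordFun D cw.2)).dedup

/-- The levels `m, …, 0` of the images of the height. -/
def twistLevels (D : ChevalleyDatum) (words : List (ℕ × List ℕ)) : ℕ → List (List (List ℤ))
  | 0 => [[funList (fun _ : Fin D.rank => (1 : ℤ))]]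
  | m + 1 => twistNext D words (twistLevels D words m) :: twistLevels D words m

/-- The level number `m`. -/
def twistLevel (D : ChevalleyDatum) (words : List (ℕ × List ℕ)) (m : ℕ) : List (List ℤ) :=
  (twistLevels D words m).headD []

/-- The numbers of elements of each length. -/
def twistCounts (D : ChevalleyDatum) (words : List (ℕ × List ℕ)) (N : ℕ) : List ℕ :=
  ((twistLevels D words N).map List.length).reverse

theorem twistLevels_getD (words : List (ℕ × List ℕ)) :
    ∀ m k : ℕ, k ≤ m → (twistLevels D words m).getD k [] = twistLevel D words (m - k) := by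
  intro m
  induction m with
  | zero => intro k hk; obtain rfl : k = 0 := by omega
            simp [twistLevels, twistLevel]
  | succ m ih =>
    intro k hk
    cases k with
    | zero => simp [twistLevels, twistLevel]
    | succ k =>
      rw [Nat.succ_sub_succ, twistLevels, List.getD_cons_succ]
      exact ih k (by omega)

theorem twistLevels_length (words : List (ℕ × List ℕ)) :
    ∀ m : ℕ, (twistLevels D words m).length = m + 1
  | 0 => rfl
  | m + 1 => by rw [twistLevels, List.length_cons, twistLevels_length words m]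

theorem twistLevel_nodup (words : List (ℕ × List ℕ)) :
    ∀ m, (twistLevel D words m).Nodup
  | 0 => List.nodup_singleton _
  | _ + 1 => List.nodup_dedup _

variable {R : RootData D} (hR : ReflData R)

/-- The height moved by a permutation of the roots. -/
noncomputable def heightFun (w : Equiv.Perm (Fin D.nroots)) : List ℤ :=
  funList (hR.moveFun w fun _ => (1 : ℤ))

include hR

theorem heightFun_getD (w : Equiv.Perm (Fin D.nroots)) (j : Fin D.rank) :
    (heightFun hR w).getD j.val 0 =
      pairing (fun _ => (1 : ℤ)) (R.α (w⁻¹ ⟨D.simple j.val, R.simple_lt j⟩)) := by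
  simp [heightFun, funList, ReflData.moveFun]

theorem isPos_iff_height {r : ℕ} (hr : r < D.nroots) :
    D.IsPosRoot r ↔ 0 < pairing (fun _ : Fin D.rank => (1 : ℤ)) (R.α r) := by
  rw [pairing_apply]
  constructor
  · intro h
    obtain ⟨i, hi⟩ := Function.ne_iff.1 (R.α_ne_zero hr)
    have h0 := ((R.isPos_iff r).1 h).2
    exact Finset.sum_pos' (fun j _ => by simpa using h0 j)
      ⟨i, Finset.mem_univ _, by simpa using lt_of_le_of_ne (h0 i) (Ne.symm hi)⟩
  · intro h
    refine (R.pos_or_neg hr).resolve_right fun hn => ?_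
    have : ∑ j : Fin D.rank, (1 : ℤ) * R.α r j ≤ 0 :=
      Finset.sum_nonpos fun j _ => by simpa using ((R.isNeg_iff r).1 hn).2 j
    omega

theorem heightFun_mul {w : Equiv.Perm (Fin D.nroots)} (hw : w ∈ hR.weyl) :
    ∀ L : List (Fin D.rank), heightFun hR (hR.wordPerm L * w) =
      wordFun D (L.map fun i : Fin D.rank => i.val) (heightFun hR w)
  | [] => by simp [wordFun, ReflData.wordPerm]
  | i :: L => by
    rw [List.map_cons, wordFun, ← heightFun_mul hw L,
      show hR.wordPerm (i :: L) = hR.sPerm i * hR.wordPerm L by simp [ReflData.wordPerm], mul_assoc]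
    simp only [heightFun]
    rw [hR.moveFun_mul (mul_mem (hR.wordPerm_mem L) hw), ← listFun_funList (D := D)
      (hR.moveFun (hR.wordPerm L * w) fun _ => (1 : ℤ)), hR.moveFun_sPerm, listFun_funList]
    rfl

theorem heightFun_injective {v w : Equiv.Perm (Fin D.nroots)} (hv : v ∈ hR.weyl)
    (hw : w ∈ hR.weyl) (h : heightFun hR v = heightFun hR w) : v = w := by
  have hu : w⁻¹ * v ∈ hR.weyl := mul_mem (inv_mem hw) hv
  have hfix : hR.moveFun (w⁻¹ * v) (fun _ => (1 : ℤ)) = fun _ => (1 : ℤ) := by
    rw [hR.moveFun_mul hv, List.ofFn_inj.1 h, ← hR.moveFun_mul hw, inv_mul_cancel, hR.moveFun_one]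
  refine (inv_mul_eq_one.1 ?_).symm
  rw [← inv_eq_one]
  refine hR.eq_one_of_invSet_eq_empty (inv_mem hu) (Finset.eq_empty_iff_forall_notMem.2 fun s hs => ?_)
  obtain ⟨h1, h2⟩ := hR.mem_invSet.1 hs
  have h3 := hR.pairing_move hu (fun _ => (1 : ℤ)) s
  change pairing (hR.moveFun (w⁻¹ * v) fun _ => (1 : ℤ)) _ = _ at h3
  rw [hfix] at h3
  exact R.not_pos_and_neg ((isPos_iff_height hR ((w⁻¹ * v)⁻¹ s).isLt).2
    (h3 ▸ (isPos_iff_height hR s.isLt).1 h1)) h2

variable {ρ : Equiv.Perm (Fin D.nroots)} {I : Type}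

/-- The enumeration by length is the twisted Weyl group. -/
theorem sum_twistSet (O : OrbitData R ρ I) (hρ : ∀ r : Fin D.nroots, D.IsNegRoot r → D.IsNegRoot (ρ r))
    (L : I → List (Fin D.rank))
    (hL : ∀ i, (∀ j ∈ L i, j ∈ O.J i) ∧
      (∀ j ∈ O.J i, D.IsNegRoot (hR.wordPerm (L i) ⟨D.simple j.val, R.simple_lt j⟩)) ∧
      ∀ r, ρ (hR.wordPerm (L i) r) = hR.wordPerm (L i) (ρ r))
    (is : List I) (his : ∀ i, i ∈ is) (words : List (ℕ × List ℕ))
    (hwords : words = is.map fun i =>
      ((hR.invSet (hR.wordPerm (L i))).card, (L i).map fun j : Fin D.rank => j.val))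
    {N : ℕ} (hN : (Finset.univ.filter fun s : Fin D.nroots => D.IsPosRoot s.val).card ≤ N) (f : ℕ → ℕ) :
    ∑ w ∈ twistSet hR ρ, f (hR.invSet w).card =
      ∑ m ∈ Finset.range (N + 1), (twistCounts D words N).getD m 0 * f m := by
  classical
  have hsub : ∀ i, hR.wordPerm (L i) ∈ hR.weylSub (O.J i) := fun i =>
    (hR.weylSub (O.J i)).list_prod_mem fun x hx => by
      obtain ⟨j, hj, rfl⟩ := List.mem_map.1 hx
      exact hR.sPerm_mem_sub ((hL i).1 j hj)
  have hW : ∀ i, hR.wordPerm (L i) ∈ twistSet hR ρ := fun i => mem_twistSet.2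
    ⟨hR.wordPerm_mem _, Equiv.Perm.ext fun r => by simp only [Equiv.Perm.mul_apply]; exact (hL i).2.2 r⟩
  have hsq : ∀ i, hR.wordPerm (L i) * hR.wordPerm (L i) = 1 := fun i =>
    mul_eq_one_of_neg hR (hsub i) (hL i).2.1 (hsub i) (hL i).2.1
  -- the step down
  have key0 : ∀ w ∈ twistSet hR ρ, ∀ i, ∀ j ∈ O.J i, D.IsNegRoot (w⁻¹ ⟨D.simple j.val, R.simple_lt j⟩) →
      (hR.invSet w).card =
        (hR.invSet (hR.wordPerm (L i) * w)).card + (hR.invSet (hR.wordPerm (L i))).card := by
    intro w hw i j hi hj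
    obtain ⟨hwW, hc⟩ := mem_twistSet.1 hw
    have hall : ∀ k ∈ O.J i, D.IsNegRoot (w⁻¹ ⟨D.simple k.val, R.simple_lt k⟩) := by
      intro k hk
      obtain ⟨m, hm⟩ := O.trans i j hi k hk
      have key : ∀ m : ℕ, D.IsNegRoot (w⁻¹ ((ρ ^ m) ⟨D.simple j.val, R.simple_lt j⟩)) := by
        intro m
        induction m with
        | zero => exact hj
        | succ m ih =>
          rw [pow_succ', Equiv.Perm.mul_apply, ← Equiv.Perm.mul_apply w⁻¹ ρ, ← hc.inv_right.eq,
            Equiv.Perm.mul_apply]
          exact hρ _ ih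
      have e := key m.val
      rwa [show (ρ ^ m.val) ⟨D.simple j.val, R.simple_lt j⟩ = ⟨D.simple k.val, R.simple_lt k⟩ from
        Fin.ext hm] at e
    set u := hR.wordPerm (L i) with hu
    have hmin : hR.IsMin Finset.univ (O.J i) (w⁻¹ * u) := by
      refine ⟨by rw [hR.weylSub_univ]; exact mul_mem (inv_mem hwW) (hR.weylSub_le _ (hsub i)),
        fun k hk => ?_⟩
      rw [Equiv.Perm.mul_apply]
      set t := u ⟨D.simple k.val, R.simple_lt k⟩
      have ht : SuppIn R (O.J i) t := (suppIn_weyl hR (hsub i) _).2 (suppIn_simple hk)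
      have h1 : D.IsNegRoot (w⁻¹ ⟨D.neg t, R.neg_lt t t.isLt⟩) :=
        neg_of_supp hR (inv_mem hwW) hall (s := ⟨D.neg t, R.neg_lt t t.isLt⟩)
          ⟨(R.isPos_neg_iff t.isLt).2 ((hL i).2.1 k hk),
            fun m hm => by rw [R.α_neg _ t.isLt, Pi.neg_apply, ht m hm, neg_zero]⟩
      rwa [hR.apply_neg (inv_mem hwW) t, R.isNeg_neg_iff (w⁻¹ t).isLt] at h1
    have h := hR.card_invSet_min_mul hmin u (hsub i)
    rw [mul_assoc, hsq i, mul_one] at h
    rw [hR.card_invSet_inv hwW] at h
    rw [h, show w⁻¹ * u = (u * w)⁻¹ by rw [_root_.mul_inv_rev, inv_eq_of_mul_eq_one_right (hsq i)],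
      hR.card_invSet_inv (mul_mem (hR.weylSub_le _ (hsub i)) hwW)]
  have hposu : ∀ i, 0 < (hR.invSet (hR.wordPerm (L i))).card := fun i => by
    obtain ⟨k0, hk0⟩ := O.nonempty i
    exact Finset.card_pos.2 ⟨_, hR.mem_invSet.2 ⟨R.simple_pos k0, (hL i).2.1 k0 hk0⟩⟩
  -- the step down
  have hdown : ∀ w ∈ twistSet hR ρ, hR.invSet w ≠ ∅ → ∃ i, 0 < (hR.invSet (hR.wordPerm (L i))).card ∧
      (hR.invSet w).card =
        (hR.invSet (hR.wordPerm (L i) * w)).card + (hR.invSet (hR.wordPerm (L i))).card := by
    intro w hw hne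
    obtain ⟨hwW, hc⟩ := mem_twistSet.1 hw
    have hne' : hR.invSet w⁻¹ ≠ ∅ := fun h => hne (by
      rw [inv_eq_one.1 (hR.eq_one_of_invSet_eq_empty (inv_mem hwW) h)]
      exact Finset.eq_empty_iff_forall_notMem.2 fun s hs => R.not_pos_and_neg (hR.mem_invSet.1 hs).1
        (by simpa using (hR.mem_invSet.1 hs).2))
    obtain ⟨j, hj⟩ := hR.exists_simple_neg_of_ne_one (inv_mem hwW) hne'
    obtain ⟨i, hi⟩ := O.cover j
    exact ⟨i, hposu i, key0 w hw i j hi hj⟩
  have hneg : ∀ w ∈ twistSet hR ρ, ∀ i, ∀ k ∈ O.J i,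
      D.IsNegRoot (w⁻¹ ⟨D.simple k.val, R.simple_lt k⟩) →
      (hR.invSet w).card + (hR.invSet (hR.wordPerm (L i))).card ≠
        (hR.invSet (hR.wordPerm (L i) * w)).card := fun w hw i k hk hn h => by
    have := key0 w hw i k hk hn
    have := hposu i
    omega
  have hJL : ∀ i, ∀ k ∈ O.J i, k ∈ L i := by
    intro i k hk
    by_contra hkL
    have h1 := hR.weylSub_fix (J := (L i).toFinset) (w := hR.wordPerm (L i))
      ((hR.weylSub _).list_prod_mem fun x hx => by
        obtain ⟨j, hj, rfl⟩ := List.mem_map.1 hx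
        exact hR.sPerm_mem_sub (List.mem_toFinset.2 hj))
      ⟨D.simple k.val, R.simple_lt k⟩ k (by simpa using hkL)
    have h2 := ((R.isNeg_iff _).1 ((hL i).2.1 k hk)).2 k
    rw [h1, R.α_simple] at h2
    simp at h2
  have hup : ∀ w ∈ twistSet hR ρ, ∀ i,
      (((L i).map fun j : Fin D.rank => j.val).all fun j => decide (0 < (heightFun hR w).getD j 0)) = true →
      (hR.invSet (hR.wordPerm (L i) * w)).card =
        (hR.invSet w).card + (hR.invSet (hR.wordPerm (L i))).card := by
    intro w hw i h
    have hwW := (mem_twistSet.1 hw).1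
    simp only [List.all_eq_true, List.mem_map, decide_eq_true_eq] at h
    have hmin : hR.IsMin Finset.univ (O.J i) w⁻¹ :=
      ⟨by rw [hR.weylSub_univ]; exact inv_mem hwW, fun k hk => by
        rw [isPos_iff_height hR (w⁻¹ _).isLt, ← heightFun_getD hR w k]
        exact h _ ⟨k, hJL i k hk, rfl⟩⟩
    have e := hR.card_invSet_min_mul hmin _ (hsub i)
    rwa [← inv_eq_of_mul_eq_one_right (hsq i), ← _root_.mul_inv_rev,
      inv_eq_of_mul_eq_one_right (hsq i),
      hR.card_invSet_inv (mul_mem (hR.weylSub_le _ (hsub i)) hwW), hR.card_invSet_inv hwW] at e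
  have hpos' : ∀ w ∈ twistSet hR ρ, ∀ i,
      (hR.invSet w).card + (hR.invSet (hR.wordPerm (L i))).card =
        (hR.invSet (hR.wordPerm (L i) * w)).card →
      (((L i).map fun j : Fin D.rank => j.val).all fun j => decide (0 < (heightFun hR w).getD j 0)) = true := by
    intro w hw i h
    obtain ⟨hwW, hc⟩ := mem_twistSet.1 hw
    simp only [List.all_eq_true, List.mem_map, decide_eq_true_eq, forall_exists_index, and_imp]
    rintro _ k hk rfl
    rw [heightFun_getD, ← isPos_iff_height hR (w⁻¹ _).isLt]
    refine (R.pos_or_neg (w⁻¹ _).isLt).resolve_right fun hn => ?_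
    exact hneg w hw i k ((hL i).1 k hk) hn h
  have hlevel : ∀ m, ∀ t, t ∈ twistLevel D words m ↔
      ∃ w ∈ twistSet hR ρ, (hR.invSet w).card = m ∧ heightFun hR w = t := by
    intro m
    induction m using Nat.strong_induction_on with
    | _ m ih =>
      cases m with
      | zero =>
        intro t
        simp only [twistLevel, twistLevels, List.headD_cons, List.mem_singleton]
        constructor
        · rintro rfl
          refine ⟨1, mem_twistSet.2 ⟨one_mem _, Commute.one_right _⟩, ?_,
            by simp [heightFun, hR.moveFun_one]⟩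
          exact Finset.card_eq_zero.2 (Finset.eq_empty_iff_forall_notMem.2 fun s hs =>
            R.not_pos_and_neg (hR.mem_invSet.1 hs).1 (by simpa using (hR.mem_invSet.1 hs).2))
        · rintro ⟨w, hw, hc, rfl⟩
          rw [hR.eq_one_of_invSet_eq_empty (mem_twistSet.1 hw).1 (Finset.card_eq_zero.1 hc)]
          simp [heightFun, hR.moveFun_one]
      | succ m =>
        intro t
        have hmem : t ∈ twistLevel D words (m + 1) ↔ ∃ cw ∈ words, 0 < cw.1 ∧
            ∃ t' ∈ (twistLevels D words m).getD (cw.1 - 1) [],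
              (cw.2.all fun j => decide (0 < t'.getD j 0)) = true ∧ wordFun D cw.2 t' = t := by
          simp only [twistLevel, twistLevels, List.headD_cons, twistNext, List.mem_dedup,
            List.mem_flatMap]
          refine exists_congr fun cw => and_congr_right fun _ => ?_
          split_ifs with h
          · simp [h]
          · simp only [List.mem_map, List.mem_filter, Nat.pos_of_ne_zero h, true_and, and_assoc]
        rw [hmem]
        constructor
        · rintro ⟨⟨c, word⟩, hcw, hpos, t', ht', hall, rfl⟩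
          by_cases hk : c - 1 ≤ m
          · rw [twistLevels_getD words m (c - 1) hk] at ht'
            dsimp only at hpos
            obtain ⟨v, hv, hvl, rfl⟩ := (ih _ (by omega) t').1 ht'
            rw [hwords, List.mem_map] at hcw
            obtain ⟨i, -, hi⟩ := hcw
            obtain ⟨rfl, rfl⟩ := Prod.mk.inj hi
            obtain ⟨hvW, hvc⟩ := mem_twistSet.1 hv
            obtain ⟨huW, huc⟩ := mem_twistSet.1 (hW i)
            refine ⟨hR.wordPerm (L i) * v, mem_twistSet.2 ⟨mul_mem huW hvW, huc.mul_right hvc⟩, ?_,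
              heightFun_mul hR hvW _⟩
            rw [hup v hv i hall]
            exact hvl ▸ (by omega : ∀ c k : ℕ, 0 < c → c - 1 ≤ k → k - (c - 1) + c = k + 1) _ m hpos hk
          · rw [List.getD_eq_default _ _ (by rw [twistLevels_length]; omega)] at ht'
            simp at ht'
        · rintro ⟨w, hw, hc, rfl⟩
          obtain ⟨i, hpos, hcard⟩ := hdown w hw fun h => by simp [h] at hc
          obtain ⟨huW, huc⟩ := mem_twistSet.1 (hW i)
          obtain ⟨hwW, hwc⟩ := mem_twistSet.1 hw
          have hv : hR.wordPerm (L i) * w ∈ twistSet hR ρ :=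
            mem_twistSet.2 ⟨mul_mem huW hwW, huc.mul_right hwc⟩
          refine ⟨_, by rw [hwords]; exact List.mem_map_of_mem (his i), hpos,
            heightFun hR (hR.wordPerm (L i) * w), ?_, hpos' _ hv i ?_, ?_⟩
          · rw [twistLevels_getD words m _ (by dsimp only; omega)]
            exact (ih _ (by omega) _).2 ⟨_, hv, by dsimp only; omega, rfl⟩
          · rw [← mul_assoc, hsq i, one_mul]
            exact hcard.symm
          · rw [← heightFun_mul hR (mem_twistSet.1 hv).1, ← mul_assoc, hsq i, one_mul]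
  have hbound : ∀ w ∈ twistSet hR ρ, (hR.invSet w).card ∈ Finset.range (N + 1) := fun w _ => by
    rw [Finset.mem_range]
    have : (hR.invSet w).card ≤ N := le_trans (Finset.card_le_card fun s hs =>
      Finset.mem_filter.2 ⟨Finset.mem_univ _, (hR.mem_invSet.1 hs).1⟩) hN
    omega
  rw [← Finset.sum_fiberwise_of_maps_to hbound]
  refine Finset.sum_congr rfl fun m hm => ?_
  rw [Finset.sum_congr rfl fun w hw => by rw [(Finset.mem_filter.1 hw).2], Finset.sum_const, smul_eq_mul]
  congr 1
  have hm' : m ≤ N := Nat.le_of_lt_succ (Finset.mem_range.1 hm)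
  have hlenL : (twistCounts D words N).getD m 0 = (twistLevel D words m).length := by
    have hlen : m < ((twistLevels D words N).map List.length).length := by
      rw [List.length_map, twistLevels_length]; omega
    rw [twistCounts, List.getD_eq_getElem?_getD, List.getElem?_reverse hlen, List.length_map,
      twistLevels_length, List.getElem?_map]
    have e := twistLevels_getD (D := D) words N (N - m) (Nat.sub_le _ _)
    rw [show N - (N - m) = m by omega, List.getD_eq_getElem?_getD] at e
    rw [show N + 1 - 1 - m = N - m by omega, ← e]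
    cases hget : (twistLevels D words N)[N - m]? <;> simp
  rw [hlenL, ← List.toFinset_card_of_nodup (twistLevel_nodup words m)]
  refine Finset.card_bij (fun w _ => heightFun hR w) (fun w hw => ?_) (fun v hv w hw h => ?_) fun t ht => ?_
  · obtain ⟨h1, h2⟩ := Finset.mem_filter.1 hw
    exact List.mem_toFinset.2 ((hlevel m _).2 ⟨w, h1, h2, rfl⟩)
  · exact heightFun_injective hR (mem_twistSet.1 (Finset.mem_filter.1 hv).1).1
      (mem_twistSet.1 (Finset.mem_filter.1 hw).1).1 h
  · obtain ⟨w, h1, h2, h3⟩ := (hlevel m t).1 (List.mem_toFinset.1 ht)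
    exact ⟨w, Finset.mem_filter.2 ⟨h1, h2⟩, h3⟩

end CfsgLib.Twisted
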