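import Cfsg.Agent.Lib.TwistedStr.Weyl
import Cfsg.Agent.Lib.Twisted.TypeG2

/-! The twisted Weyl group of type ²G₂ and its Poincaré polynomial. -/

set_option autoImplicit false

namespace CfsgLib.Twisted

open Cfsg.Lie CfsgLib.ChevStr

/-- Words for the longest elements of the orbits. -/
def g2TwistWord : Fin 1 → List (Fin chevG2.rank) := fun _ =>
  [⟨0, by decide⟩, ⟨1, by decide⟩, ⟨0, by decide⟩, ⟨1, by decide⟩, ⟨0, by decide⟩, ⟨1, by decide⟩]

/-- The lengths and words of the generators. -/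
def g2TwistWords : List (ℕ × List ℕ) := [(6, [0, 1, 0, 1, 0, 1])]

theorem g2_rho_neg : ∀ r : Fin chevG2.nroots, chevG2.IsNegRoot r → chevG2.IsNegRoot (rhoG2 r) := by
  decide +kernel

theorem g2_word_mem : ∀ i, ∀ j ∈ g2TwistWord i, j ∈ nodesG2 i := by decide +kernel

theorem g2_word_neg : ∀ i, ∀ j ∈ nodesG2 i, chevG2.IsNegRoot
    (reflDataG2.wordPerm (g2TwistWord i) ⟨chevG2.simple j.val, rootDataG2.simple_lt j⟩) := by
  decide +kernel

theorem g2_word_comm : ∀ i, ∀ r, rhoG2 (reflDataG2.wordPerm (g2TwistWord i) r) =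
    reflDataG2.wordPerm (g2TwistWord i) (rhoG2 r) := by
  decide +kernel

theorem g2_word_spec : g2TwistWords = (List.finRange 1).map fun i =>
    ((Finset.univ.filter fun s : Fin chevG2.nroots => chevG2.IsPosRoot s.val ∧
      chevG2.IsNegRoot (reflDataG2.wordPerm (g2TwistWord i) s)).card,
        (g2TwistWord i).map fun j : Fin chevG2.rank => j.val) := by
  decide +kernel

theorem g2_counts : twistCounts chevG2 g2TwistWords 6 =
    [1, 0, 0, 0, 0, 0, 1] := by
  decide +kernel

theorem sum_twistSetG2 (f : ℕ → ℕ) :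
    ∑ w ∈ twistSet reflDataG2 rhoG2, f (reflDataG2.invSet w).card =
      ∑ m ∈ Finset.range 7, ([1, 0, 0, 0, 0, 0, 1] : List ℕ).getD m 0 * f m := by
  rw [← g2_counts]
  refine sum_twistSet reflDataG2 orbG2 g2_rho_neg g2TwistWord
    (fun i => ⟨g2_word_mem i, g2_word_neg i, g2_word_comm i⟩) (List.finRange 1) List.mem_finRange _ ?_
    (by decide +kernel) f
  rw [g2_word_spec]
  refine List.map_congr_left fun i _ => ?_
  congr 2

end CfsgLib.Twisted
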